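/- The orbits of Co2, Co3, McL, HS, M22, U4(3) on minimal vectors (standard configuration). -/
import Cfsg.Agent.H77.Shell
import Cfsg.Agent.H77.OrbCo2
import Cfsg.Agent.H77.OrbCo2z
import Cfsg.Agent.H77.OrbCo3
import Cfsg.Agent.H77.OrbCo3z
import Cfsg.Agent.H77.OrbMcL
import Cfsg.Agent.H77.OrbHS

set_option autoImplicit false

namespace H77

open Cfsg H72 MulAction

attribute [local irreducible] vecOf PM.el

/-- (4, 4, 0, ...). -/
noncomputable abbrev vU : leechLattice := vecOf cU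
/-- (-5, -1, ...). -/
noncomputable abbrev vV : leechLattice := vecOf cV
/-- (4, -4, 0, ...). -/
noncomputable abbrev vU1 : leechLattice := vecOf cU1
/-- (1, -3, 1, ...). -/
noncomputable abbrev vW : leechLattice := vecOf cW
/-- (4, 0, 4, 0, ...). -/
noncomputable abbrev vX : leechLattice := vecOf cX

theorem nm_U : nm vU = 32 := nm_vecOf (by decide +kernel)
theorem nm_V : nm vV = 48 := nm_vecOf (by decide +kernel)
theorem nm_U1 : nm vU1 = 32 := nm_vecOf (by decide +kernel)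
theorem nm_W : nm vW = 32 := nm_vecOf (by decide +kernel)
theorem nm_X : nm vX = 32 := nm_vecOf (by decide +kernel)
theorem dt_VU : dt vV vU = -24 := dt_vecOf (by decide +kernel)
theorem dt_VU1 : dt vV vU1 = -16 := dt_vecOf (by decide +kernel)
theorem dt_UU1 : dt vU vU1 = 0 := dt_vecOf (by decide +kernel)
theorem dt_U1U : dt vU1 vU = 0 := dt_vecOf (by decide +kernel)
theorem dt_VW : dt vV vW = -24 := dt_vecOf (by decide +kernel)
theorem dt_UW : dt vU vW = -8 := dt_vecOf (by decide +kernel)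
theorem dt_VX : dt vV vX = -24 := dt_vecOf (by decide +kernel)
theorem dt_UX : dt vU vX = 16 := dt_vecOf (by decide +kernel)

theorem vU_eq : Spor.leechU = vU :=
  eq_vecOf (x := Spor.leechU) (show sqNorm Spor.vecU ≤ 64 by decide +kernel) cU_isS (by decide +kernel)
theorem vV_eq : Spor.leechV = vV :=
  eq_vecOf (x := Spor.leechV) (show sqNorm Spor.vecV ≤ 64 by decide +kernel) cV_isS (by decide +kernel)
theorem vU1_eq : Spor.leechU' = vU1 :=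
  eq_vecOf (x := Spor.leechU') (show sqNorm Spor.vecU' ≤ 64 by decide +kernel) cU1_isS (by decide +kernel)

theorem vW_eq : vW = -(vU + vV) := by
  apply eq_of_nm_sub
  rw [sub_neg_eq_add, nm_add, nm_add, dt_add_right, nm_U, nm_V, nm_W, dt_comm vW, dt_comm vW,
    dt_comm vU vV, dt_VU, dt_VW, dt_UW]
  norm_num

/-- the orbits of Co2 on the minimal vectors. -/
theorem co2_census :
    (IsOrb (St1 vU) (S1 vU 32) 1 ∧
    IsOrb (St1 vU) (S1 vU 16) 4600 ∧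
    IsOrb (St1 vU) (S1 vU 8) 47104 ∧
    IsOrb (St1 vU) (S1 vU 0) 93150 ∧
    IsOrb (St1 vU) (S1 vU (-8)) 47104 ∧
    IsOrb (St1 vU) (S1 vU (-16)) 4600 ∧
    IsOrb (St1 vU) (S1 vU (-32)) 1) ∧
    ∀ y ∈ S0, dt vU y = 32 ∨ dt vU y = 16 ∨ dt vU y = 8 ∨ dt vU y = 0 ∨ dt vU y = -8 ∨ dt vU y = -16 ∨ dt vU y = -32 := by
  have h := part_isOrb (ι := Fin 7) (St1 vU) finite_S0 S0_inv vU (fun _ h => h)
    ![vU, vecOf co2o0c, vecOf co2o1c, vecOf co2o2c, -vecOf co2o1c, -vecOf co2o0c, -vU]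
    ![32, 16, 8, 0, -8, -16, -32] ![1, 4600, 47104, 93150, 47104, 4600, 1] (by decide) ?_ ?_ (by rw [ncard_S0]; decide)
  · simp only [Fin.forall_fin_succ, Fin.exists_fin_succ, Matrix.cons_val_zero, Matrix.cons_val_succ,
      IsEmpty.forall_iff, IsEmpty.exists_iff, and_true, or_false] at h
    exact h
  · simp only [Fin.forall_fin_succ, Matrix.cons_val_zero, Matrix.cons_val_succ,
      IsEmpty.forall_iff, and_true]
    exact ⟨⟨nm_vecOf (by decide +kernel), dt_vecOf (by decide +kernel)⟩,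
      ⟨nm_vecOf (by decide +kernel), dt_vecOf (by decide +kernel)⟩,
      ⟨nm_vecOf (by decide +kernel), dt_vecOf (by decide +kernel)⟩,
      ⟨nm_vecOf (by decide +kernel), dt_vecOf (by decide +kernel)⟩,
      ⟨(nm_neg _).trans (nm_vecOf (by decide +kernel)), (dt_neg_right _ _).trans (congrArg Neg.neg (dt_vecOf (z := 8) (by decide +kernel)))⟩,
      ⟨(nm_neg _).trans (nm_vecOf (by decide +kernel)), (dt_neg_right _ _).trans (congrArg Neg.neg (dt_vecOf (z := 16) (by decide +kernel)))⟩,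
      ⟨(nm_neg _).trans (nm_vecOf (by decide +kernel)), (dt_neg_right _ _).trans (congrArg Neg.neg (dt_vecOf (z := 32) (by decide +kernel)))⟩⟩
  · simp only [Fin.forall_fin_succ, Matrix.cons_val_zero, Matrix.cons_val_succ,
      IsEmpty.forall_iff, and_true]
    exact ⟨one_le_ncard_orbit _ (short_vecOf cU_isS),
      co2o0_lb (mem_St1.2 co2a_cU) (mem_St1.2 co2b_cU),
      co2o1_lb (mem_St1.2 co2a_cU) (mem_St1.2 co2b_cU),
      co2o2_lb (mem_St1.2 co2a_cU) (mem_St1.2 co2b_cU),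
      (ncard_orbit_neg _ _).symm ▸ co2o1_lb (mem_St1.2 co2a_cU) (mem_St1.2 co2b_cU),
      (ncard_orbit_neg _ _).symm ▸ co2o0_lb (mem_St1.2 co2a_cU) (mem_St1.2 co2b_cU),
      one_le_ncard_orbit _ (short_of_nm ((nm_neg _).trans (nm_vecOf (z := 32) (by decide +kernel))))⟩

/-- the orbits of Co3 on the minimal vectors. -/
theorem co3_census :
    (IsOrb (St1 vV) (S1 vV (-24)) 552 ∧
    IsOrb (St1 vV) (S1 vV (-16)) 11178 ∧
    IsOrb (St1 vV) (S1 vV (-8)) 48600 ∧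
    IsOrb (St1 vV) (S1 vV 0) 75900 ∧
    IsOrb (St1 vV) (S1 vV 8) 48600 ∧
    IsOrb (St1 vV) (S1 vV 16) 11178 ∧
    IsOrb (St1 vV) (S1 vV 24) 552) ∧
    ∀ y ∈ S0, dt vV y = -24 ∨ dt vV y = -16 ∨ dt vV y = -8 ∨ dt vV y = 0 ∨ dt vV y = 8 ∨ dt vV y = 16 ∨ dt vV y = 24 := by
  have h := part_isOrb (ι := Fin 7) (St1 vV) finite_S0 S0_inv vV (fun _ h => h)
    ![vecOf co3o0c, vecOf co3o1c, vecOf co3o2c, vecOf co3o3c, -vecOf co3o2c, -vecOf co3o1c, -vecOf co3o0c]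
    ![-24, -16, -8, 0, 8, 16, 24] ![552, 11178, 48600, 75900, 48600, 11178, 552] (by decide) ?_ ?_ (by rw [ncard_S0]; decide)
  · simp only [Fin.forall_fin_succ, Fin.exists_fin_succ, Matrix.cons_val_zero, Matrix.cons_val_succ,
      IsEmpty.forall_iff, IsEmpty.exists_iff, and_true, or_false] at h
    exact h
  · simp only [Fin.forall_fin_succ, Matrix.cons_val_zero, Matrix.cons_val_succ,
      IsEmpty.forall_iff, and_true]
    exact ⟨⟨nm_vecOf (by decide +kernel), dt_vecOf (by decide +kernel)⟩,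
      ⟨nm_vecOf (by decide +kernel), dt_vecOf (by decide +kernel)⟩,
      ⟨nm_vecOf (by decide +kernel), dt_vecOf (by decide +kernel)⟩,
      ⟨nm_vecOf (by decide +kernel), dt_vecOf (by decide +kernel)⟩,
      ⟨(nm_neg _).trans (nm_vecOf (by decide +kernel)), (dt_neg_right _ _).trans (congrArg Neg.neg (dt_vecOf (z := -8) (by decide +kernel)))⟩,
      ⟨(nm_neg _).trans (nm_vecOf (by decide +kernel)), (dt_neg_right _ _).trans (congrArg Neg.neg (dt_vecOf (z := -16) (by decide +kernel)))⟩,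
      ⟨(nm_neg _).trans (nm_vecOf (by decide +kernel)), (dt_neg_right _ _).trans (congrArg Neg.neg (dt_vecOf (z := -24) (by decide +kernel)))⟩⟩
  · simp only [Fin.forall_fin_succ, Matrix.cons_val_zero, Matrix.cons_val_succ,
      IsEmpty.forall_iff, and_true]
    exact ⟨co3o0_lb (mem_St1.2 co3a_cV) (mem_St1.2 co3b_cV),
      co3o1_lb (mem_St1.2 co3a_cV) (mem_St1.2 co3b_cV),
      co3o2_lb (mem_St1.2 co3a_cV) (mem_St1.2 co3b_cV),
      co3o3_lb (mem_St1.2 co3a_cV) (mem_St1.2 co3b_cV),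
      (ncard_orbit_neg _ _).symm ▸ co3o2_lb (mem_St1.2 co3a_cV) (mem_St1.2 co3b_cV),
      (ncard_orbit_neg _ _).symm ▸ co3o1_lb (mem_St1.2 co3a_cV) (mem_St1.2 co3b_cV),
      (ncard_orbit_neg _ _).symm ▸ co3o0_lb (mem_St1.2 co3a_cV) (mem_St1.2 co3b_cV)⟩

/-- McL on 552 vectors. -/
theorem mcl_552 :
    (IsOrb (St2 vV vU) (S2 vV (-24) vU 32) 1 ∧
    IsOrb (St2 vV vU) (S2 vV (-24) vU 16) 275 ∧
    IsOrb (St2 vV vU) (S2 vV (-24) vU 8) 275 ∧
    IsOrb (St2 vV vU) (S2 vV (-24) vU (-8)) 1) ∧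
    ∀ y ∈ S1 vV (-24), dt vU y = 32 ∨ dt vU y = 16 ∨ dt vU y = 8 ∨ dt vU y = -8 := by
  have h := part_isOrb (ι := Fin 4) (St2 vV vU) (finite_S1 vV (-24)) (S1_inv fun _ h => h.1) vU (fun _ h => h.2)
    ![vU, vecOf mclo0c, vecOf mclo1c, vW]
    ![32, 16, 8, -8] ![1, 275, 275, 1] (by decide) ?_ ?_ (by rw [co3_census.1.1.1]; decide)
  · simp only [Fin.forall_fin_succ, Fin.exists_fin_succ, Matrix.cons_val_zero, Matrix.cons_val_succ,
      IsEmpty.forall_iff, IsEmpty.exists_iff, and_true, or_false] at h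
    exact h
  · simp only [Fin.forall_fin_succ, Matrix.cons_val_zero, Matrix.cons_val_succ,
      IsEmpty.forall_iff, and_true]
    exact ⟨⟨⟨nm_vecOf (by decide +kernel), dt_vecOf (by decide +kernel)⟩, dt_vecOf (by decide +kernel)⟩,
      ⟨⟨nm_vecOf (by decide +kernel), dt_vecOf (by decide +kernel)⟩, dt_vecOf (by decide +kernel)⟩,
      ⟨⟨nm_vecOf (by decide +kernel), dt_vecOf (by decide +kernel)⟩, dt_vecOf (by decide +kernel)⟩,
      ⟨⟨nm_vecOf (by decide +kernel), dt_vecOf (by decide +kernel)⟩, dt_vecOf (by decide +kernel)⟩⟩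
  · simp only [Fin.forall_fin_succ, Matrix.cons_val_zero, Matrix.cons_val_succ,
      IsEmpty.forall_iff, and_true]
    exact ⟨one_le_ncard_orbit _ (short_vecOf cU_isS),
      mclo0_lb (mem_St2.2 ⟨mcla_cV, mcla_cU⟩) (mem_St2.2 ⟨mclb_cV, mclb_cU⟩),
      mclo1_lb (mem_St2.2 ⟨mcla_cV, mcla_cU⟩) (mem_St2.2 ⟨mclb_cV, mclb_cU⟩),
      one_le_ncard_orbit _ (short_vecOf cW_isS)⟩

/-- McL on 11178 vectors. -/
theorem mcl_11178 :
    (IsOrb (St2 vV vU) (S2 vV (-16) vU 0) 2025 ∧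
    IsOrb (St2 vV vU) (S2 vV (-16) vU 8) 7128 ∧
    IsOrb (St2 vV vU) (S2 vV (-16) vU 16) 2025) ∧
    ∀ y ∈ S1 vV (-16), dt vU y = 0 ∨ dt vU y = 8 ∨ dt vU y = 16 := by
  have h := part_isOrb (ι := Fin 3) (St2 vV vU) (finite_S1 vV (-16)) (S1_inv fun _ h => h.1) vU (fun _ h => h.2)
    ![vecOf mclo2c, vecOf mclo3c, vecOf mclo4c]
    ![0, 8, 16] ![2025, 7128, 2025] (by decide) ?_ ?_ (by rw [co3_census.1.2.1.1]; decide)
  · simp only [Fin.forall_fin_succ, Fin.exists_fin_succ, Matrix.cons_val_zero, Matrix.cons_val_succ,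
      IsEmpty.forall_iff, IsEmpty.exists_iff, and_true, or_false] at h
    exact h
  · simp only [Fin.forall_fin_succ, Matrix.cons_val_zero, Matrix.cons_val_succ,
      IsEmpty.forall_iff, and_true]
    exact ⟨⟨⟨nm_vecOf (by decide +kernel), dt_vecOf (by decide +kernel)⟩, dt_vecOf (by decide +kernel)⟩,
      ⟨⟨nm_vecOf (by decide +kernel), dt_vecOf (by decide +kernel)⟩, dt_vecOf (by decide +kernel)⟩,
      ⟨⟨nm_vecOf (by decide +kernel), dt_vecOf (by decide +kernel)⟩, dt_vecOf (by decide +kernel)⟩⟩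
  · simp only [Fin.forall_fin_succ, Matrix.cons_val_zero, Matrix.cons_val_succ,
      IsEmpty.forall_iff, and_true]
    exact ⟨mclo2_lb (mem_St2.2 ⟨mcla_cV, mcla_cU⟩) (mem_St2.2 ⟨mclb_cV, mclb_cU⟩),
      mclo3_lb (mem_St2.2 ⟨mcla_cV, mcla_cU⟩) (mem_St2.2 ⟨mclb_cV, mclb_cU⟩),
      mclo4_lb (mem_St2.2 ⟨mcla_cV, mcla_cU⟩) (mem_St2.2 ⟨mclb_cV, mclb_cU⟩)⟩

/-- McL on 47104 vectors. -/
theorem mcl_47104 :
    (IsOrb (St2 vV vU) (S2 vU (-8) vV (-24)) 1 ∧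
    IsOrb (St2 vV vU) (S2 vU (-8) vV (-8)) 2025 ∧
    IsOrb (St2 vV vU) (S2 vU (-8) vV 0) 15400 ∧
    IsOrb (St2 vV vU) (S2 vU (-8) vV 8) 22275 ∧
    IsOrb (St2 vV vU) (S2 vU (-8) vV 16) 7128 ∧
    IsOrb (St2 vV vU) (S2 vU (-8) vV 24) 275) ∧
    ∀ y ∈ S1 vU (-8), dt vV y = -24 ∨ dt vV y = -8 ∨ dt vV y = 0 ∨ dt vV y = 8 ∨ dt vV y = 16 ∨ dt vV y = 24 := by
  have h := part_isOrb (ι := Fin 6) (St2 vV vU) (finite_S1 vU (-8)) (S1_inv fun _ h => h.2) vV (fun _ h => h.1)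
    ![vW, vecOf mclo7c, vecOf mclo5c, vecOf mclo6c, -vecOf mclo3c, -vecOf mclo1c]
    ![-24, -8, 0, 8, 16, 24] ![1, 2025, 15400, 22275, 7128, 275] (by decide) ?_ ?_ (by rw [co2_census.1.2.2.2.2.1.1]; decide)
  · simp only [Fin.forall_fin_succ, Fin.exists_fin_succ, Matrix.cons_val_zero, Matrix.cons_val_succ,
      IsEmpty.forall_iff, IsEmpty.exists_iff, and_true, or_false] at h
    exact h
  · simp only [Fin.forall_fin_succ, Matrix.cons_val_zero, Matrix.cons_val_succ,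
      IsEmpty.forall_iff, and_true]
    exact ⟨⟨⟨nm_vecOf (by decide +kernel), dt_vecOf (by decide +kernel)⟩, dt_vecOf (by decide +kernel)⟩,
      ⟨⟨nm_vecOf (by decide +kernel), dt_vecOf (by decide +kernel)⟩, dt_vecOf (by decide +kernel)⟩,
      ⟨⟨nm_vecOf (by decide +kernel), dt_vecOf (by decide +kernel)⟩, dt_vecOf (by decide +kernel)⟩,
      ⟨⟨nm_vecOf (by decide +kernel), dt_vecOf (by decide +kernel)⟩, dt_vecOf (by decide +kernel)⟩,
      ⟨⟨(nm_neg _).trans (nm_vecOf (by decide +kernel)), (dt_neg_right _ _).trans (congrArg Neg.neg (dt_vecOf (z := 8) (by decide +kernel)))⟩, (dt_neg_right _ _).trans (congrArg Neg.neg (dt_vecOf (z := -16) (by decide +kernel)))⟩,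
      ⟨⟨(nm_neg _).trans (nm_vecOf (by decide +kernel)), (dt_neg_right _ _).trans (congrArg Neg.neg (dt_vecOf (z := 8) (by decide +kernel)))⟩, (dt_neg_right _ _).trans (congrArg Neg.neg (dt_vecOf (z := -24) (by decide +kernel)))⟩⟩
  · simp only [Fin.forall_fin_succ, Matrix.cons_val_zero, Matrix.cons_val_succ,
      IsEmpty.forall_iff, and_true]
    exact ⟨one_le_ncard_orbit _ (short_vecOf cW_isS),
      mclo7_lb (mem_St2.2 ⟨mcla_cV, mcla_cU⟩) (mem_St2.2 ⟨mclb_cV, mclb_cU⟩),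
      mclo5_lb (mem_St2.2 ⟨mcla_cV, mcla_cU⟩) (mem_St2.2 ⟨mclb_cV, mclb_cU⟩),
      mclo6_lb (mem_St2.2 ⟨mcla_cV, mcla_cU⟩) (mem_St2.2 ⟨mclb_cV, mclb_cU⟩),
      (ncard_orbit_neg _ _).symm ▸ mclo3_lb (mem_St2.2 ⟨mcla_cV, mcla_cU⟩) (mem_St2.2 ⟨mclb_cV, mclb_cU⟩),
      (ncard_orbit_neg _ _).symm ▸ mclo1_lb (mem_St2.2 ⟨mcla_cV, mcla_cU⟩) (mem_St2.2 ⟨mclb_cV, mclb_cU⟩)⟩

/-- HS on 552 vectors. -/
theorem hs_552 :
    (IsOrb (St2 vV vU1) (S2 vV (-24) vU1 0) 100 ∧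
    IsOrb (St2 vV vU1) (S2 vV (-24) vU1 8) 352 ∧
    IsOrb (St2 vV vU1) (S2 vV (-24) vU1 16) 100) ∧
    ∀ y ∈ S1 vV (-24), dt vU1 y = 0 ∨ dt vU1 y = 8 ∨ dt vU1 y = 16 := by
  have h := part_isOrb (ι := Fin 3) (St2 vV vU1) (finite_S1 vV (-24)) (S1_inv fun _ h => h.1) vU1 (fun _ h => h.2)
    ![vecOf hso0c, vecOf hso1c, vecOf hso2c]
    ![0, 8, 16] ![100, 352, 100] (by decide) ?_ ?_ (by rw [co3_census.1.1.1]; decide)
  · simp only [Fin.forall_fin_succ, Fin.exists_fin_succ, Matrix.cons_val_zero, Matrix.cons_val_succ,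
      IsEmpty.forall_iff, IsEmpty.exists_iff, and_true, or_false] at h
    exact h
  · simp only [Fin.forall_fin_succ, Matrix.cons_val_zero, Matrix.cons_val_succ,
      IsEmpty.forall_iff, and_true]
    exact ⟨⟨⟨nm_vecOf (by decide +kernel), dt_vecOf (by decide +kernel)⟩, dt_vecOf (by decide +kernel)⟩,
      ⟨⟨nm_vecOf (by decide +kernel), dt_vecOf (by decide +kernel)⟩, dt_vecOf (by decide +kernel)⟩,
      ⟨⟨nm_vecOf (by decide +kernel), dt_vecOf (by decide +kernel)⟩, dt_vecOf (by decide +kernel)⟩⟩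
  · simp only [Fin.forall_fin_succ, Matrix.cons_val_zero, Matrix.cons_val_succ,
      IsEmpty.forall_iff, and_true]
    exact ⟨hso0_lb (mem_St2.2 ⟨hsa_cV, hsa_cU1⟩) (mem_St2.2 ⟨hsb_cV, hsb_cU1⟩),
      hso1_lb (mem_St2.2 ⟨hsa_cV, hsa_cU1⟩) (mem_St2.2 ⟨hsb_cV, hsb_cU1⟩),
      hso2_lb (mem_St2.2 ⟨hsa_cV, hsa_cU1⟩) (mem_St2.2 ⟨hsb_cV, hsb_cU1⟩)⟩

/-- HS on 11178 vectors. -/
theorem hs_11178 :
    (IsOrb (St2 vV vU1) (S2 vV (-16) vU1 32) 1 ∧
    IsOrb (St2 vV vU1) (S2 vV (-16) vU1 16) 1100 ∧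
    IsOrb (St2 vV vU1) (S2 vV (-16) vU1 8) 5600 ∧
    IsOrb (St2 vV vU1) (S2 vV (-16) vU1 0) 4125 ∧
    IsOrb (St2 vV vU1) (S2 vV (-16) vU1 (-8)) 352) ∧
    ∀ y ∈ S1 vV (-16), dt vU1 y = 32 ∨ dt vU1 y = 16 ∨ dt vU1 y = 8 ∨ dt vU1 y = 0 ∨ dt vU1 y = -8 := by
  have h := part_isOrb (ι := Fin 5) (St2 vV vU1) (finite_S1 vV (-16)) (S1_inv fun _ h => h.1) vU1 (fun _ h => h.2)
    ![vU1, vecOf hso3c, vecOf hso4c, vecOf hso5c, vecOf hso6c]
    ![32, 16, 8, 0, -8] ![1, 1100, 5600, 4125, 352] (by decide) ?_ ?_ (by rw [co3_census.1.2.1.1]; decide)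
  · simp only [Fin.forall_fin_succ, Fin.exists_fin_succ, Matrix.cons_val_zero, Matrix.cons_val_succ,
      IsEmpty.forall_iff, IsEmpty.exists_iff, and_true, or_false] at h
    exact h
  · simp only [Fin.forall_fin_succ, Matrix.cons_val_zero, Matrix.cons_val_succ,
      IsEmpty.forall_iff, and_true]
    exact ⟨⟨⟨nm_vecOf (by decide +kernel), dt_vecOf (by decide +kernel)⟩, dt_vecOf (by decide +kernel)⟩,
      ⟨⟨nm_vecOf (by decide +kernel), dt_vecOf (by decide +kernel)⟩, dt_vecOf (by decide +kernel)⟩,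
      ⟨⟨nm_vecOf (by decide +kernel), dt_vecOf (by decide +kernel)⟩, dt_vecOf (by decide +kernel)⟩,
      ⟨⟨nm_vecOf (by decide +kernel), dt_vecOf (by decide +kernel)⟩, dt_vecOf (by decide +kernel)⟩,
      ⟨⟨nm_vecOf (by decide +kernel), dt_vecOf (by decide +kernel)⟩, dt_vecOf (by decide +kernel)⟩⟩
  · simp only [Fin.forall_fin_succ, Matrix.cons_val_zero, Matrix.cons_val_succ,
      IsEmpty.forall_iff, and_true]
    exact ⟨one_le_ncard_orbit _ (short_vecOf cU1_isS),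
      hso3_lb (mem_St2.2 ⟨hsa_cV, hsa_cU1⟩) (mem_St2.2 ⟨hsb_cV, hsb_cU1⟩),
      hso4_lb (mem_St2.2 ⟨hsa_cV, hsa_cU1⟩) (mem_St2.2 ⟨hsb_cV, hsb_cU1⟩),
      hso5_lb (mem_St2.2 ⟨hsa_cV, hsa_cU1⟩) (mem_St2.2 ⟨hsb_cV, hsb_cU1⟩),
      hso6_lb (mem_St2.2 ⟨hsa_cV, hsa_cU1⟩) (mem_St2.2 ⟨hsb_cV, hsb_cU1⟩)⟩

/-- M22 on 100 vectors. -/
theorem m22_100 :
    (IsOrb (St3 vV vU vU1) (S3 vV (-24) vU1 0 vU 32) 1 ∧
    IsOrb (St3 vV vU vU1) (S3 vV (-24) vU1 0 vU 16) 77 ∧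
    IsOrb (St3 vV vU vU1) (S3 vV (-24) vU1 0 vU 8) 22) ∧
    ∀ y ∈ S2 vV (-24) vU1 0, dt vU y = 32 ∨ dt vU y = 16 ∨ dt vU y = 8 := by
  have h := part_isOrb (ι := Fin 3) (St3 vV vU vU1) (finite_S2 vV (-24) vU1 0) (S2_inv (fun _ h => h.1.1) fun _ h => h.2) vU (fun _ h => h.1.2)
    ![vU, vecOf m22o0c, vecOf m22o1c]
    ![32, 16, 8] ![1, 77, 22] (by decide) ?_ ?_ (by rw [hs_552.1.1.1]; decide)
  · simp only [Fin.forall_fin_succ, Fin.exists_fin_succ, Matrix.cons_val_zero, Matrix.cons_val_succ,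
      IsEmpty.forall_iff, IsEmpty.exists_iff, and_true, or_false] at h
    exact h
  · simp only [Fin.forall_fin_succ, Matrix.cons_val_zero, Matrix.cons_val_succ,
      IsEmpty.forall_iff, and_true]
    exact ⟨⟨⟨⟨nm_vecOf (by decide +kernel), dt_vecOf (by decide +kernel)⟩, dt_vecOf (by decide +kernel)⟩, dt_vecOf (by decide +kernel)⟩,
      ⟨⟨⟨nm_vecOf (by decide +kernel), dt_vecOf (by decide +kernel)⟩, dt_vecOf (by decide +kernel)⟩, dt_vecOf (by decide +kernel)⟩,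
      ⟨⟨⟨nm_vecOf (by decide +kernel), dt_vecOf (by decide +kernel)⟩, dt_vecOf (by decide +kernel)⟩, dt_vecOf (by decide +kernel)⟩⟩
  · simp only [Fin.forall_fin_succ, Matrix.cons_val_zero, Matrix.cons_val_succ,
      IsEmpty.forall_iff, and_true]
    exact ⟨one_le_ncard_orbit _ (short_vecOf cU_isS),
      m22o0_lb (mem_St3.2 ⟨m22a_cV, m22a_cU, m22a_cU1⟩) (mem_St3.2 ⟨m22b_cV, m22b_cU, m22b_cU1⟩),
      m22o1_lb (mem_St3.2 ⟨m22a_cV, m22a_cU, m22a_cU1⟩) (mem_St3.2 ⟨m22b_cV, m22b_cU, m22b_cU1⟩)⟩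

/-- M22 on 2025 vectors. -/
theorem m22_2025 :
    (IsOrb (St3 vV vU vU1) (S3 vV (-16) vU 0 vU1 32) 1 ∧
    IsOrb (St3 vV vU vU1) (S3 vV (-16) vU 0 vU1 16) 462 ∧
    IsOrb (St3 vV vU vU1) (S3 vV (-16) vU 0 vU1 8) 1232 ∧
    IsOrb (St3 vV vU vU1) (S3 vV (-16) vU 0 vU1 0) 330) ∧
    ∀ y ∈ S2 vV (-16) vU 0, dt vU1 y = 32 ∨ dt vU1 y = 16 ∨ dt vU1 y = 8 ∨ dt vU1 y = 0 := by
  have h := part_isOrb (ι := Fin 4) (St3 vV vU vU1) (finite_S2 vV (-16) vU 0) (S2_inv (fun _ h => h.1.1) fun _ h => h.1.2) vU1 (fun _ h => h.2)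
    ![vU1, vecOf m22o2c, vecOf m22o3c, vecOf m22o4c]
    ![32, 16, 8, 0] ![1, 462, 1232, 330] (by decide) ?_ ?_ (by rw [mcl_11178.1.1.1]; decide)
  · simp only [Fin.forall_fin_succ, Fin.exists_fin_succ, Matrix.cons_val_zero, Matrix.cons_val_succ,
      IsEmpty.forall_iff, IsEmpty.exists_iff, and_true, or_false] at h
    exact h
  · simp only [Fin.forall_fin_succ, Matrix.cons_val_zero, Matrix.cons_val_succ,
      IsEmpty.forall_iff, and_true]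
    exact ⟨⟨⟨⟨nm_vecOf (by decide +kernel), dt_vecOf (by decide +kernel)⟩, dt_vecOf (by decide +kernel)⟩, dt_vecOf (by decide +kernel)⟩,
      ⟨⟨⟨nm_vecOf (by decide +kernel), dt_vecOf (by decide +kernel)⟩, dt_vecOf (by decide +kernel)⟩, dt_vecOf (by decide +kernel)⟩,
      ⟨⟨⟨nm_vecOf (by decide +kernel), dt_vecOf (by decide +kernel)⟩, dt_vecOf (by decide +kernel)⟩, dt_vecOf (by decide +kernel)⟩,
      ⟨⟨⟨nm_vecOf (by decide +kernel), dt_vecOf (by decide +kernel)⟩, dt_vecOf (by decide +kernel)⟩, dt_vecOf (by decide +kernel)⟩⟩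
  · simp only [Fin.forall_fin_succ, Matrix.cons_val_zero, Matrix.cons_val_succ,
      IsEmpty.forall_iff, and_true]
    exact ⟨one_le_ncard_orbit _ (short_vecOf cU1_isS),
      m22o2_lb (mem_St3.2 ⟨m22a_cV, m22a_cU, m22a_cU1⟩) (mem_St3.2 ⟨m22b_cV, m22b_cU, m22b_cU1⟩),
      m22o3_lb (mem_St3.2 ⟨m22a_cV, m22a_cU, m22a_cU1⟩) (mem_St3.2 ⟨m22b_cV, m22b_cU, m22b_cU1⟩),
      m22o4_lb (mem_St3.2 ⟨m22a_cV, m22a_cU, m22a_cU1⟩) (mem_St3.2 ⟨m22b_cV, m22b_cU, m22b_cU1⟩)⟩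

/-- U4(3) on 275 vectors. -/
theorem u43_275 :
    (IsOrb (St3 vV vU vX) (S3 vV (-24) vU 16 vX 32) 1 ∧
    IsOrb (St3 vV vU vX) (S3 vV (-24) vU 16 vX 16) 162 ∧
    IsOrb (St3 vV vU vX) (S3 vV (-24) vU 16 vX 8) 112) ∧
    ∀ y ∈ S2 vV (-24) vU 16, dt vX y = 32 ∨ dt vX y = 16 ∨ dt vX y = 8 := by
  have h := part_isOrb (ι := Fin 3) (St3 vV vU vX) (finite_S2 vV (-24) vU 16) (S2_inv (fun _ h => h.1.1) fun _ h => h.1.2) vX (fun _ h => h.2)
    ![vX, vecOf u43o0c, vecOf u43o1c]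
    ![32, 16, 8] ![1, 162, 112] (by decide) ?_ ?_ (by rw [mcl_552.1.2.1.1]; decide)
  · simp only [Fin.forall_fin_succ, Fin.exists_fin_succ, Matrix.cons_val_zero, Matrix.cons_val_succ,
      IsEmpty.forall_iff, IsEmpty.exists_iff, and_true, or_false] at h
    exact h
  · simp only [Fin.forall_fin_succ, Matrix.cons_val_zero, Matrix.cons_val_succ,
      IsEmpty.forall_iff, and_true]
    exact ⟨⟨⟨⟨nm_vecOf (by decide +kernel), dt_vecOf (by decide +kernel)⟩, dt_vecOf (by decide +kernel)⟩, dt_vecOf (by decide +kernel)⟩,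
      ⟨⟨⟨nm_vecOf (by decide +kernel), dt_vecOf (by decide +kernel)⟩, dt_vecOf (by decide +kernel)⟩, dt_vecOf (by decide +kernel)⟩,
      ⟨⟨⟨nm_vecOf (by decide +kernel), dt_vecOf (by decide +kernel)⟩, dt_vecOf (by decide +kernel)⟩, dt_vecOf (by decide +kernel)⟩⟩
  · simp only [Fin.forall_fin_succ, Matrix.cons_val_zero, Matrix.cons_val_succ,
      IsEmpty.forall_iff, and_true]
    exact ⟨one_le_ncard_orbit _ (short_vecOf cX_isS),
      u43o0_lb (mem_St3.2 ⟨u43a_cV, u43a_cU, u43a_cX⟩) (mem_St3.2 ⟨u43b_cV, u43b_cU, u43b_cX⟩),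
      u43o1_lb (mem_St3.2 ⟨u43a_cV, u43a_cU, u43a_cX⟩) (mem_St3.2 ⟨u43b_cV, u43b_cU, u43b_cX⟩)⟩

end H77
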