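/- All labelled covers of the BM tower. -/
import Cfsg.Agent.H77.CvK0
import Cfsg.Agent.H77.CvK1
import Cfsg.Agent.H77.CvK2
import Cfsg.Agent.H77.CvK3
import Cfsg.Agent.H77.CvK4
import Cfsg.Agent.H77.CvB0
import Cfsg.Agent.H77.CvB1
import Cfsg.Agent.H77.CvB2
import Cfsg.Agent.H77.CvB3
import Cfsg.Agent.H77.CvB4
import Cfsg.Agent.H77.CvM0
import Cfsg.Agent.H77.CvM1
import Cfsg.Agent.H77.CvM2
import Cfsg.Agent.H77.CvM3
import Cfsg.Agent.H77.CvM4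
import Cfsg.Agent.H77.CvM5
import Cfsg.Agent.H77.CvM6
import Cfsg.Agent.H77.CvM7
import Cfsg.Agent.H77.CvM8
import Cfsg.Agent.H77.CvM9
import Cfsg.Agent.H77.CvM10
import Cfsg.Agent.H77.CvM11
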