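import Cfsg.Agent.H96.U2ISpec

/-! S3275, chapter U2I: slots HH, Home, U2F, CX. -/

set_option autoImplicit false

namespace H77.DpuHH

open Subgroup Cfsg H98 H48.DP H57.DPC H48.DP2 H96.U2I

universe u

theorem jobHH : HH.{u} := by
  intro G _ _ M H e y ti eM eH e3 yH y3
  have : Fact (Nat.Prime 3) := ⟨Nat.prime_three⟩
  have p3 : ∀ x : G, orderOf x = 3 → IsPGroup 3 (zpowers x) := fun x hx =>
    isPGroup_zpowers (k := 1) (by rw [pow_one, ← hx, pow_orderOf_eq_one])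
  obtain ⟨S, hS, eS⟩ := exists_isSyl_le (p3 e e3) (zpowers_le.2 eH)
  have eS' : e ∈ S := eS (mem_zpowers e)
  have : Nontrivial S := ⟨⟨e, eS'⟩, 1, fun h => by
    have h1 : e = 1 := congrArg Subtype.val h
    rw [h1, orderOf_one] at e3
    omega⟩
  have nt : Nontrivial (center S) := hS.isPGroup.center_nontrivial
  have hd : 3 ∣ Nat.card (center S) :=
    (hS.isPGroup.to_subgroup (center S)).card_eq_or_dvd.resolve_left Finite.one_lt_card.ne'
  obtain ⟨c, hc⟩ := exists_prime_orderOf_dvd_card' 3 hd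
  have c3 : orderOf ((c : S) : G) = 3 := by rw [orderOf_coe, orderOf_coe, hc]
  have cc : ∀ s ∈ S, s * ((c : S) : G) = (c : S) * s := fun s hs =>
    congrArg Subtype.val (mem_center_iff.1 c.2 ⟨s, hs⟩)
  have cM : ((c : S) : G) ∈ M := ti e _ e3 eM (by rw [← cc e eS', mul_inv_cancel_right]; exact eM)
  have SM : S ≤ M := fun s hs => ti _ s c3 cM (by rw [cc s hs, mul_inv_cancel_right]; exact cM)
  obtain ⟨g, hg, h⟩ := hS.exists_cj_le (p3 y y3) (zpowers_le.2 yH)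
  exact ⟨g, hg, SM (h (conj_mem_cj (mem_zpowers y)))⟩

theorem jobHome : JobHome.{u} := by
  intro G _ _ M Q hw y y3
  have : Fact (Nat.Prime 3) := ⟨Nat.prime_three⟩
  obtain ⟨B, BM, hB, hc⟩ := hw.e27
  obtain ⟨e, eB, e1⟩ : ∃ e ∈ B, e ≠ 1 := by
    by_contra h
    push Not at h
    rw [(eq_bot_iff_forall B).2 h, card_bot] at hc
    omega
  obtain ⟨g, -, h⟩ := jobHH G M ⊤ e y hw.ti (BM eB) (mem_top e)
    (orderOf_eq_prime (hB.2 e eB) e1) (mem_top y) y3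
  exact ⟨g, h⟩

variable {G : Type u} [Group G] {M Q T R : Subgroup G} {y t : G}

theorem am_mul (ha : Am M T R y t) : ∀ a ∈ T, ∀ b ∈ T, a ∉ R → b ∉ R → a * b ∈ R :=
  fun a aT b bT aR bR => mem_subgroupOf.1
    ((mul_mem_iff_of_index_two (H := R.subgroupOf T) ha.idx (a := ⟨a, aT⟩) (b := ⟨b, bT⟩)).2
      (iff_of_false aR bR))

theorem q_le (hu : Uq M Q) (ha : Am M T R y t) : Q ≤ T :=
  (isSyl_top_iff.2 ha.syl).le_of_le_normalizer (hu.o2 ▸ isPGroup_pCoreOf M) le_top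
    (ha.TM.trans hu.no.ge)

theorem jobU2F : JobU2F.{u} := by
  intro home u1 u2 G _ _ M Q T R y t hu ha
  have : Fact (Nat.Prime 2) := ⟨Nat.prime_two⟩
  have sy := isSyl_top_iff.2 ha.syl
  obtain ⟨g, hg⟩ := home G M Q hu.toUw y ha.y3
  have x3 : orderOf (g * y * g⁻¹) = 3 := by
    rw [← ha.y3]
    exact (MulAut.conj g).orderOf_eq y
  have hX : ¬ cj g R ≤ M := fun h => by
    have tM : g * t * g⁻¹ ∈ M := hu.ti _ _ x3 hg (by
      have : g * t * g⁻¹ * (g * y * g⁻¹) * (g * t * g⁻¹)⁻¹ = g * (t * y * t⁻¹) * g⁻¹ := by group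
      rw [this, ha.ty]
      simpa [mul_assoc] using inv_mem hg)
    have TM : cj g T ≤ M := by
      rintro _ ⟨a, aT, rfl⟩
      show g * a * g⁻¹ ∈ M
      by_cases aR : a ∈ R
      · exact h (conj_mem_cj aR)
      · have := mul_mem (h (conj_mem_cj (am_mul ha a aT t ha.tT aR ha.tR))) (inv_mem tM)
        simpa [mul_assoc] using this
    obtain ⟨m, hm, e⟩ := (sy.of_le ha.TM le_top).exists_cj_eq
      ((sy.cj_of_mem (mem_top g)).of_le TM le_top)
    have h1 : m⁻¹ * g ∈ No T := cj_eq_self_iff.1 (by rw [← cj_cj, ← e, cj_inv_cj])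
    have h2 : g ∈ M := by
      simpa using mul_mem hm (hu.nq T sy.isPGroup (q_le hu ha) ha.TM h1)
    exact ha.yM (by simpa [mul_assoc] using mul_mem (mul_mem (inv_mem h2) hg) h2)
  have h3 := u2 G M Q (cj g R) _ hu hg x3 (isPGroup_cj g (sy.isPGroup.to_le ha.RT))
    (by rw [No, ← cj_normalizer]; exact conj_mem_cj ha.yR) hX
  refine u1 G M Q T R y t hu ha ((eq_bot_iff_forall _).2 fun r hr => ?_)
  have h4 : y * r = r * y := mem_centralizer_iff.1 hr.2 y rfl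
  have h5 : g * r * g⁻¹ ∈ cj g R ⊓ M := ⟨conj_mem_cj hr.1, hu.ti _ _ x3 hg (by
    have : g * r * g⁻¹ * (g * y * g⁻¹) * (g * r * g⁻¹)⁻¹ = g * (r * y * r⁻¹) * g⁻¹ := by group
    rw [this, ← h4, mul_inv_cancel_right]
    exact hg)⟩
  rw [h3, mem_bot] at h5
  simpa using h5

theorem jobCX : JobCX.{u} := by
  intro f0 G _ _ M Q T R y t hu ha hf
  have sy := isSyl_top_iff.2 ha.syl
  have hR := sy.isPGroup.to_le ha.RT
  refine ⟨sy, ha.TM, q_le hu ha, ha.RT, hu.no.ge, fun g hg => mem_normalizer_of_cj_le ?_, ha.yR, ha.y3,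
    ha.idx, am_mul ha, ?_, fun q qT qR => ?_, fun K h1 h2 h3 => hu.o2 ▸ le_pCoreOf h3 h1 h2, hu.cq,
    hu.e27, hu.ti, f0 G R y hR ha.y3 ha.yR hf⟩
  · rintro _ ⟨r, hr, rfl⟩
    show g * r * g⁻¹ ∈ R
    by_cases gR : g ∈ R
    · exact mul_mem (mul_mem gR hr) (inv_mem gR)
    · exact am_mul ha _ (mul_mem hg (ha.RT hr)) _ (inv_mem hg)
        (fun h => gR ((mul_mem_cancel_right hr).1 h)) fun h => gR (inv_mem_iff.1 h)
  · by_contra h
    push Not at h
    exact ha.yM (hu.nq R hR h (ha.RT.trans ha.TM) ha.yR)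
  · have h1 := am_mul ha q qT _ (inv_mem ha.tT) qR fun h => ha.tR (inv_mem_iff.1 h)
    have : q * y * q⁻¹ * y = q * t⁻¹ * (t * y * t⁻¹ * (q * t⁻¹)⁻¹ * y) := by group
    rw [this, ha.ty]
    exact mul_mem h1 (conj_mem_of_mem_normalizer' ha.yR (inv_mem h1))

end H77.DpuHH
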