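import Cfsg.Agent.H27.R7Spec

/-! Slots E and F3 of the blueprint `R7.md`. -/

set_option autoImplicit false

namespace H77.R7F3
open Subgroup Cfsg H98 H1.Gold H56 H58 H12.OW Module QuadraticMap H27.R7

universe u

section Grp
variable {G : Type u} [Group G] {S M : Subgroup G} {t : Fin 7 → G}

theorem zp2 {f w : G} (h : f * f = 1) (hw : w ∈ zpowers f) : w = 1 ∨ w = f := by
  obtain ⟨n, rfl⟩ := hw
  have h2 : f ^ (2 : ℤ) = 1 := by rw [zpow_two, h]
  rcases Int.even_or_odd' n with ⟨k, rfl | rfl⟩ <;> simp [zpow_add, zpow_mul, h2]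

/-- the group of order two -/
abbrev N2 := Multiplicative (ZMod 2)
/-- its generator -/
def n1 : N2 := Multiplicative.ofAdd 1

theorem n_cases : ∀ a : N2, a = 1 ∨ a = n1 := by decide

/-- the homomorphism given by an involution -/
def h2 (x : G) (h : x * x = 1) : N2 →* G := MonoidHom.mk' (fun a => if a = 1 then 1 else x) (by
  intro a b
  rcases n_cases a with rfl | rfl <;> rcases n_cases b with rfl | rfl <;>
    simp [h, show n1 ≠ 1 by decide, show n1 * n1 = 1 by decide])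

theorem h2_n1 (x : G) (h : x * x = 1) : h2 x h n1 = x :=
  show (if n1 = 1 then 1 else x) = x from if_neg (by decide)

theorem h2_comm {x y : G} {h : x * x = 1} {h' : y * y = 1} (c : Commute x y) (a b : N2) :
    Commute (h2 x h a) (h2 y h' b) := by
  rcases n_cases a with rfl | rfl <;> rcases n_cases b with rfl | rfl <;> simp [h2_n1, c]

/-- the homomorphism given by commuting involutions -/
noncomputable def hp {n : ℕ} (x : Fin n → G) (h : ∀ i, x i * x i = 1)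
    (c : ∀ i j, x i * x j = x j * x i) : (Fin n → N2) →* G :=
  MonoidHom.noncommPiCoprod (fun i => h2 (x i) (h i)) fun i j _ => h2_comm (c i j)

theorem hp_single {n : ℕ} (x : Fin n → G) (h : ∀ i, x i * x i = 1)
    (c : ∀ i j, x i * x j = x j * x i) (i : Fin n) : hp x h c (Pi.mulSingle i n1) = x i :=
  (MonoidHom.noncommPiCoprod_mulSingle (fun i => h2 (x i) (h i)) i n1).trans (h2_n1 ..)

theorem hom_ext {n : ℕ} {f g : (Fin n → N2) →* G}
    (h : ∀ i, f (Pi.mulSingle i n1) = g (Pi.mulSingle i n1)) : f = g :=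
  MonoidHom.pi_ext fun i a => by
    rcases n_cases a with rfl | rfl
    exacts [by simp, h i]

/-- the even vectors vanishing at `0` -/
def J : (Fin 5 → N2) →* (Fin 7 → N2) := MonoidHom.mk'
  (fun y => ![1, y 0 * y 1 * y 2 * y 3 * y 4, y 0, y 1, y 2, y 3, y 4]) fun a b => by
    ext i
    fin_cases i <;> simp
    ac_rfl

variable (o : OF S M t)
include o

theorem ev (σ : Equiv.Perm (Fin 7)) :
    ∃ g : G, ∀ i, σ i ≠ 5 → σ i ≠ 6 → g * t i * g⁻¹ = t (σ i) := by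
  rcases Int.units_eq_one_or (Equiv.Perm.sign σ) with e | e
  · exact (o.tr σ e).imp fun g hg i _ _ => hg i
  · obtain ⟨g, hg⟩ := o.tr (Equiv.swap 5 6 * σ) (by simp [e])
    exact ⟨g, fun i h5 h6 => by
      rw [hg, Equiv.Perm.mul_apply, Equiv.swap_apply_of_ne_of_ne h5 h6]⟩

theorem two {a b : Fin 7} (h : a ≠ b) : ∃ g : G, g * t a * g⁻¹ = t 1 ∧ g * t b * g⁻¹ = t 2 := by
  obtain ⟨g, hg⟩ := ev o (Equiv.swap 2 (Equiv.swap a 1 b) * Equiv.swap a 1)
  obtain ⟨e1, e2⟩ := (by decide : ∀ a b : Fin 7, a ≠ b →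
    (Equiv.swap 2 (Equiv.swap a 1 b) * Equiv.swap a 1) a = 1 ∧
      (Equiv.swap 2 (Equiv.swap a 1 b) * Equiv.swap a 1) b = 2) a b h
  exact ⟨g, e1 ▸ hg a (by rw [e1]; decide) (by rw [e1]; decide),
    e2 ▸ hg b (by rw [e2]; decide) (by rw [e2]; decide)⟩

theorem cj0 (k : Fin 7) : IsConj (t 0) (t k) := by
  have c : ∀ k : Fin 7, IsConj (t k) (t 1) := fun k => by
    obtain ⟨g, hg, -⟩ := two o (a := k) (b := k + 1) (by revert k; decide)
    exact isConj_iff.2 ⟨g, hg⟩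
  exact (c 0).trans (c k).symm

theorem nc {a b : Fin 7} (h : a ≠ b) : ¬ IsConj (t 0) (t a * t b) := fun c => by
  obtain ⟨g, h1, h2⟩ := two o h
  exact o.nc2 (c.trans (isConj_iff.2 ⟨g, by rw [← h1, ← h2, conj_mul]⟩))

theorem tne {a b : Fin 7} (h : a ≠ b) : t a * t b ≠ 1 := fun e => by
  obtain ⟨g, h1, h2⟩ := two o h
  refine o.nc3 ?_
  rw [← h1, ← h2, conj_mul, e, mul_one, mul_inv_cancel, one_mul]
  exact cj0 o 3

theorem tc (k : Fin 7) : t k ∈ cen1 (t 0) := mem_centralizer_singleton_iff.2 (o.com _ _)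

theorem t0M : t 0 ∈ M := by
  have : t 0 = (t 1 * t 2 * (t 3 * t 4) * (t 5 * t 6))⁻¹ :=
    eq_inv_of_mul_eq_one_left (by rw [← o.prod]; group)
  rw [this]
  exact inv_mem (mul_mem (mul_mem (o.tt _ _ (by decide) (by decide))
    (o.tt _ _ (by decide) (by decide))) (o.tt _ _ (by decide) (by decide)))

theorem t0ne : t 0 ≠ 1 := fun e => o.t1 (by
  have := cj0 o 1
  rw [e, isConj_one_right] at this
  rw [this]; exact one_mem _)

variable [Finite G]

theorem card2 : Nat.card ↥(M ⊔ zpowers (t 1)) = 2 * Nat.card M :=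
  have : Fact (Nat.Prime 2) := ⟨Nat.prime_two⟩
  H9.card_sup_zpowers_of_normalizes (o.cM (tc o 1)) o.t1 (by rw [pow_two, o.sq]; exact one_mem _)

theorem fac : (Nat.card M).factorization 2 = 8 := by
  have : Fact (Nat.Prime 2) := ⟨Nat.prime_two⟩
  have h := (o.syl.of_le o.SM le_top).card_eq
  rw [o.card, card2 o, Nat.factorization_mul (by decide) Nat.card_pos.ne', Finsupp.add_apply,
    Nat.prime_two.factorization_self, show 512 = 2 ^ 9 from rfl] at h
  have := Nat.pow_right_injective le_rfl h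
  omega

theorem big (X : Subgroup G) : Nat.card X ≠ 2 * (2 * Nat.card M) := fun e => by
  have : Fact (Nat.Prime 2) := ⟨Nat.prime_two⟩
  have h := o.syl.card_eq
  rw [o.card, show 512 = 2 ^ 9 from rfl] at h
  have h1 : 2 ^ 8 ∣ Nat.card M := fac o ▸ Nat.ordProj_dvd _ _
  have h2 : 2 ^ 10 ∣ Nat.card (⊤ : Subgroup G) :=
    (e ▸ Nat.mul_dvd_mul_left 2 (Nat.mul_dvd_mul_left 2 h1) :).trans (card_dvd_of_le (H := X) le_top)
  have := (Nat.prime_two.pow_dvd_iff_le_factorization Nat.card_pos.ne').1 h2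
  have := Nat.pow_right_injective le_rfl h
  omega

end Grp

theorem jobE : JobE.{u} := fun G _ _ S M t o => by
  refine ⟨t0M o, t0ne o, fac o, ?_⟩
  let W := hp t o.sq o.com
  have eqv : ∀ (σ : Equiv.Perm (Fin 7)) (g : G), (∀ i, g * t i * g⁻¹ = t (σ i)) →
      ∀ x, g * W x * g⁻¹ = W (x ∘ σ.symm) := fun σ g hg =>
    DFunLike.congr_fun (hom_ext (f := (MulAut.conj g).toMonoidHom.comp W)
      (g := W.comp (MonoidHom.mk' (fun x => x ∘ σ.symm) fun _ _ => rfl)) fun i => by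
        show g * W _ * g⁻¹ = W (Pi.mulSingle i n1 ∘ σ.symm)
        rw [show Pi.mulSingle i n1 ∘ σ.symm = Pi.mulSingle (σ i) n1 from funext fun k => by
          simp [Pi.mulSingle_apply, Equiv.symm_apply_eq], hp_single, hp_single, hg])
  have inj : Function.Injective (W.comp J) := (injective_iff_map_eq_one _).2 fun y hy => by
    by_contra h
    obtain ⟨i, j, k, h1, h2, h3, e⟩ := (by decide +kernel : ∀ y : Fin 5 → N2, y ≠ 1 →
      ∃ i j k : Fin 7, i ≠ j ∧ j ≠ k ∧ i ≠ k ∧ J y * (J y ∘ (Equiv.swap i j * Equiv.swap j k).symm) =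
        Pi.mulSingle i n1 * Pi.mulSingle k n1) y h
    obtain ⟨g, hg⟩ := o.tr (Equiv.swap i j * Equiv.swap j k) (by simp [h1, h2])
    have := congrArg W e
    rw [map_mul, ← eqv _ g hg, show W (J y) = 1 from hy, map_mul, hp_single, hp_single] at this
    exact tne o h3 (by simpa using this.symm)
  refine ⟨(W.comp J).range, ?_, ?_, ?_⟩
  · have c : ∀ i j : Fin 5, t 1 * t i.succ.succ * (t 1 * t j.succ.succ) =
        t 1 * t j.succ.succ * (t 1 * t i.succ.succ) := fun i j =>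
      (Commute.mul_left (Commute.mul_right (o.com _ _) (o.com _ _))
        (Commute.mul_right (o.com _ _) (o.com _ _)) :)
    have s : ∀ i : Fin 5, t 1 * t i.succ.succ * (t 1 * t i.succ.succ) = 1 := fun i => by
      rw [mul_assoc, ← mul_assoc (t i.succ.succ), ← o.com 1, mul_assoc, o.sq, mul_one, o.sq]
    rw [hom_ext (f := W.comp J) (g := hp _ s c) fun i => by
      rw [MonoidHom.comp_apply, (by decide : ∀ i : Fin 5, J (Pi.mulSingle i n1) =
        Pi.mulSingle 1 n1 * Pi.mulSingle i.succ.succ n1), map_mul, hp_single, hp_single, hp_single]]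
    refine (MonoidHom.noncommPiCoprod_range _).le.trans (iSup_le ?_)
    rintro i _ ⟨a, rfl⟩
    rcases n_cases a with rfl | rfl
    · rw [map_one]; exact one_mem _
    · rw [h2_n1]; exact o.tt _ _ (by decide) (Fin.succ_ne_zero _)
  · rintro _ ⟨y, rfl⟩
    rw [← map_mul, (by decide : ∀ y : Fin 5 → N2, y * y = 1), map_one]
  · rw [← Nat.card_congr (MonoidHom.ofInjective inj).toEquiv]
    simp

section Geo
variable {F V : Type} [Field F] [AddCommGroup V] [Module F V] {Q : QuadraticForm F V}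
  {G : Type u} [Group G] {S M : Subgroup G} {t : Fin 7 → G} {ψ : Om Q ≃* M}

/-- `h` acts as `T` -/
def Act (ψ : Om Q ≃* M) (h : G) (T : Gam Q) : Prop :=
  ∀ x y : Om Q, (y : O Q) = Gam.conjO Q T x → h * ψ x * h⁻¹ = ψ y

theorem Act.mul {h h' : G} {T T' : Gam Q} (a : Act ψ h T) (a' : Act ψ h' T') :
    Act ψ (h * h') (T * T') := fun x y e => by
  rw [← a ⟨_, conjO_mem_commutator T' x.2⟩ y (by rw [e, map_mul]; rfl),
    ← a' x ⟨_, conjO_mem_commutator T' x.2⟩ rfl]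
  group

theorem Act.inv {h : G} {T : Gam Q} (a : Act ψ h T) : Act ψ h⁻¹ T⁻¹ := fun x y e => by
  rw [← a y x (by rw [e, map_inv]; simp)]
  group

theorem act_ψ (y : Om Q) : Act ψ (ψ y) (Gam.ofO Q y) := fun x z e => by
  rw [Gam.conjO_ofO] at e
  rw [show z = y * x * y⁻¹ from Subtype.ext e]
  simp

theorem Act.conj {h h' : G} {T : Gam Q} {v : V} (a : Act ψ h T)
    (a' : Act ψ h' (Gam.ofO Q (refl Q v))) : Act ψ (h * h' * h⁻¹) (Gam.ofO Q (refl Q (T v))) := by
  rw [← Gam.conjO_refl, Gam.ofO_conjO]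
  exact (a.mul a').mul a.inv

theorem Act.uniq {h : G} {g g' : O Q} (a : Act ψ h (Gam.ofO Q g)) (a' : Act ψ h (Gam.ofO Q g')) :
    ∀ x ∈ Om Q, g⁻¹ * g' * x = x * (g⁻¹ * g') := fun x hx => by
  have e := (a ⟨x, hx⟩ ⟨_, conjO_mem_commutator _ hx⟩ rfl).symm.trans
    (a' ⟨x, hx⟩ ⟨_, conjO_mem_commutator _ hx⟩ rfl)
  have e := congrArg Subtype.val (ψ.injective (Subtype.ext e))
  simp only [Gam.conjO_ofO] at e
  calc _ = g⁻¹ * (g' * x * g'⁻¹) * g' := by group
    _ = _ := by rw [← e]; group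

theorem Act.same (o : OF S M t) {h h' : G} {T : Gam Q} (a : Act ψ h T) (a' : Act ψ h' T)
    (c : h ∈ cen1 (t 0)) (c' : h' ∈ cen1 (t 0)) : h' = h ∨ h' = h * t 0 := by
  refine (zp2 (o.sq 0) (o.cc (mem_inf.2 ⟨mul_mem (inv_mem c) c', fun m hm => ?_⟩))).imp
    (fun e => (inv_mul_eq_one.1 e).symm) fun e => by rw [← e, mul_inv_cancel_left]
  have := (a.inv.mul a') (ψ.symm ⟨m, hm⟩) (ψ.symm ⟨m, hm⟩) (by simp)
  rw [MulEquiv.apply_symm_apply, mul_inv_eq_iff_eq_mul] at this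
  exact this.symm

theorem exists_act (o : OF S M t) (au : Au Q) {h : G} (c : h ∈ cen1 (t 0)) : ∃ T, Act ψ h T := by
  obtain ⟨T, hT⟩ := au (ψ.trans ((M.normalizerMonoidHom ⟨h, o.cM c⟩ : M ≃* M).trans ψ.symm))
  refine ⟨T, fun x y e => ?_⟩
  rw [← hT] at e
  rw [Subtype.ext e]
  simp

end Geo

theorem jobF3 : JobF3.{u} := fun F _ _ V _ _ _ Q c e fr au G _ _ S M t o ψ c6 h hh => by
  have : Fact (Nat.Prime 2) := ⟨Nat.prime_two⟩
  have gs := H59.OW.gs fr.nd fr.two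
  have gt := H59.OW.gt fr.nd fr.two
  have d3 : 3 ≤ finrank F V := by rw [fr.dim]; decide
  have at' : ∀ k : Fin 6, Act ψ (t k.succ) (Gam.ofO Q (refl Q (e k))) := fun k x y hy =>
    c6.act k x y (by rw [hy, Gam.conjO_ofO, refl_inv])
  obtain ⟨T, hT⟩ := exists_act (ψ := ψ) o au hh
  have a1 : Act ψ (t 1) _ := at' 0
  have a2 := hT.conj a1
  have c2 : h * t 1 * h⁻¹ ∈ cen1 (t 0) := mul_mem (mul_mem hh (tc o 1)) (inv_mem hh)
  have s2 : h * t 1 * h⁻¹ * (h * t 1 * h⁻¹) = 1 := by rw [conj_mul, o.sq]; simp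
  have n2 : h * t 1 * h⁻¹ ∉ M := fun k => o.t1 ((mem_normalizer_iff.1 (o.cM hh) _).2 k)
  generalize h * t 1 * h⁻¹ = s at a2 c2 s2 n2
  have m1 : s ∈ M ⊔ zpowers (t 1) := by
    by_contra k
    have y : refl Q (e 0) * refl Q (T (e 0)) * (refl Q (e 0) * refl Q (T (e 0))) ∈ Om Q := by
      have := commutator_mem_commutator (mem_top (refl Q (e 0))) (mem_top (refl Q (T (e 0))))
      rwa [commutatorElement_def, refl_inv, refl_inv, mul_assoc] at this
    have a3 := (a1.mul a2).mul (a1.mul a2)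
    rw [← map_mul, ← map_mul] at a3
    have c3 := mul_mem (tc o 1) c2
    have m2 : t 1 * s * (t 1 * s) ∈ M := by
      rcases (act_ψ ⟨_, y⟩).same o a3 (o.Mc (ψ _).2) (mul_mem c3 c3) with k | k <;> rw [k]
      exacts [(ψ _).2, mul_mem (ψ _).2 (t0M o)]
    refine big o _ ((H9.card_sup_zpowers_of_normalizes (p := 2) ?_ k
      (by rw [pow_two, s2]; exact one_mem _)).trans (by rw [card2 o]))
    refine mem_normalizer_of_cj_le (cj_le_iff.2 (sup_le (cj_le_iff.1 ?_) (zpowers_le.2 ?_)))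
    · exact (cj_eq_self (o.cM c2)).le.trans le_sup_left
    · rw [mem_cj, inv_inv, inv_eq_of_mul_eq_one_right s2,
        show s * t 1 * s = t 1 * (t 1 * s * (t 1 * s)) by
          rw [← mul_assoc, ← mul_assoc, ← mul_assoc, o.sq, one_mul]]
      exact mul_mem (mem_sup_right (mem_zpowers _)) (mem_sup_left m2)
  have m3 : s * t 1 ∈ M := by
    obtain ⟨a, ha, k, rfl⟩ := (H9.mem_sup_zpowers_of_normalizes (o.cM (tc o 1))).1 m1
    rcases zp2 (o.sq 1) (zpow_mem (mem_zpowers (t 1)) k) with k | k <;> rw [k] at n2 ⊢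
    · exact absurd (by simpa using ha) n2
    · rwa [mul_assoc, o.sq, mul_one]
  have neg : O.negOne Q ∈ Om Q := by
    refine ((gs.cen d3 (ψ.symm ⟨_, t0M o⟩ : Om Q) fun x hx => ?_).resolve_left fun k =>
      t0ne o ?_) ▸ (ψ.symm ⟨_, t0M o⟩).2
    · refine congrArg Subtype.val (ψ.injective (a₁ := ψ.symm ⟨_, t0M o⟩ * ⟨x, hx⟩)
        (a₂ := ⟨x, hx⟩ * ψ.symm ⟨_, t0M o⟩) (Subtype.ext ?_))
      simpa using (mem_centralizer_singleton_iff.1 (o.Mc (ψ ⟨x, hx⟩).2)).symm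
    · simpa using congrArg (fun x => (ψ x : G)) (Subtype.ext k : ψ.symm ⟨_, t0M o⟩ = 1)
  have m4 : refl Q (T (e 0)) * refl Q (e 0) ∈ Om Q := by
    have a3 := a2.mul a1
    have a4 := act_ψ (ψ := ψ) (ψ.symm ⟨_, m3⟩)
    rw [MulEquiv.apply_symm_apply] at a4
    rw [← map_mul] at a3
    refine (mul_mem_cancel_left (inv_mem (ψ.symm ⟨_, m3⟩).2)).1 ?_
    rcases gs.cen d3 _ (a4.uniq a3) with k | k
    exacts [k.symm ▸ one_mem _, k.symm ▸ neg]
  have q0 : ∀ k, Q (T (e k)) = Q (T (e 0)) := fun k => by rw [T.map_Q, T.map_Q, fr.norm, fr.norm]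
  obtain ⟨a, a0, ha⟩ : ∃ a : F, a ≠ 0 ∧ Q (T (e 0)) = a * a * c := by
    have := ((mem_commutator_iff_of_two_ne fr.nd fr.two _).1 m4).2
    rw [map_mul, spinor_refl, spinor_refl, fr.norm, mul_eq_one_iff_eq_inv, SqCl.inv_eq] at this
    exact (sqcl_eq_iff fr.ne (mt T.Q_apply_eq_zero.1 (fr.norm 0 ▸ fr.ne))).1 this.symm
  have qu : ∀ k, Q (a⁻¹ • T (e k)) = c := fun k => by
    rw [Q.map_smul, q0, ha, smul_eq_mul]; field_simp
  obtain ⟨g, hg, hge⟩ := gt.trf 3 (fun k => a⁻¹ • T (e (k.castLE (by decide))))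
    (fun k => e (k.castLE (by decide))) (by rw [fr.dim]; decide) (fun k => by rw [qu]; exact fr.ne)
    (fun k => by rw [qu, fr.norm]) (fun i j hij => by
      rw [polar_smul_left, polar_smul_right, T.polar_apply_eq_zero.2
        (fr.orth _ _ ((Fin.castLE_injective _).ne hij))]
      simp) fun i j hij => fr.orth _ _ ((Fin.castLE_injective _).ne hij)
  have c4 := mul_mem (o.Mc (ψ ⟨g, hg⟩).2) hh
  refine ⟨ψ ⟨g, hg⟩, (ψ _).2, fun k hk => ?_⟩
  rcases Fin.eq_zero_or_eq_succ k with rfl | ⟨k, rfl⟩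
  · exact mem_centralizer_singleton_iff.1 c4
  have a5 := ((act_ψ ⟨g, hg⟩).mul hT).conj (at' k)
  have e5 : (Gam.ofO Q g * T) (e k) = a • e k := by
    have := hge ⟨k, by simp at hk; omega⟩
    rw [map_smul] at this
    exact (inv_smul_eq_iff₀ a0).1 this
  rw [e5, refl_smul a0] at a5
  rcases (at' k).same o a5 (tc o _) (mul_mem (mul_mem c4 (tc o _)) (inv_mem c4)) with k' | k'
  · exact mul_inv_eq_iff_eq_mul.1 k'
  · exact absurd ((cj0 o _).trans (isConj_iff.2 ⟨_, k'⟩)) (nc o (Fin.succ_ne_zero k))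

end H77.R7F3
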