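import Cfsg.Agent.H28.TESpec

/-! # Slot TE1-G1 -/

set_option autoImplicit false

open Cfsg Subgroup H14 H98 H1.Gold H31.S2 H14.GC H14.FE H14.NF H28.TE
open scoped commutatorElement

namespace H77.TeG1

universe u

theorem inv_el {G : Type u} [Group G] {T : Subgroup G} (h : El T) {t : G} (ht : t ∈ T) : t⁻¹ = t :=
  inv_eq_of_mul_eq_one_right (h t ht)

theorem ab_el {G : Type u} [Group G] {T : Subgroup G} (h : El T) {s t : G} (hs : s ∈ T)
    (ht : t ∈ T) : s * t = t * s := by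
  rw [← inv_el h (mul_mem hs ht), mul_inv_rev, inv_el h hs, inv_el h ht]

theorem comm_of_eq {G : Type u} [Group G] {t a b : G} (h : ⁅t, a⁆ = ⁅t, b⁆) :
    b⁻¹ * a * t = t * (b⁻¹ * a) := by
  rw [commutatorElement_def, commutatorElement_def] at h
  calc b⁻¹ * a * t = t * b⁻¹ * (b * t⁻¹ * b⁻¹) * a * t := by group
    _ = t * b⁻¹ * (t⁻¹ * (t * b * t⁻¹ * b⁻¹)) * a * t := by group
    _ = t * b⁻¹ * (t⁻¹ * (t * a * t⁻¹ * a⁻¹)) * a * t := by rw [h]
    _ = t * (b⁻¹ * a) := by group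

theorem jobG1 : JobG1.{u} := by
  intro _ kp G _ _ Q Q₁ E Q₂ T ln R ar w hw hex
  have k := kp G Q Q₁ E Q₂ T ln R ar
  have cE : ∀ y ∈ PP E T R, ∀ e ∈ E, Commute e y := fun y hy e he => by
    by_cases h : y ∈ E
    · exact ab_el ln.elE he h
    · exact mem_centralizer_iff.1 (k.tr y hy h).ce e he
  have cm : ∀ y ∈ PP E T R, ∀ t ∈ T, ⁅t, y⁆ ∈ E := fun y hy => (k.mem y hy.1).1 hy
  have cj : ∀ t ∈ T, t * ⁅t, w⁆ = w * t * w⁻¹ := fun t ht => by
    rw [commutatorElement_def, inv_el ln.elT ht]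
    calc t * (t * w * t * w⁻¹) = t * t * (w * t * w⁻¹) := by group
      _ = w * t * w⁻¹ := by rw [ln.elT t ht, one_mul]
  have sq : ∀ t ∈ T, t * ⁅t, w⁆ * (t * ⁅t, w⁆) = 1 := fun t ht => by
    rw [cj t ht]
    calc w * t * w⁻¹ * (w * t * w⁻¹) = w * (t * t) * w⁻¹ := by group
      _ = 1 := by rw [ln.elT t ht]; group
  have p1 : ∀ t ∈ T, t ≠ 1 → ⁅t, w⁆ ∉ E := fun t0 h0 n0 hE => by
    obtain ⟨t, ht, hn⟩ := hex
    refine hn (k.ct t0 h0 n0 _ (hw t ht).1 ?_)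
    have c1 : Commute (t * ⁅t, w⁆) (t0 * ⁅t0, w⁆) := by
      rw [cj t ht, cj t0 h0]
      exact (show Commute t t0 from ab_el ln.elT ht h0).conj w
    have c2 : Commute (t * ⁅t, w⁆) ⁅t0, w⁆ :=
      ((show Commute ⁅t0, w⁆ t from ln.comm _ hE t ht).mul_right (cE _ (hw t ht) _ hE)).symm
    have c3 := c1.mul_right c2.inv_right
    rw [mul_inv_cancel_right] at c3
    have c4 := (show Commute t t0 from ab_el ln.elT ht h0).inv_left.mul_left c3
    rwa [inv_mul_cancel_left] at c4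
  have key : ∀ t0 ∈ T, t0 ≠ 1 → ∀ r ∈ E, ∃ t ∈ T, ⁅t0, ⁅t, w⁆⁆ = r := fun t0 h0 n0 r hr => by
    let f : T → E := fun t => ⟨⁅t0, ⁅(t : G), w⁆⁆, cm _ (hw t t.2) t0 h0⟩
    have inj : Function.Injective f := fun t t' e => by
      have e1 := k.ct t0 h0 n0 _ (mul_mem (inv_mem (hw _ t'.2).1) (hw _ t.2).1)
        (comm_of_eq (congrArg Subtype.val e))
      by_contra hne
      refine p1 _ (mul_mem t'.2 t.2) (fun h => hne (Subtype.ext ?_)) ?_
      · rw [← inv_el ln.elT t'.2, eq_inv_of_mul_eq_one_right h]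
      · have a1 : ⁅(t' : G), w⁆ * ⁅(t' : G), w⁆ ∈ E := by
          by_cases h : ⁅(t' : G), w⁆ ∈ E
          · exact mul_mem h h
          · exact (k.tr _ (hw _ t'.2) h).sq
        have a2 := mul_mem (mul_mem (cm _ (hw _ t'.2) _ (inv_mem t.2)) a1) e1
        convert a2 using 1
        have b1 := cj _ (mul_mem t'.2 t.2)
        have b2 : w * ((t' : G) * t) * w⁻¹ = t' * ⁅(t' : G), w⁆ * (t * ⁅(t : G), w⁆) := by
          rw [cj _ t'.2, cj _ t.2]; group
        rw [b2] at b1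
        generalize ⁅(t' : G), w⁆ = a' at b1 ⊢
        generalize ⁅(t : G), w⁆ = a at b1 ⊢
        rw [eq_inv_mul_of_mul_eq b1, commutatorElement_def]
        group
    obtain ⟨t, ht⟩ := (inj.bijective_of_nat_card_le ln.card.le).2 ⟨r, hr⟩
    exact ⟨t, t.2, congrArg Subtype.val ht⟩
  have p2 : ∀ y ∈ PP E T R, ∃ t ∈ T, ⁅t, w⁆ * y⁻¹ ∈ E := fun y hy => by
    obtain ⟨t0, h0, hn⟩ := hex
    have n0 : t0 ≠ 1 := fun e => hn (by rw [e, commutatorElement_one_left]; exact one_mem _)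
    obtain ⟨t, ht, e⟩ := key t0 h0 n0 _ (cm y hy t0 h0)
    have e1 := k.ct t0 h0 n0 _ (mul_mem (inv_mem hy.1) (hw t ht).1) (comm_of_eq e)
    refine ⟨t, ht, ?_⟩
    have e2 : ⁅t, w⁆ * y⁻¹ = y * (y⁻¹ * ⁅t, w⁆) * y⁻¹ := by rw [mul_inv_cancel_left]
    rw [e2, ← (cE y hy _ e1).eq, mul_inv_cancel_right]
    exact e1
  refine ⟨p1, p2, fun t0 h0 n0 r hr => ?_, fun t ht b hb bE tb => ?_⟩
  · obtain ⟨t, ht, e⟩ := key t0 h0 n0 r hr
    exact ⟨_, hw t ht, e⟩
  · obtain ⟨s, hs, he⟩ := p2 b hb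
    have h1 := sq s hs
    obtain ⟨e, he'⟩ : ∃ e, e = ⁅s, w⁆ * b⁻¹ := ⟨_, rfl⟩
    have h2 : ⁅s, w⁆ = e * b := by rw [he', inv_mul_cancel_right]
    have eE : e ∈ E := he' ▸ he
    have c1 : Commute e (s * b) := (show Commute e s from ln.comm e eE s hs).mul_right (cE b hb e eE)
    have h3 : s * b * (s * b) = 1 := by
      rw [h2, ← mul_assoc s e b, ← ln.comm e eE s hs, mul_assoc e s b] at h1
      calc s * b * (s * b) = e * e * (s * b * (s * b)) := by rw [ln.elE e eE, one_mul]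
        _ = e * (e * (s * b)) * (s * b) := by simp only [mul_assoc]
        _ = e * (s * b * e) * (s * b) := by rw [c1.eq]
        _ = 1 := by rw [← h1]; simp only [mul_assoc]
    by_cases hst : t * s = 1
    · have : s = t := by rw [← inv_el ln.elT ht, eq_inv_of_mul_eq_one_right hst]
      exact this ▸ he
    · refine absurd (k.ct _ (mul_mem ht hs) hst b hb.1 ?_) bE
      calc b * (t * s) = t⁻¹ * (t * b * (t * b)) * b⁻¹ * s := by group
        _ = t⁻¹ * (s * b * (s * b)) * b⁻¹ * s := by rw [tb, h3]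
        _ = t⁻¹ * s * b * (s * s) := by group
        _ = t * s * b := by rw [ln.elT s hs, mul_one, inv_el ln.elT ht]

end H77.TeG1
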