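import Cfsg.Agent.H14.FEKit
import Cfsg.Agent.H46.Quo

/-!
# FE-MQ (S1308)
-/

set_option autoImplicit false

namespace H77.FeMQ

open Cfsg Subgroup MulAction H14 H98 H1.Gold H31.S2 H14.GC H14.FE
open scoped commutatorElement

universe u

variable {G : Type u} [Group G] [Finite G]

/-- the centraliser of an involution of a conjugate of a tightly embedded subgroup normalises it -/
theorem cen1_le {Q : Subgroup G} (te : IsTightlyEmbedded Q) (g : G) {e : G} (he : e ∈ cj g Q)
    (ie : Inv e) : cen1 e ≤ nor (cj g Q) := by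
  intro c hc
  have ce : c * e = e * c := mem_centralizer_singleton_iff.1 hc
  have h1 : g⁻¹ * c * g ∈ nor Q := by
    by_contra hn
    have od := ni_of_odd (te.2 _ hn)
    refine od (g⁻¹ * e * g) ⟨mem_cj.1 he, mem_cj.2 ?_⟩ (by simpa using ie.conj g⁻¹)
    have : (g⁻¹ * c * g)⁻¹ * (g⁻¹ * e * g) * (g⁻¹ * c * g) = g⁻¹ * e * g := by
      calc (g⁻¹ * c * g)⁻¹ * (g⁻¹ * e * g) * (g⁻¹ * c * g) = g⁻¹ * c⁻¹ * (e * c) * g := by group
        _ = g⁻¹ * e * g := by rw [← ce]; group
    rw [this]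
    exact mem_cj.1 he
  have := mem_cj.2 h1
  rwa [cj_normalizer] at this

omit [Finite G] in
theorem ab_of_iso {R T : Subgroup G} (e : R ≃* T) (h : FE.Ab T) : FE.Ab R := by
  intro a ha b hb
  have : e ⟨a, ha⟩ * e ⟨b, hb⟩ = e ⟨b, hb⟩ * e ⟨a, ha⟩ := Subtype.ext (h _ (e _).2 _ (e _).2)
  rw [← map_mul, ← map_mul] at this
  exact congrArg Subtype.val (e.injective this)

theorem done_of {Q R : Subgroup G} (hR : IsSyl 2 R Q) (h4 : Four Q) (ab : FE.Ab R) (el : El R)
    (nc : Nc Q R) : Done Q := by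
  have : Fact (Nat.Prime 2) := ⟨Nat.prime_two⟩
  obtain ⟨z, hz, iz⟩ := four_exists_inv (syl_four hR h4)
  obtain ⟨O, Ol, On, Oo, Cl⟩ := nc z hz iz
  have RC : R ≤ cen1 z ⊓ Q := fun r hr =>
    ⟨mem_centralizer_singleton_iff.2 (ab r hr z hz), hR.le hr⟩
  refine ⟨z, hR.le hz, inv_iff.1 iz, ?_, fun S => ?_⟩
  · have s1 : Group.IsSolvable R := by
      have := hR.isPGroup.isNilpotent
      infer_instance
    have s2 : Group.IsSolvable ↥(O ⊔ R) := H46.sol_sup (RC.trans On) (sol_of_odd Oo) s1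
    rw [sup_comm] at Cl
    exact Group.isSolvable_of_isSolvable_injective (inclusion_injective Cl)
  · obtain ⟨c, -, hc⟩ := (hR.of_le RC inf_le_right).exists_cj_eq (isSyl_map_subtype S)
    have m : ∀ a ∈ (S : Subgroup ↥(cen1 z ⊓ Q)), c⁻¹ * (a : G) * c ∈ R := fun a ha =>
      mem_cj.1 (hc ▸ mem_map_of_mem _ ha)
    refine ⟨⟨⟨fun a b => ?_⟩⟩, fun a ha => ?_⟩
    · have := ab _ (m a a.2) _ (m b b.2)
      refine Subtype.ext (Subtype.ext ?_)
      have e : c⁻¹ * ((a : G) * b) * c = c⁻¹ * ((b : G) * a) * c := by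
        calc c⁻¹ * ((a : G) * b) * c = c⁻¹ * a * c * (c⁻¹ * b * c) := by group
          _ = c⁻¹ * ((b : G) * a) * c := by rw [this]; group
      simpa using e
    · have := el _ (m a ha)
      refine Subtype.ext ?_
      have e : c⁻¹ * ((a : G) * a) * c = c⁻¹ * 1 * c := by
        calc c⁻¹ * ((a : G) * a) * c = c⁻¹ * a * c * (c⁻¹ * a * c) := by group
          _ = c⁻¹ * 1 * c := by rw [this]; group
      have e' := mul_left_cancel (mul_right_cancel e)
      simpa [pow_two] using e'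

theorem jobMQ : JobMQ.{u} := by
  intro jEd k2a k2b iso cm nc jG G _ _ K fs
  by_cases dn : Done (cen K)
  · exact Or.inl dn
  refine Or.inr fun g d hd id dN => ?_
  have pl : pElementClosure 2 (cen K) ≤ cen K := pec_le _
  by_cases hg : g ∈ nor (cen K)
  · rw [cj_eq_self hg]
    exact pl.trans le_normalizer
  obtain ⟨R, T, ed⟩ := jEd G K fs g hg d hd id dN
  by_cases abT : FE.Ab T
  swap
  · have hn : ¬ NI (K ⊓ cj g (cen K)) := fun ni => by
      rcases k2a G K fs.std g R T ed ni with h | ⟨S, hS, h⟩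
      · exact abT h
      · exact abT (k2b G K fs.std g R T ed ni S hS h)
    unfold NI at hn
    push Not at hn
    obtain ⟨e, he, ie⟩ := hn
    refine pl.trans (le_trans (fun x hx => ?_) (cen1_le ed.te g he.2 ie))
    exact mem_centralizer_singleton_iff.2 (mem_centralizer_iff.1 hx e he.1).symm
  obtain ⟨φ⟩ := ed.iso
  have abR := ab_of_iso φ abT
  rcases cm G _ g R T ed abR (iso G _ g R T ed abR) with h | cb
  · exact pl.trans h
  have hnc := nc G _ g R T ed abR cb
  have nel : ¬ El R := fun el => dn (done_of ed.sylR ed.four abR el hnc)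
  have T4 : Four T := syl_four ed.sylT (ed.four.cj g)
  refine (jG G _ R ed.sylR abR nel hnc).trans (sup_le ?_ ?_)
  · obtain ⟨t, ht, it⟩ := four_exists_inv T4
    refine le_trans (fun r hr => ?_) (cen1_le ed.te g (ed.sylT.le ht) it)
    exact mem_centralizer_singleton_iff.2 (ed.comm r hr t ht)
  · obtain ⟨E, hE, -, El⟩ := T4.exists_e4
    refine (oi_opp (El.trans ed.le)).le_of_cen1 (H85.e2_iff.1 hE.1) hE.2 fun a ha a1 => ?_
    exact inf_le_right.trans (cen1_le ed.te g (ed.sylT.le (El ha)) ⟨a1, hE.1 a ha⟩)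

end H77.FeMQ
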