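/- Tower QF: model-free tools for `CVF` (lifts to a double cover, outer involutions). -/
import Cfsg.Agent.H36.QFK0

set_option autoImplicit false

namespace H77.QF

open Cfsg Subgroup H14 H98 H97 H36.QE H36.QF
open H14.CO (cen cen1 nor cm Tw mem_cen mem_cen1)

universe u w

variable {S : Type w} [Group S]

/-- the subgroup generated by the squares of `C(w)` -/
def Sq (w : S) : Subgroup S := closure {x | ∃ y ∈ cen1 w, y * y = x}

theorem X3_le_Sq (w : S) : X3 w ≤ Sq w := closure_mono fun x hx =>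
  ⟨x * x, mul_mem hx.1 hx.1, by rw [show x * x * (x * x) = x ^ 3 * x by simp only [pow_succ, pow_zero, one_mul, mul_assoc], hx.2, one_mul]⟩

/-- `LiftC` when `C(w)` has no subgroup of index two and `w = [i, j]` with `i ^ 2 ∈ ⟨w⟩`. -/
theorem liftC_of {w i j : S} (hC : cen1 w ≤ Sq w) (hj : j ∈ cen1 w) (hij : i * j = w * (j * i))
    (hi : i ∈ cen1 w) (h2 : i * i = 1 ∨ i * i = w) : LiftC.{u} w := by
  intro J _ _ π hπ hk l hl
  have zc : ∀ k, π k = 1 → ∀ g, g * k = k * g := fun k h => mem_center_iff.1 (hπ.2.1 h)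
  have k2 : ∀ k, π k = 1 → k * k = 1 := fun k h => by
    have := congrArg Subtype.val (pow_card_eq_one' (x := (⟨k, h⟩ : π.ker)))
    rwa [hk, pow_two] at this
  have mod : ∀ g g', π g = π g' → ∀ x, g' * x = x * g' → g * x = x * g := fun g g' e x h => by
    have := zc (g'⁻¹ * g) (by rw [map_mul, map_inv, e, inv_mul_cancel]) x
    rw [← mul_inv_cancel_left g' g, mul_assoc, ← this, ← mul_assoc, h, mul_assoc]
  have key : ∀ g, π g ∈ cen1 w → g * l = l * g := fun g hg => by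
    obtain ⟨g', h1, h2⟩ := (closure_le ((cen1 l).map π)).2 (by
      rintro _ ⟨y, hy, rfl⟩
      obtain ⟨y, rfl⟩ := hπ.1 y
      obtain ⟨k, e⟩ : ∃ k, y * l = k * (l * y) := ⟨y * l * (l * y)⁻¹, by group⟩
      have k1 : π k = 1 := by
        have := congrArg π e
        rw [map_mul, map_mul, map_mul, hl, mem_cen1.1 hy] at this
        exact (right_eq_mul.1 this)
      refine ⟨y * y, mem_cen1.2 ?_, map_mul _ _ _⟩
      rw [mul_assoc, e, ← mul_assoc, zc k k1, mul_assoc, ← mul_assoc y, e, ← mul_assoc, ← mul_assoc, k2 k k1,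
        one_mul, mul_assoc]) (hC hg)
    exact mod g g' h2.symm l (mem_cen1.1 h1)
  refine ⟨?_, key⟩
  obtain ⟨i, rfl⟩ := hπ.1 i
  obtain ⟨j, rfl⟩ := hπ.1 j
  obtain ⟨m, e⟩ : ∃ m, i * j = m * (j * i) := ⟨i * j * (j * i)⁻¹, by group⟩
  have m1 : π m = π l := by
    have := congrArg π e
    rw [map_mul, map_mul, map_mul, hij] at this
    exact hl ▸ (mul_right_cancel this).symm
  have c1 : m * i = i * m := mod m l m1 i (key i hi).symm
  have c2 : i * i * j = j * (i * i) := h2.elim (fun h => (zc _ (by rw [map_mul, h]) j).symm)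
    fun h => mod _ l (by rw [map_mul, h, hl]) j (key j hj).symm
  have c3 : m * m = 1 := by
    rw [mul_assoc, e, ← mul_assoc, ← c1, mul_assoc, ← mul_assoc i, e] at c2
    exact mul_eq_right.1 (by simpa only [mul_assoc] using c2 : m * m * (j * (i * i)) = j * (i * i))
  have k1 : π (m⁻¹ * l) = 1 := by rw [map_mul, map_inv, m1, inv_mul_cancel]
  rw [← mul_inv_cancel_left m l, mul_assoc, ← mul_assoc _ m, ← zc _ k1, mul_assoc, k2 _ k1, mul_one, c3]

/-- `CA` when the square roots of `w` lie in a `2`-group, while two involutions of `X3 w` that lift to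
order four do not generate a `2`-group. -/
theorem ca_of {w y y' : S} {Q : Subgroup S} (hQ : IsPGroup 2 Q) (hs : ∀ x, x * x = w → x ∈ Q)
    (hy : y ∈ X3 w) (hy' : y' ∈ X3 w) (h2 : y * y = 1) (h2' : y' * y' = 1) (l4 : Lift4.{u} y)
    (l4' : Lift4.{u} y') (nt : ¬ Tw (y * y')) : CA.{u} w := by
  rintro J _ _ π t l hπ ht hk hl X hX hT φ ψ e -
  have mk : ∀ k, π k = 1 → k = 1 ∨ k = t := fun k h => by
    obtain ⟨n, rfl⟩ := hk.le h
    have t2 : t ^ (2 : ℤ) = 1 := by rw [zpow_two, ht.2]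
    rcases Int.even_or_odd' n with ⟨m, rfl | rfl⟩ <;> simp [zpow_add, zpow_mul, t2]
  have k2 : ∀ k, π k = 1 → k * k = 1 := fun k h => (mk k h).elim (fun e => by rw [e, mul_one]) fun e => e ▸ ht.2
  have le : X3 w ≤ X.map π := (closure_le _).2 fun x hx => by
    obtain ⟨g, rfl⟩ := hπ.1 x
    have e1 : π (g ^ 4) = π g := by rw [map_pow, pow_succ, hx.2, one_mul]
    refine ⟨g ^ 4, hX ▸ subset_closure ⟨e1 ▸ hx.1, ?_⟩, e1⟩
    rw [show (g ^ 4) ^ 3 = (g ^ 3 * g ^ 3) ^ 2 by group, k2 _ (by rw [map_pow, hx.2]), one_pow]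
  have key : ∀ y ∈ X3 w, y * y = 1 → Lift4.{u} y → ∃ x : X, π x = y ∧ π (φ x) ∈ Q := fun y hy h2 l4 => by
    obtain ⟨x, hx, rfl⟩ := le hy
    have : x * x = t := (mk _ (by rw [map_mul, h2])).resolve_left (l4 J π hπ
      (isPGroup_iff_forall.2 fun k h => ⟨1, by simpa [pow_two] using k2 k h⟩)
      (fun e => ht.1 (mem_bot.1 (e ▸ hk ▸ mem_zpowers t))) x rfl)
    refine ⟨⟨x, hx⟩, rfl, hs _ ?_⟩
    rw [← map_mul, ← coe_mul, ← map_mul, ← hl, ← e]
    exact congrArg (fun a => π (φ a : X)) (Subtype.ext this)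
  obtain ⟨x, rfl, h⟩ := key y hy h2 l4
  obtain ⟨x', rfl, h'⟩ := key y' hy' h2' l4'
  obtain ⟨n, hn⟩ := isPGroup_iff_forall.1 hQ _ (mul_mem h h')
  rw [← map_mul, ← coe_mul, ← map_mul, ← map_pow, ← coe_pow, ← map_pow] at hn
  have := k2 _ hn
  rw [← coe_mul, ← map_mul, ← pow_two, ← pow_mul, ← pow_succ, OneMemClass.coe_eq_one,
    EmbeddingLike.map_eq_one_iff] at this
  exact nt ⟨n + 1, by rw [← map_mul, ← coe_mul, ← map_pow, ← coe_pow, this, coe_one, map_one]⟩

theorem kr_of (h : HasCyclicSchurMultiplier S 2) (J : Type u) [Group J] [Finite J] (π : J →* S)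
    (hπ : IsStemExtension π) (_ : IsPGroup 2 π.ker) : Nat.card π.ker ≤ 2 :=
  Nat.le_of_dvd two_pos (by simpa using H21.card_ker_dvd_of_stem h π hπ)

theorem rank_of [Finite S] {p : ℕ} (hp : p.Prime) {x y : S} (c : x * y = y * x) (hx : x ^ p = 1)
    (hy : y ^ p = 1) (x1 : x ≠ 1) (n : ∀ k < p, x ^ k ≠ y) : ¬ PRankLE p 1 S := fun h => by
  classical
  have := Fact.mk hp
  have ab : IsMulCommutative (closure ({x, y} : Set S)) := isMulCommutative_closure (by
    rintro _ (rfl | rfl) _ (rfl | rfl)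
    exacts [rfl, c, c.symm, rfl])
  have l := h (closure {x, y}) ab fun a ha => closure_induction (fun a ha => by rcases ha with rfl | rfl <;> assumption)
    (one_pow _) (fun a b ha hb h1 h2 => by rw [Commute.mul_pow (setLike_mul_comm ha hb), h1, h2, mul_one])
    (fun a _ h => by rw [inv_pow, h, inv_one]) ha
  have o := orderOf_eq_prime hx x1
  have e := eq_of_le_of_card_ge (H := zpowers x) (K := closure {x, y})
    (zpowers_le.2 (subset_closure (by simp))) (by rwa [Nat.card_zpowers, o, ← pow_one p])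
  obtain ⟨k, hk, e⟩ := Finset.mem_image.1 ((mem_zpowers_iff_mem_range_orderOf).1
    (e.ge (subset_closure (by simp : y ∈ _))))
  exact n k (o ▸ Finset.mem_range.1 hk) e

/-- the size of the `2`-subgroups of the centraliser of an outer involution -/
theorem ou_card [Finite S] (hz : center S = ⊥) (ix : Ix S) {a : MulAut S} {k : ℕ}
    (hF : ¬ 2 ^ k ∣ Nat.card (Fix a)) (hS : 2 ^ k ∣ Nat.card S) (P : Subgroup (MulAut S))
    (hP : IsPGroup 2 P) (hle : P ≤ cen1 a) (U : Subgroup S) (hU : IsSyl 2 U ⊤) :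
    Nat.card P ≤ Nat.card U := by
  have inj : Function.Injective (MulAut.conj : S →* MulAut S) := (injective_iff_map_eq_one _).2 fun x e => by
    rw [← mem_bot, ← hz, mem_center_iff]
    exact fun g => (mul_inv_eq_iff_eq_mul.1 (congrArg (fun b : MulAut S => b g) e)).symm
  have h1 : P.comap MulAut.conj ≤ Fix a := fun x hx => inj (by
    rw [← aut_conj, ← mem_cen1.1 (hle hx), mul_inv_cancel_right])
  obtain ⟨j, hj⟩ := (hP.comap_of_injective _ inj).exists_card_eq
  have h2 : j < k := not_le.1 fun h => hF ((pow_dvd_pow 2 h).trans (hj ▸ card_dvd_of_le h1))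
  have h3 : Nat.card (P ⊓ H36.QF.Inn S : Subgroup _) = 2 ^ j := by
    rw [← hj, ← card_map_of_injective inj, map_comap_eq, inf_comm]
  have h4 : (H36.QF.Inn S).relIndex P ≤ 2 := by
    by_cases e : P ≤ H36.QF.Inn S
    · rw [relIndex_eq_one.2 e]; omega
    obtain ⟨b, hb, nb⟩ := SetLike.not_le_iff_exists.1 e
    refine (index_eq_two_iff.2 ⟨⟨b, hb⟩, fun c => ?_⟩).le
    simp only [mem_subgroupOf, coe_mul]
    by_cases m : c.1 ∈ H36.QF.Inn S
    · exact .inr ⟨m, fun h => nb ((mul_mem_cancel_left m).1 h)⟩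
    · exact .inl ⟨((ix c b).resolve_left m).resolve_left nb, m⟩
  have h5 := card_mul_index ((H36.QF.Inn S).subgroupOf P)
  rw [← inf_subgroupOf_left, Nat.card_congr (subgroupOfEquivOfLe inf_le_left).toEquiv, h3,
    inf_subgroupOf_left] at h5
  refine le_trans ?_ (le_card_syl hU hS)
  rw [← h5]
  exact (Nat.mul_le_mul_left _ h4).trans (pow_succ 2 j ▸ Nat.pow_le_pow_right two_pos h2)

/-- a twisted involution that is a square in the fixed points -/
theorem fo1_of {a : MulAut S} {c v : S} (hc : CO.Inv c) (ht : Tws a c) (hv : a v = v) (e : v * v = c) :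
    FO1 a :=
  ⟨c, hc, by rw [← e, map_mul, hv], ht, fun H _ h => e ▸ (h v hv v hv).elim (fun m => mul_mem m m)
    fun m => m.elim (fun m => mul_mem m m) id⟩

theorem z2_of [Finite S] {U : Subgroup S} (hU : IsSyl 2 U ⊤)
    (h : ∀ x ∈ U, ∀ y ∈ U, x ∈ cen U → y ∈ cen U → CO.Inv x → CO.Inv y → x = y) :
    ∀ U : Subgroup S, IsSyl 2 U ⊤ → ∀ x ∈ U, ∀ y ∈ U, x ∈ cen U → y ∈ cen U → CO.Inv x → CO.Inv y → x = y :=
  syl_ind (P := fun U => ∀ x ∈ U, ∀ y ∈ U, x ∈ cen U → y ∈ cen U → CO.Inv x → CO.Inv y → x = y)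
    (fun e U h => by
      rintro _ ⟨x, hx, rfl⟩ _ ⟨y, hy, rfl⟩ a b c d
      rw [mp_cen] at a b
      exact congrArg e (h x hx y hy ((mp_mem e).1 a) ((mp_mem e).1 b) ((mp_inv e).1 c) ((mp_inv e).1 d))) hU h

theorem comm_le {C K : Subgroup S} (h : ∀ g ∈ C, g * g ∈ K) : ⁅C, C⁆ ≤ K :=
  commutator_le.2 fun x hx y hy => by
    rw [commutatorElement_def, show x * y * x⁻¹ * y⁻¹ = x * x * (x⁻¹ * y * (x⁻¹ * y)) * (y⁻¹ * y⁻¹) by group]
    exact mul_mem (mul_mem (h x hx) (h _ (mul_mem (inv_mem hx) hy))) (h _ (inv_mem hy))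

theorem ix_of (h : (H36.QF.Inn S).index = 2) : Ix S := fun a b => by
  rw [mul_mem_iff_of_index_two h]; tauto

end H77.QF
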