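/- Tower QF: more model-free tools for `CVF`. -/
import Cfsg.Agent.H77.QFK

set_option autoImplicit false

namespace H77.QF

open Cfsg Subgroup H14 H98 H97 H36.QE H36.QF
open H14.CO (cen cen1 nor cm Tw mem_cen mem_cen1)

universe u w

variable {S : Type w} [Group S]

/-- `LiftC` when `C(w)` is generated by its squares and a root of `w`. -/
theorem liftC_root {w g i j : S} {n : ℕ} (hC : cen1 w ≤ Sq w ⊔ zpowers g) (hg : g ^ n = w) (hj : j ∈ cen1 w)
    (hij : i * j = w * (j * i)) (hi : i ∈ cen1 w) (h2 : i * i = 1 ∨ i * i = w) : LiftC.{u} w := by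
  intro J _ _ π hπ hk l hl
  have zc : ∀ k, π k = 1 → ∀ g, g * k = k * g := fun k h => mem_center_iff.1 (hπ.2.1 h)
  have k2 : ∀ k, π k = 1 → k * k = 1 := fun k h => by
    have := congrArg Subtype.val (pow_card_eq_one' (x := (⟨k, h⟩ : π.ker)))
    rwa [hk, pow_two] at this
  have mod : ∀ g g', π g = π g' → ∀ x, g' * x = x * g' → g * x = x * g := fun g g' e x h => by
    have := zc (g'⁻¹ * g) (by rw [map_mul, map_inv, e, inv_mul_cancel]) x
    rw [← mul_inv_cancel_left g' g, mul_assoc, ← this, ← mul_assoc, h, mul_assoc]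
  have key : ∀ g, π g ∈ cen1 w → g * l = l * g := fun x hx => by
    obtain ⟨g', h1, h2⟩ := sup_le ((closure_le ((cen1 l).map π)).2 (by
      rintro _ ⟨y, hy, rfl⟩
      obtain ⟨y, rfl⟩ := hπ.1 y
      obtain ⟨k, e⟩ : ∃ k, y * l = k * (l * y) := ⟨y * l * (l * y)⁻¹, by group⟩
      have k1 : π k = 1 := by
        have := congrArg π e
        rw [map_mul, map_mul, map_mul, hl, mem_cen1.1 hy] at this
        exact (right_eq_mul.1 this)
      refine ⟨y * y, mem_cen1.2 ?_, map_mul _ _ _⟩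
      rw [mul_assoc, e, ← mul_assoc, zc k k1, mul_assoc, ← mul_assoc y, e, ← mul_assoc, ← mul_assoc, k2 k k1,
        one_mul, mul_assoc])) (zpowers_le.2 (by
      obtain ⟨y, rfl⟩ := hπ.1 g
      exact ⟨y, mem_cen1.2 (mod l (y ^ n) (by rw [map_pow, hg, hl]) y (Commute.pow_self y n)).symm, rfl⟩)) (hC hx)
    exact mod x g' h2.symm l (mem_cen1.1 h1)
  refine ⟨?_, key⟩
  obtain ⟨i, rfl⟩ := hπ.1 i
  obtain ⟨j, rfl⟩ := hπ.1 j
  obtain ⟨m, e⟩ : ∃ m, i * j = m * (j * i) := ⟨i * j * (j * i)⁻¹, by group⟩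
  have m1 : π m = π l := by
    have := congrArg π e
    rw [map_mul, map_mul, map_mul, hij] at this
    exact hl ▸ (mul_right_cancel this).symm
  have c1 : m * i = i * m := mod m l m1 i (key i hi).symm
  have c2 : i * i * j = j * (i * i) := h2.elim (fun h => (zc _ (by rw [map_mul, h]) j).symm)
    fun h => mod _ l (by rw [map_mul, h, hl]) j (key j hj).symm
  have c3 : m * m = 1 := by
    rw [mul_assoc, e, ← mul_assoc, ← c1, mul_assoc, ← mul_assoc i, e] at c2
    exact mul_eq_right.1 (by simpa only [mul_assoc] using c2 : m * m * (j * (i * i)) = j * (i * i))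
  have k1 : π (m⁻¹ * l) = 1 := by rw [map_mul, map_inv, m1, inv_mul_cancel]
  rw [← mul_inv_cancel_left m l, mul_assoc, ← mul_assoc _ m, ← zc _ k1, mul_assoc, k2 _ k1, mul_one, c3]

theorem nor_X3 (w : S) : cen1 w ≤ nor (X3 w) := fun g hg => by
  have := mp_X3 (MulAut.conj g) w
  rw [MulAut.conj_apply, CO.cj_eq_of_comm (mem_cen1.1 hg)] at this
  exact mem_normalizer_iff_map_conj_eq.2 this.symm

/-- the `2`-elements that centralise a normal subgroup are read in a Sylow subgroup -/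
theorem tw_cen [Finite S] {H T X : Subgroup S} (hT : IsSyl 2 T H) (hn : H ≤ nor X) {z y : S}
    (hz : ∀ g ∈ H, g * z = z * g) (h : ∀ x ∈ T, x ∈ cen X → x = 1 ∨ x = z) (hy : y ∈ H) (ht : Tw y)
    (hc : y ∈ cen X) : y = 1 ∨ y = z := by
  obtain ⟨g, hg, e⟩ := hT.exists_cj_le ht.zp (zpowers_le.2 hy)
  refine (h _ (e (conj_mem_cj (mem_zpowers y))) (mem_cen.2 fun x hx => ?_)).imp conj_eq_one_iff.1 fun f => ?_
  · have := mem_cen.1 hc _ ((mem_normalizer_iff''.1 (hn hg) x).1 hx)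
    calc x * (g * y * g⁻¹) = g * (g⁻¹ * x * g * y) * g⁻¹ := by group
      _ = _ := by rw [this]; group
  · rwa [mul_inv_eq_iff_eq_mul, ← hz g hg, mul_right_inj] at f

end H77.QF
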