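/- Tower QF: model-free tools for `NI` and `CA`. -/
import Cfsg.Agent.H77.QFK2

set_option autoImplicit false

namespace H77.QF

open Cfsg Subgroup H14 H98 H97 H36.QE H36.QF
open H14.CO (cen cen1 nor cm Tw mem_cen mem_cen1)

universe u w w'

variable {S : Type w} [Group S]

/-- `CA` when `w` is the square of a central element of `X3 w` -/
theorem ca_cen {w i : S} (hl : LiftC.{u} w) (hi : i ∈ X3 w) (hc : ∀ x ∈ cen1 w, x ^ 3 = 1 → x * i = i * x)
    (h2 : i * i = w) (hz : ∀ y ∈ cen (X3 w), y * y = 1 → y = 1 ∨ y = w) : CA.{u} w := by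
  rintro J _ _ π t l hπ ht hk e X hX hT φ ψ e1 e2
  have mk : ∀ k, π k = 1 → k = 1 ∨ k = t := fun k h => by
    obtain ⟨n, rfl⟩ := hk.le h
    have t2 : t ^ (2 : ℤ) = 1 := by rw [zpow_two, ht.2]
    rcases Int.even_or_odd' n with ⟨m, rfl | rfl⟩ <;> simp [zpow_add, zpow_mul, t2]
  have k2 : ∀ k, π k = 1 → k * k = 1 := fun k h => (mk k h).elim (fun e => by rw [e, mul_one]) fun e => e ▸ ht.2
  have le : X3 w ≤ X.map π := (closure_le _).2 fun x hx => by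
    obtain ⟨g, rfl⟩ := hπ.1 x
    have e1 : π (g ^ 4) = π g := by rw [map_pow, pow_succ, hx.2, one_mul]
    refine ⟨g ^ 4, hX ▸ subset_closure ⟨e1 ▸ hx.1, ?_⟩, e1⟩
    rw [show (g ^ 4) ^ 3 = (g ^ 3 * g ^ 3) ^ 2 by group, k2 _ (by rw [map_pow, hx.2]), one_pow]
  obtain ⟨j, hj, rfl⟩ := le hi
  have cj : X ≤ cen1 j := hX.le.trans ((closure_le _).2 fun x hx => by
    have p1 : π (j⁻¹ * (x * j * x⁻¹)) = 1 := by
      rw [map_mul, map_mul, map_mul, hc _ hx.1 (by rw [← map_pow, hx.2, map_one]), map_inv, map_inv]; group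
    rcases mk _ p1 with f | f
    · exact mem_cen1.2 (mul_inv_eq_iff_eq_mul.1 (inv_mul_eq_one.1 f).symm)
    have zc : ∀ g, g * t = t * g := mem_center_iff.1 (hπ.2.1 (hk.ge (mem_zpowers t)))
    have a : x * j = j * t * x := by rw [← f]; group
    have b : x * x ∈ cen1 j := mem_cen1.2 (by
      rw [mul_assoc, a, ← mul_assoc, ← mul_assoc, a, mul_assoc _ x t, zc x, ← mul_assoc, mul_assoc j, ht.2, mul_one,
        mul_assoc])
    have := mul_mem b b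
    rwa [show x * x * (x * x) = x ^ 3 * x by simp only [pow_succ, pow_zero, one_mul, mul_assoc], hx.2,
      one_mul] at this)
  have key : ∀ χ : MulAut X, (χ ⟨t, hT⟩ : J) ≠ j * j := fun χ f => by
    have y2 : (χ⁻¹ ⟨j, hj⟩ : J) * (χ⁻¹ ⟨j, hj⟩ : X) = t := by
      rw [← coe_mul, ← map_mul, show (⟨j, hj⟩ * ⟨j, hj⟩ : X) = χ ⟨t, hT⟩ from Subtype.ext f.symm,
        MulAut.inv_apply_self]
    refine ht.1 (y2.symm.trans ((hz (π (χ⁻¹ ⟨j, hj⟩ : X)) (mem_cen.2 fun x hx => ?_)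
      (by rw [← map_mul, y2]; exact hk.ge (mem_zpowers t))).elim (k2 _) fun g => (hl J π hπ ?_ _ g).1))
    · obtain ⟨x, hx', rfl⟩ := le hx
      obtain ⟨x, rfl⟩ : ∃ y : X, (χ⁻¹ y : J) = x := ⟨χ ⟨x, hx'⟩, by rw [MulAut.inv_apply_self]⟩
      rw [← map_mul, ← map_mul, ← coe_mul, ← coe_mul, ← map_mul, ← map_mul,
        show x * ⟨j, hj⟩ = ⟨j, hj⟩ * x from Subtype.ext (mem_cen1.1 (cj x.2))]
    · rw [hk, Nat.card_zpowers, orderOf_eq_prime (by rw [pow_two, ht.2]) ht.1]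
  rcases mk (l⁻¹ * (j * j)) (by rw [map_mul, map_mul, map_inv, h2, e, inv_mul_cancel]) with f | f
  · exact key φ (e1.trans (inv_mul_eq_one.1 f))
  · exact key ψ (e2.trans (by rw [← f, mul_inv_cancel_left]))

/-- the facts behind `ni_of_pf` -/
def PF (p : ℕ) (w : S) (Q : Subgroup S) : Prop := ¬ IsSyl 2 Q ⊤ ∧
  (∀ L : Subgroup S, L ≤ cen1 w → ⁅L, L⁆ = L → ∀ c ∈ L, CO.Inv c → ZI c) ∧
    ∃ X : Subgroup S, X ≤ cen1 w ∧ ⁅X, X⁆ = X ∧ GenP p X ∧ ∀ c ∈ Q, c ∈ cen Q → ZI c → c ∈ X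

theorem mp_pf {S' : Type w'} [Group S'] (e : S ≃* S') {p : ℕ} {w : S} {Q : Subgroup S} :
    PF p (e w) (Q.map e.toMonoidHom) ↔ PF p w Q := by
  unfold PF; tr_simp e

/-- `NI` when the involutions of the perfect subgroups of `C(w)` are `2`-central -/
theorem ni_of_pf [Finite S] {p : ℕ} (hp : p.Prime) (h2 : p ≠ 2) (r : ¬ PRankLE p 1 S) {w0 : S} {Q0 : Subgroup S}
    (cl : ∀ w, CO.Inv w → ¬ ZI w → IsConj w0 w) (hQ : IsSyl 2 Q0 (cen1 w0)) (h : PF p w0 Q0) : NI S := by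
  have k : ∀ w Q, CO.Inv w → ¬ ZI w → IsSyl 2 Q (cen1 w) → PF p w Q := fun w Q h1 h2 h3 =>
    pair_ind (fun e _ _ => (mp_pf e).2) (cl w h1 h2) hQ h h3
  intro w c Q h1 h2 h3 h4 h5 h6 h7 _
  obtain ⟨-, -, X, a1, a2, a3, a4⟩ := k w Q h1 h2 h3
  refine ⟨X, a4 c h5 h6 (by_contra fun m => h7 (isSyl_of_card_eq (fun x hx => mem_cen1.2 (mem_cen.1 h6 x hx)) ?_)),
    a1, ⟨p, hp, ‹_›, r, a3, .inl a2⟩, fun φ w' Q' b1 b2 b3 b4 b5 _ _ => ?_⟩
  · obtain ⟨g, rfl⟩ := isConj_iff.1 ((cl w h1 h2).symm.trans (cl c h4 m))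
    rw [h3.card_eq, ← MulAut.conj_apply, mp_cen1, mp_card]
  · obtain ⟨c1, c2, -⟩ := k w' Q' b2 b3 b5
    refine not_syl_of_zi (c2 _ b4 ?_ _ ⟨_, rfl⟩ ⟨fun e => h4.1 (congrArg Subtype.val (b1 (e.trans (map_one φ).symm))),
      by rw [← map_mul, ← map_one φ]; exact congrArg φ (Subtype.ext h4.2)⟩) c1
    rw [MonoidHom.range_eq_map, ← map_commutator, show ⁅(⊤ : Subgroup X), (⊤ : Subgroup X)⁆ = ⊤ from
      map_injective X.subtype_injective (by rw [map_commutator, ← MonoidHom.range_eq_map, range_subtype, a2])]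

/-- Schreier generators for a subgroup of index two of a group with two generators -/
theorem mem_of_two {N H : Subgroup S} {s : Set S} {a b x : S} (hs : ∀ y ∈ s, y = a ∨ y = b) (ha : a ∉ N)
    (hH : H ≤ N) (h1 : b ∈ H) (h2 : a * b * a⁻¹ ∈ H) (h3 : a * a ∈ H) (hx : x ∈ closure s) (hn : x ∈ N) :
    x ∈ H := by
  refine (closure_induction_left (p := fun y _ => y ∈ H ∨ a * y ∈ H) (.inl (one_mem _)) ?_ ?_ hx).resolve_right
    fun m => ha ((mul_mem_cancel_right hn).1 (hH m))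
  all_goals
    intro y hy x _ h
    rcases hs y hy with rfl | rfl
  · exact h.symm.imp_right fun m => mul_assoc y y x ▸ mul_mem h3 m
  · exact h.imp (mul_mem h1) fun m => by simpa [mul_assoc] using mul_mem h2 m
  · exact h.symm.imp (fun m => by simpa [mul_assoc] using mul_mem (inv_mem h3) m) fun m => by simpa using m
  · exact h.imp (mul_mem (inv_mem h1)) fun m => by simpa [mul_assoc] using mul_mem (inv_mem h2) m

end H77.QF
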