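/- Tower QF, job `JobFHS`: a finite check in the model of `HS:2`. -/
import Cfsg.Agent.H77.QFK3
import Cfsg.Agent.H79.QH3
import Cfsg.Agent.H22.HNKit3

set_option autoImplicit false
set_option maxRecDepth 100000

namespace H77.QF.HS

open Cfsg Subgroup H14 H98 H97 H36.QE H36.QF H49 H22.HK H22.DCE H22.HN H79.QH
open H14.CO (cen cen1 nor cm Tw mem_cen mem_cen1)

/-- a word in the centraliser of the central involution -/
noncomputable abbrev W (w : List ℕ) : P := wd czS w
/-- the same in the simple group -/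
noncomputable def n (w : List ℕ) (h : AP.ap (W w).c 100 = 100 := by decide +kernel) : N := ⟨W w, mem_N.2 h⟩

def wz : List ℕ := [4,0,0,4,0,0]
def wj : List ℕ := [0,4,0,3,1,1,1]
def w3 : List (List ℕ) := [[4], [1,1], [5,1,5,1]]
def wq : List (List ℕ) := [[5,5,1,0,3,0], [0,1,0,1], [3,1,0,1,0,3], [5,4,0,1,5,5]]
/-- sets of elements and the involutions that centralise them -/
def T : List (List (List ℕ) × List (List ℕ)) := [(wq, [[], wz]), (w3, [[], wz]), ([[4,3,5,0], [2]], [[], wz]),
  ([[0,4,3,5], [2,0,0,1,0,5]], [[], wz]), ([[4,5,3,2,1], wj], [[], wz, wj, [0,5,1,5,0,3]])]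
noncomputable def i4 : N := n [3,0,5,5,5,0,0]

/-- the image of a point under a product -/
noncomputable def f (a b : P) (p : ℕ) : ℕ := AP.ap a.c (AP.ap b.c p)

theorem chk : frcLL (T.map fun t => t.1.map W) (fun A => frcLL (T.map fun t => t.2.map W) fun B =>
    i4.1.frc fun i => allTwo czL fun a b => andB (impB (Nat.beq (f a b (f a b 3)) 3) (impB (Nat.beq (f a b 100) 100)
      (impB (Nat.beq (f a b (f a b 4)) 4) ((a * b).frc fun x => impB (eqU (x * x) 1) (allB (fun t =>
        impB (allB (fun y => cm1 y x 3) t.1) (impB (allB (fun y => eqU (y * x) (x * y)) t.1) (memB x t.2)))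
          (A.zip B))))))
      (impB (Nat.beq (f a b (f a b (f a b 3))) 3) (impB (Nat.beq (f a b (f a b (f a b 4))) 4)
        ((a * b).frc fun x => impB (eqU (x * (x * x)) 1) (eqU (x * i) (i * x)))))) = true := by decide +kernel

end H77.QF.HS
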