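/- Tower QF, job `JobFHS`: automorphisms and double cover of the Higman–Sims group. -/
import Cfsg.Agent.H77.QFHS1
import Cfsg.Agent.H9.PBasic
import Cfsg.Agent.H87.Simple

set_option autoImplicit false
set_option maxRecDepth 100000

namespace H77.QF.HS

open Cfsg Subgroup H14 H98 H97 H36.QE H36.QF H49 H22.HK H22.DCE H22.HN H79.QH
open H14.CO (cen cen1 nor cm Tw mem_cen mem_cen1)

universe u

theorem mem_c {x : N} (hz : x ∈ cen1 zz) : (x : P) ∈ closure {s | s ∈ cP} :=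
  centZ ▸ H78.HND.mem_cen.2 (πz ▸ congrArg Subtype.val (mem_cen1.1 hz))

theorem en {x : N} (hz : x ∈ cen1 zz) : (x * x = 1 → ∀ t ∈ T, (∀ y ∈ t.1, W y * x = x * W y) → x.1 ∈ t.2.map W) ∧
    (x ^ 3 = 1 → x * i4 = i4 * x) := by
  have e := chk
  rw [frcLL_eq, frcLL_eq, UG.frc_eq, List.zip_map'] at e
  obtain ⟨a, b, e1, k⟩ := forall_two czL_ub e (czL_top ▸ mem_c hz)
  have d : ∀ p ∈ [3, 4, 100], AP.dom p = true := by decide +kernel
  have am : ∀ p ∈ [3, 4, 100], ∀ a b : P, AP.ap a.c (AP.ap b.c p) = AP.ap (a * b).c p := fun p h a b =>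
    (AP.ap_mul _ _ _ a.ok.1 b.ok.1 (d p h)).symm
  simp only [andB_iff, impB_iff, allB_iff, eqU_iff, memB_iff, Nat.beq_eq, List.forall_mem_map, UG.frc_eq, f,
    am 3 (by simp), am 4 (by simp), am 100 (by simp), ← mul_assoc a b, ← e1] at k
  have o : ∀ p ∈ [3, 4, 100], ∀ y : P, y = 1 → AP.ap y.c p = p := fun p h y e => e ▸ AP.ap_one p (d p h)
  refine ⟨fun h t ht c => ?_, fun h => Subtype.ext ?_⟩
  · have h : x.1 * x.1 = 1 := congrArg Subtype.val h
    exact k.1 (o 3 (by simp) _ h) (mem_N.1 x.2) (o 4 (by simp) _ h) h t ht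
      (fun y hy => cm1_of (c y hy) (d 3 (by simp))) c
  · have h : x.1 * (x.1 * x.1) = 1 := by rw [← pow_three]; exact congrArg Subtype.val h
    exact k.2 (o 3 (by simp) _ h) (o 4 (by simp) _ h) h

theorem en1 {x : N} (hz : x ∈ cen1 zz) (h2 : x * x = 1) {L : List (List ℕ)} (ht : (L, [[], wz]) ∈ T)
    (h : ∀ y ∈ L, W y * x = x * W y) : x = 1 ∨ x = zz := by
  have := (en hz).1 h2 _ ht h
  simp only [List.map, List.mem_cons, List.not_mem_nil, or_false] at this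
  exact this.imp Subtype.ext fun e => Subtype.ext (e.trans (by decide +kernel))

/-! ### the classes -/

theorem conjN {s x : N} (h : IsConj (s : P) x) (hc : wd bP [7] * s = s * wd bP [7]) : IsConj s x := by
  obtain ⟨g, e⟩ := isConj_iff.1 h
  by_cases m : g ∈ N
  · exact isConj_iff.2 ⟨⟨g, m⟩, Subtype.ext e⟩
  · refine isConj_iff.2 ⟨⟨g * wd bP [7], (mul_mem_iff_of_index_two indexN).2
      (iff_of_false m fun k => absurd (mem_N.1 k) (by decide +kernel))⟩, Subtype.ext ?_⟩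
    show g * wd bP [7] * s * (g * wd bP [7])⁻¹ = x
    rw [mul_assoc g, hc, ← e]; group

theorem out_c : wd bP [7] ∉ N := fun k => absurd (mem_N.1 k) (by decide +kernel)
theorem out_d : dP ∉ N := fun k => absurd (mem_N.1 k) (by decide +kernel)

theorem cls5 {p : P} (h : p * p = 1) :
    p = 1 ∨ IsConj (zz : P) p ∨ IsConj (wd bP [7]) p ∨ IsConj dP p ∨ IsConj (jj : P) p := by
  have := clsP p h
  rw [πz, πc, πd] at this
  exact this.imp_right (.imp_right (.imp_right (.imp_right jcj.symm.trans)))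

theorem cls {x : N} (hx : CO.Inv x) : IsConj zz x ∨ IsConj jj x := by
  have out : ∀ {s : P}, s ∉ N → ¬ IsConj s x := fun n e => by
    obtain ⟨g, e⟩ := isConj_iff.1 e.symm
    exact n (e ▸ nN.conj_mem _ x.2 g)
  rcases cls5 (congrArg Subtype.val hx.2) with e | e | e | e | e
  exacts [absurd (Subtype.ext e) hx.1, .inl (conjN e (by decide +kernel)), (out out_c e).elim,
    (out out_d e).elim, .inr (conjN e (by decide +kernel))]

theorem not_zi : ¬ ZI jj := fun e => by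
  have a := e.2
  have b := (cen1 jj).index_mul_card
  rw [Nat.odd_iff] at a
  rw [card_j, cardN] at b; omega

theorem zi_conj {x : N} (hx : ZI x) : IsConj zz x := (cls hx.1).resolve_right fun e => not_zi (hx.conj e.symm)
theorem zi_z : ZI zz := let ⟨_, hd⟩ := exists_zi zz_inv; hd.conj (zi_conj hd).symm
theorem nzi_conj {x : N} (hx : CO.Inv x) (k : ¬ ZI x) : IsConj jj x :=
  (cls hx).resolve_left fun e => k (zi_z.conj e)

theorem inn {p : P} (h : p ∈ N) : cn p ∈ H36.QF.Inn N := ⟨⟨p, h⟩, MulAut.conjNormal_val.symm⟩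

theorem ix : Ix N := fun a b => by
  obtain ⟨a, rfl⟩ := cn_surj a
  obtain ⟨b, rfl⟩ := cn_surj b
  by_cases h : a ∈ N
  · exact .inl (inn h)
  by_cases k : b ∈ N
  · exact .inr (.inl (inn k))
  · exact .inr (.inr (map_mul cn a b ▸ inn ((mul_mem_iff_of_index_two indexN).2 (iff_of_false h k))))

theorem r3 : ¬ PRankLE 3 1 N :=
  rank_of (x := ⟨wd bP [0], mem_N.2 (by decide +kernel)⟩) (y := ⟨wd bP [2,1,3,2,1], mem_N.2 (by decide +kernel)⟩)
    Nat.prime_three (by decide +kernel) (by decide +kernel) (by decide +kernel) (by decide +kernel)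
    (by decide +kernel)

theorem not_syl {Q H : Subgroup N} (hle : Q ≤ H) (hH : ¬ 2 ^ 9 ∣ Nat.card H) : ¬ IsSyl 2 Q ⊤ := fun h =>
  hH ((by rw [h.card_eq, card_top, cardN]; decide +kernel : 2 ^ 9 ∣ Nat.card Q).trans (card_dvd_of_le hle))

/-! ### the second centraliser -/

/-- the alternating group of degree six -/
noncomputable abbrev X : Subgroup N := (ψ 6 (by decide)).range

theorem X_le : X ≤ cen1 jj := fix_cen jj ▸ le6

theorem zX : ∃ a, CO.Inv a ∧ ψ 6 (by decide) a = zz :=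
  ⟨⟨Equiv.swap 0 1 * Equiv.swap 2 3, Equiv.Perm.mem_alternatingGroup.2 (by decide)⟩, ⟨by decide, by decide⟩,
    Subtype.ext ((ψ_val [0, 1, 1, 0]).trans (by decide +kernel))⟩

theorem ziX : ∀ c ∈ X, CO.Inv c → ZI c := by
  rintro _ ⟨x, rfl⟩ hi
  obtain ⟨a, ha, e⟩ := zX
  exact zi_z.conj (e ▸ (ψ 6 _).map_isConj (one_A6 a x ha
    ⟨fun e => hi.1 (by rw [e, map_one]), ψ_inj _ (by rw [map_mul, hi.2, map_one])⟩))

theorem genX : GenP 3 X := by
  rw [GenP, X, MonoidHom.range_eq_map, ← alternatingGroup.closure_isThreeCycles_eq_top, map_le_iff_le_comap,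
    closure_le]
  exact fun g hg => subset_closure ⟨mem_map_of_mem _ (subset_closure hg), by
    rw [← map_pow, show g ^ 3 = 1 from Subtype.ext (by rw [← hg.orderOf]; exact pow_orderOf_eq_one _), map_one]⟩

theorem ni : NI N := by
  obtain ⟨Q, hQ, hv⟩ := exists_isSyl_le (p := 2) (Q := zpowers (n [4,5,3,2,1])) (H := cen1 jj)
    (isPGroup_zpowers (k := 3) (by decide +kernel)) (zpowers_le.2 (mem_cen1.2 (by decide +kernel)))
  refine ni_of_pf Nat.prime_three (by decide) r3 (fun _ => nzi_conj) hQ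
    ⟨not_syl hQ.le (by rw [card_j]; decide), fun L h1 h2 c hc => ziX c ?_, X, X_le, ?_, genX, fun c hc h zi => ?_⟩
  · have k := H9.card_sup_zpowers_of_normalizes (p := 2) (N := X) (x := jj)
      (CO.cen_le_nor _ (mem_cen.2 fun x hx => mem_cen1.1 (X_le hx))) (fun m => not_zi (ziX _ m jj_inv))
      (by rw [pow_two, jj_inv.2]; exact one_mem _)
    rw [card_ψ6] at k
    exact perf_le h2 (perf_le h2 h1 (sup_le X_le (zpowers_le.2 (mem_cen1.2 rfl))) (by rw [card_j, k]; decide))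
      le_sup_left (by rw [card_ψ6, k]; decide) hc
  · have := simple_alt (k := 6) (by decide)
    rw [X, MonoidHom.range_eq_map, ← map_commutator, ← commutator_def, H87.commutator_eq_top
      (H87.nonabelian_of_card_not_prime (by rw [← card_ψ (by decide), card_ψ6]; norm_num))]
  · have := (en (mem_cen1.2 (mem_cen.1 h zz (hv ⟨4, by decide +kernel⟩)).symm)).1 zi.1.2 ([[4,5,3,2,1], wj], _)
      (by decide : (_, [[], wz, wj, [0,5,1,5,0,3]]) ∈ T) (List.forall_mem_cons.2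
        ⟨congrArg Subtype.val (mem_cen.1 h _ (hv (mem_zpowers _))), List.forall_mem_singleton.2
          ((by decide +kernel : jj.1 = W wj) ▸ congrArg Subtype.val (mem_cen1.1 (hQ.le hc)).symm)⟩)
    simp only [List.map, List.mem_cons, List.not_mem_nil, or_false] at this
    rcases this with e | e | e | e
    · exact (zi.1.1 (Subtype.ext e)).elim
    · obtain ⟨a, -, f⟩ := zX
      exact ⟨a, f.trans (Subtype.ext (e.trans (by decide +kernel))).symm⟩
    · exact (not_zi ((Subtype.ext (e.trans (by decide +kernel)) : c = jj) ▸ zi)).elim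
    · exact (not_zi (zi.conj (isConj_iff.2 ⟨⟨xP, x_eqs.1⟩, Subtype.ext
        (show xP * c * xP⁻¹ = _ by rw [e]; decide +kernel)⟩))).elim

theorem e4 : E4 jj := ⟨X, X_le, ⟨3, Nat.prime_three, by decide, r3, genX⟩, fun b h _ => by
  obtain ⟨p, rfl⟩ := cn_surj b
  rw [← map_mul, (by decide +kernel : ∀ p ∈ VP, p * p = 1) p (cen6 h), map_one]⟩

theorem exU : ∃ U : Subgroup N, IsSyl 2 U ⊤ ∧ ¬ IsMulCommutative U ∧
    ∀ x ∈ U, ∀ y ∈ U, x ∈ cen U → y ∈ cen U → CO.Inv x → CO.Inv y → x = y := by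
  obtain ⟨U, hU, hle⟩ := exists_isSyl_le (p := 2) (Q := (closure {s | s ∈ qS}).subgroupOf N) (H := ⊤)
    (fun x => ⟨2, Subtype.ext (Subtype.ext ((show x.1.1 ^ 2 ^ 2 = _ by rw [sq, pow_mul, sq, sq]).trans
      (allQ (x := x.1.1) x.2).1))⟩) le_top
  have q : ∀ y ∈ wq, W y ∈ closure {s | s ∈ qS} := fun y hy =>
    subset_closure ((by decide +kernel : ∀ y ∈ wq, W y ∈ qS) y hy)
  have m : ∀ y ∈ wq, ∀ h, n y h ∈ U := fun y h _ => hle (q y h)
  have key : ∀ w ∈ cen U, CO.Inv w → w = zz := fun w hw hi => (en1 (mem_cen1.2 (mem_cen.1 hw zz (by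
      rw [(by decide +kernel : zz = n [5,4,0,1,5,5] * n [5,4,0,1,5,5])]
      exact mul_mem (m _ (by decide) _) (m _ (by decide) _))).symm) hi.2 (by decide : (wq, _) ∈ T)
    fun y h => congrArg Subtype.val (mem_cen.1 hw _ (m y h (mem_N.1 (allQ (q y h)).2.2.1)))).resolve_left hi.1
  refine ⟨U, hU, fun e => ?_, fun x _ y _ a b c d => (key x a c).trans (key y b d).symm⟩
  exact (by decide +kernel : n [0,1,0,1] * n [3,1,0,1,0,3] ≠ n [3,1,0,1,0,3] * n [0,1,0,1])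
    (setLike_mul_comm (m _ (by decide) _) (m _ (by decide) _))

/-! ### outer involutions -/

/-- the facts on an outer involution -/
def OK (b : MulAut N) : Prop := NOa b ∧ ¬ 2 ^ 9 ∣ Nat.card (Fix b) ∧ FO1 b ∧ FO2a b

theorem ok_of {a : P} (g : P) (b : List ℕ) (x p q y : N) (hF : ¬ 2 ^ 9 ∣ Nat.card (Fix (cn a))) (wx : List ℕ)
    (ht : ([wx, b], [[], wz]) ∈ T) (h : g * a * g⁻¹ = W b ∧ a * jj = jj * a ∧ x.1 = W wx ∧ W b * x = x * W b ∧
      W b * p = p * W b ∧ W b * q = q * W b ∧ x * x * (x * x) = zz ∧ zz = p * q * p⁻¹ * q⁻¹ ∧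
      y.1⁻¹ * (W b * y * (W b)⁻¹) = zP := by decide +kernel) : OK (cn a) := by
  obtain ⟨h1, h2, h3, h4, h5, h6, h7, h8, h9⟩ := h
  have e : cn (W b) = MulAut.congr (cn g) (cn a) := by rw [← h1, map_mul, map_mul, map_inv, congr_eq]
  have fx := fix_iff.2 h4
  refine ⟨(mp_noa (cn g)).1 (e ▸ ?_), hF, (mp_fo1 (cn g)).1 (e ▸ fo1_of zz_inv ⟨y, Subtype.ext h9⟩
    (mul_mem fx fx) h7), jj, jj_inv, fix_iff.2 h2, not_zi⟩
  have x4 : x ^ 4 = zz := by rw [← h7]; simp only [pow_succ, pow_zero, one_mul, mul_assoc]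
  obtain ⟨Q, hQ, hv⟩ := exists_isSyl_le (p := 2) (Q := zpowers x) (H := Fix (cn (W b)))
    (isPGroup_zpowers (k := 3) (by rw [show 2 ^ 3 = 4 * 2 from rfl, pow_mul, x4, sq, zz_inv.2])) (zpowers_le.2 fx)
  have key : ∀ w ∈ Q, w ∈ cen Q → CO.Inv w → w = zz := fun w hw hc hi =>
    (en1 (mem_cen1.2 (mem_cen.1 hc zz (hv (x4 ▸ npow_mem_zpowers x 4))).symm) hi.2 ht (List.forall_mem_cons.2
      ⟨h3 ▸ congrArg Subtype.val (mem_cen.1 hc _ (hv (mem_zpowers _))),
        List.forall_mem_singleton.2 (fix_iff.1 (hQ.le hw))⟩)).resolve_left hi.1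
  refine noa_of_one hQ (fun w hw hc hi => key w hw hc hi ▸ not_syl_of_zi zi_z (not_syl hQ.le (by
    rwa [e, mp_Fix, mp_card]))) (.inl fun c hw hc hi => ?_)
  rw [key c hw hc hi, h8]
  exact commutator_mem_commutator (fix_iff.2 h5) (fix_iff.2 h6)

theorem ok_c : OK (cn (wd bP [7])) := by
  have c := cardFix (wd bP [7])
  rw [(rel2 _).resolve_left fun e => out_c e.2, ← πc, centC.2, πc] at c
  exact ok_of (wd H79.QH.S0 [3,2,5,10]) [2] (n [4,3,5,0]) (n [4,5,0]) (n [1,1,3]) (n [0,1,0]) (by omega)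
    [4,3,5,0] (by decide)

theorem ok_d : OK (cn dP) := by
  have c := cardFix dP
  have a := centD
  rw [(rel2 _).resolve_left fun e => out_d e.2] at c
  rw [πd] at a
  have k : ∀ (p : ℕ) [Fact p.Prime] (w : List ℕ), wd kS w ^ p = 1 ∧ wd kS w ≠ 1 → p ∣ Nat.card (centralizer {dP}) :=
    fun p _ w h => orderOf_eq_prime h.1 h.2 ▸ Subgroup.orderOf_dvd_natCard _ (wd_mem (K := (centralizer {dP}).toSubmonoid)
      (fun s hs => mem_centralizer_singleton_iff.2 (kf_d.1 s hs)) w)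
  have : Fact (Nat.Prime 5) := ⟨Nat.prime_five⟩
  refine ok_of (wd H79.QH.S0 [0]) [2,0,0,1,0,5] (n [0,4,3,5]) (n [1,1,3]) (n [4,4,1,5,0]) (n [4,3]) (fun h => ?_)
    [0,4,3,5] (by decide)
  exact absurd (Nat.le_of_dvd Nat.card_pos ((by norm_num : Nat.Coprime (2 ^ 9 * 2) (3 * 5)).mul_dvd_of_dvd_of_dvd
    (c ▸ Nat.mul_dvd_mul_right h 2) ((by norm_num : Nat.Coprime 3 5).mul_dvd_of_dvd_of_dvd
      (k 3 [6,3,2,1] (by decide +kernel)) (k 5 [6,4,0] (by decide +kernel))))) (not_le.2 a)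

theorem ok {θ : MulAut N} (h : Ou θ) : OK θ := by
  obtain ⟨p, rfl⟩ := cn_surj θ
  have i : ∀ {s : N}, ¬ IsConj (s : P) p := fun {s} e => by
    obtain ⟨g, rfl⟩ := isConj_iff.1 e
    exact h.2 (inn (nN.conj_mem _ s.2 g))
  have o : ∀ {s : P}, OK (cn s) → IsConj s p → OK (cn p) := fun {s} k e => by
    obtain ⟨g, rfl⟩ := isConj_iff.1 e
    rw [map_mul, map_mul, map_inv, ← congr_eq]
    exact ⟨(mp_noa _).2 k.1, by rw [mp_Fix, mp_card]; exact k.2.1, (mp_fo1 _).2 k.2.2.1, (mp_fo2a _).2 k.2.2.2⟩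
  rcases cls5 (cn_inj (by rw [map_mul, h.1, map_one])) with e | e | e | e | e
  exacts [(i (s := 1) (e ▸ .refl _)).elim, (i e).elim, o ok_c e, o ok_d e, (i e).elim]

theorem ks : KS N :=
  let ⟨_, h1, h2, h3⟩ := exU
  ⟨outD_of_ix ix, fun _ h => (ok h).1, ni, .inl (uf1_of h1 h2 h3 (ab_of_ix zN ix h1))⟩

/-! ### the first centraliser -/

theorem m3 : ∀ y ∈ w3, W y ∈ (X3 zz).map N.subtype := fun y hy =>
  have := (by decide +kernel : ∀ y ∈ w3, AP.ap (W y).c 100 = 100 ∧ W y * zP = zP * W y ∧ W y ^ 3 = 1) y hy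
  ⟨n y this.1, subset_closure ⟨mem_cen1.2 (Subtype.ext this.2.1), Subtype.ext this.2.2⟩, rfl⟩

theorem mX3 {x : N} (w : List ℕ) (e : x.1 = wd (w3.map W) w := by decide +kernel) : x ∈ X3 zz :=
  (mem_map_iff_mem N.subtype_injective).1 (show x.1 ∈ _ from e ▸ wd_mem (K := ((X3 zz).map N.subtype).toSubmonoid)
    (List.forall_mem_map.2 m3) w)

theorem liftC : LiftC.{u} zz := by
  have g : n [3,0,0] ∈ Sq zz ⊔ zpowers (n [3,0,0]) := mem_sup_right (mem_zpowers _)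
  have s : ∀ x : N, x ∈ X3 zz → x ∈ Sq zz ⊔ zpowers (n [3,0,0]) := fun x h => mem_sup_left (X3_le_Sq _ h)
  refine liftC_root (g := n [3,0,0]) (n := 4) (i := n [3]) (j := n [0,1,4,0]) (fun x hx => ?_) (by decide +kernel)
    (mem_cen1.2 (by decide +kernel)) (by decide +kernel) (mem_cen1.2 (by decide +kernel)) (.inl (by decide +kernel))
  exact (mem_map_iff_mem N.subtype_injective).1 (mem_of_two
    (by decide +kernel : ∀ y ∈ cP, y = W [0] ∨ y = W [1])
    (fun k => absurd (mem_N.1 k) (by decide +kernel)) (map_subtype_le _)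
    ⟨n [1], (mul_mem_cancel_right (inv_mem g)).1 (s _ (mX3 [1,1,0,2,1,1,2])), rfl⟩
    ⟨⟨_, nN.conj_mem _ (n [1]).2 (W [0])⟩, (mul_mem_cancel_right (inv_mem g)).1 (s _ (mX3 [0,1,2,0,1,0,0,2,2])), rfl⟩
    ⟨⟨_, N.mul_self_mem_of_index_two indexN (W [0])⟩, s _ (mX3 [0,2,0,1,2,0,0,2,0]), rfl⟩ (mem_c hx) x.2)

theorem z3 : zz ∈ X3 zz := mX3 [2,0,2,0,2,0,2,0,2,0]

theorem ca : H36.QF.CA.{u} zz :=
  ca_cen liftC (mX3 [1,2,1,2,1,1,2,1,2,0]) (fun _ hx => (en hx).2) (by decide +kernel) fun y hy h =>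
    en1 (mem_cen1.2 (mem_cen.1 hy _ z3).symm) h (by decide : (w3, _) ∈ T) fun w hw => by
      obtain ⟨x, hx, e⟩ := m3 w hw
      exact e ▸ congrArg Subtype.val (mem_cen.1 hy x hx)

theorem cvf : CVF'.{u} N where
  ix := ix
  r3 := r3
  c2 w h1 h2 := by
    obtain ⟨g, rfl⟩ := isConj_iff.1 (nzi_conj h1 h2)
    exact ⟨lift_j.conj (isConj_iff.2 ⟨g, rfl⟩), (mp_e4 (MulAut.conj g)).2 e4⟩
  c1 w h := by
    obtain ⟨g, rfl⟩ := isConj_iff.1 (zi_conj h)
    exact ⟨LiftC.congr (MulAut.conj g) liftC, (mp_X3 (MulAut.conj g) zz).ge (mem_map_of_mem _ z3),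
      .inl (CA.congr (MulAut.conj g) ca)⟩
  zu U hU x hx y hy a b c d := by
    obtain ⟨_, h1, -, h3⟩ := exU
    rw [z2_of h1 h3 U hU x hx y hy a b c d]
    exact ⟨.refl _, rfl⟩
  z2 := let ⟨_, h1, _, h3⟩ := exU; .inl (z2_of h1 h3)
  ou θ h := ⟨ou_card zN ix (ok h).2.1 (by rw [cardN]; decide), (ok h).2.2.1, .inl (ok h).2.2.2⟩
  kr := let ⟨e⟩ := isoN; .inl (kr_of (H21.multiplier_congr_left Cfsg.Agent.S2046.result e.symm))

theorem jobFHS : JobFHS.{u} := fun _ _ _ _ _ ⟨e⟩ =>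
  have ⟨f⟩ := isoN
  ⟨KS.congr (f.trans e.symm) ks, CVF'.cvf (f.trans e.symm) cvf⟩

end H77.QF.HS
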