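/- Tower QF, job `JobFJ2`: automorphisms and double cover of the Hall–Janko group. -/
import Cfsg.Agent.H77.QFK
import Cfsg.Agent.H4.QeJ2

set_option autoImplicit false
set_option maxRecDepth 100000

namespace H77.QF.J2

open Cfsg Subgroup H14 H98 H97 H36.QE H36.QF H49 H71 H4 H4.M2 H4.QJ
open H14.CO (cen cen1 nor cm Tw mem_cen mem_cen1)

universe u

theorem io_t : io X1.t = t := congrFun uval_io 12
theorem inv_z : CO.Inv z := ⟨by decide +kernel, by decide +kernel⟩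
theorem inv_a : CO.Inv a := ⟨by decide +kernel, by decide +kernel⟩
theorem io_cen (x : X1.X) : io x ∈ cen1 z := mem_cen1.2 (by rw [← io_z, ← map_mul, ← map_mul, z_cent])

theorem not_zi : ¬ ZI a := fun e => by
  have := e.2
  rw [index_a] at this
  revert this; decide

theorem zi_conj {x : X} (hx : ZI x) : IsConj z x :=
  (invol_conj (ord_two hx.1)).resolve_right fun e => not_zi (hx.conj e.symm)

theorem zi_z : ZI z := let ⟨_, hd⟩ := exists_zi inv_z; hd.conj (zi_conj hd).symm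

theorem nzi_conj {x : X} (hx : CO.Inv x) (n : ¬ ZI x) : IsConj a x :=
  (invol_conj (ord_two hx)).resolve_left fun e => n (zi_z.conj e)

theorem ix : Ix X := ix_of H15.OutJ2.out

theorem r3 : ¬ PRankLE 3 1 X :=
  rank_of (x := c1) (y := c1 * c2 * c1⁻¹ * c2⁻¹) Nat.prime_three (by decide +kernel) (by decide +kernel)
    (by decide +kernel) (by decide +kernel) (by decide +kernel)

theorem not_syl {Q H : Subgroup X} (hle : Q ≤ H) (hH : ¬ 2 ^ 7 ∣ Nat.card H) : ¬ IsSyl 2 Q ⊤ := fun h =>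
  hH ((by rw [h.card_eq, card_top, M2.card]; decide +kernel : 2 ^ 7 ∣ Nat.card Q).trans (card_dvd_of_le hle))

theorem fix7 : ¬ 2 ^ 7 ∣ Nat.card (Fix tau) := fun h => by
  have := Nat.mul_dvd_mul h four_tau
  rw [card_mul_index, M2.card] at this
  revert this; decide

theorem out_conj {θ : MulAut X} (h : Ou θ) : ∃ k, θ = MulAut.congr k tau := by
  obtain ⟨h1, h2⟩ := h
  obtain ⟨x, rfl | rfl⟩ := H4.QJ.dec θ
  · exact (h2 ⟨x, rfl⟩).elim
  · rw [mul_assoc, ← mul_assoc tau, H63.Qe.conj_mul_aut, mul_assoc,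
      show tau * tau = 1 from MulEquiv.ext tau_tau, mul_one, ← map_mul] at h1
    obtain ⟨k, rfl⟩ := lang (H63.Qe.conj_eq_one hz h1)
    exact ⟨MulAut.conj k⁻¹, MulEquiv.ext fun x => by simp [mul_assoc]⟩

theorem tau_p : tau p = p := tau_eq.2 (by decide +kernel)
theorem tau_q : tau q = q := tau_eq.2 (by decide +kernel)

theorem noa : NOa tau := by
  obtain ⟨Q, hQ, hv⟩ := exists_isSyl_le (p := 2) (Q := zpowers (h * p * t)) (H := Fix tau)
    (isPGroup_zpowers (k := 3) (by decide +kernel)) (zpowers_le.2 (tau_eq.2 (by decide +kernel)))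
  have key : ∀ w ∈ cen Q, CO.Inv w → w = z := fun w hw hi => by
    have c := mem_cen.1 hw _ (hv (mem_zpowers _))
    obtain ⟨x, rfl⟩ := pull (c := w) (mem_cen.1 hw z (hv ⟨4, by decide +kernel⟩)).symm
    rw [← io_h, ← io_p, ← io_t, ← map_mul, ← map_mul, ← map_mul, ← map_mul] at c
    rcases X1.all (P := fun x => X1.h * X1.p * X1.t * x = x * (X1.h * X1.p * X1.t) → x * x = 1 →
      x = 1 ∨ x = X1.z) (by decide +kernel) x (jm.inj c) (jm.inj (by rw [map_mul, hi.2, map_one])) with e | e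
    · exact (hi.1 (by rw [e, map_one])).elim
    · rw [e, io_z]
  refine noa_of_one hQ (fun w _ hw hi => key w hw hi ▸ not_syl_of_zi zi_z (not_syl hQ.le fix7))
    (.inl fun c _ hc hi => ?_)
  rw [key c hc hi, show z = p * q * p⁻¹ * q⁻¹ by decide +kernel]
  exact commutator_mem_commutator tau_p tau_q

theorem exK : ∃ K : Subgroup X, K ≤ cen1 a ∧ ⁅K, K⁆ = K ∧ GenP 3 K ∧ z ∈ K ∧ u ∈ K ∧
    (∀ g ∈ cen1 a, g * g ∈ K) ∧ ∀ c ∈ K, CO.Inv c → ZI c := by
  obtain ⟨ψ, ez, eu⟩ := H61.exists_hom_alt5 (a := z) (b := u) (by decide +kernel) (by decide +kernel)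
    (by decide +kernel)
  have hs : IsSimpleGroup (alternatingGroup (Fin 5)) := alternatingGroup.isSimpleGroup (by simp)
  have hψ := H87.hom_injective ψ H61.a5s (by rw [ez]; decide +kernel)
  have mz : z ∈ ψ.range := ⟨_, ez⟩
  have mu : u ∈ ψ.range := ⟨_, eu⟩
  have cm : ∀ s ∈ [a, b, z, u], s * a = a * s ∧ s * b = b * s := by decide +kernel
  have eK : ψ.range = closure {z, u} := by rw [H61.range_eq_closure_pair H61.closure_a5, ez, eu]
  have hK : ψ.range ≤ cen1 a := by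
    rw [eK]
    refine (closure_le _).2 ?_
    rintro _ (rfl | rfl) <;> exact mem_cen1.2 (cm _ (by simp)).1
  refine ⟨ψ.range, hK, ?_, eK.le.trans ((closure_le _).2 ?_), mz, mu, fun x => H80.QE.sq_mem_of_split hK
    (H80.QE.split_of_gen hK (s := {s | s ∈ [a, b, z, u]}) (le_antisymm
      (fun x hx => cent_a (mem_cen1.1 hx)) ((closure_le _).2 fun s hs => mem_cen1.2 (cm s hs).1)) ?_), ?_⟩
  · rw [MonoidHom.range_eq_map, ← map_commutator, ← commutator_def, H87.commutator_eq_top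
      (H87.nonabelian_of_card_not_prime (by rw [H61.card_alt5]; norm_num))]
  · have m1 : u ∈ closure {x | x ∈ ψ.range ∧ x ^ 3 = 1} := subset_closure ⟨mu, by decide +kernel⟩
    have m2 : z * u * z ∈ closure {x | x ∈ ψ.range ∧ x ^ 3 = 1} :=
      subset_closure ⟨mul_mem (mul_mem mz mu) mz, by decide +kernel⟩
    rintro _ (rfl | rfl)
    · have := mul_mem (mul_mem (mul_mem (mul_mem m1 m2) m1) m2) m1
      rwa [show u * (z * u * z) * u * (z * u * z) * u = z by decide +kernel] at this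
    · exact m1
  · intro s hs
    simp only [List.mem_cons, List.not_mem_nil, or_false, Set.mem_ofPred_eq] at hs
    have a2 : a * a = 1 := by decide +kernel
    have b2 : b * b = 1 := by decide +kernel
    rcases hs with rfl | rfl | rfl | rfl
    exacts [⟨a, mem_cen1.2 rfl, a2, fun s hs => (cm s hs).1, a2 ▸ one_mem _⟩,
      ⟨b, mem_cen1.2 (cm b (by simp)).1, b2, fun s hs => (cm s hs).2, b2 ▸ one_mem _⟩,
      ⟨1, one_mem _, one_mul _, by simp, by rwa [one_mul]⟩,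
      ⟨1, one_mem _, one_mul _, by simp, by rwa [one_mul]⟩]
  · rintro _ ⟨x, rfl⟩ hi
    exact zi_z.conj (ez ▸ ψ.map_isConj (one_alt5 _ x ⟨by decide, by decide⟩
      ⟨fun e => hi.1 (by rw [e, map_one]), hψ (by rw [map_mul, hi.2, map_one])⟩))

theorem ni : NI X := ni_of_np fun w h1 h2 => by
  obtain ⟨Q, hQ⟩ := exists_isSyl 2 (cen1 a)
  obtain ⟨K, k1, k2, k3, mz, mu, k4, k5⟩ := exK
  refine ⟨a, Q, nzi_conj h1 h2, hQ, fun c hc hc' hi => ⟨fun m => not_syl_of_zi (k5 c (comm_le k4 m) hi)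
    (not_syl hQ.le (by rw [card_a]; decide)), fun n _ => ⟨K, ?_, k1, k2, 3, Nat.prime_three, by decide, r3, k3⟩⟩⟩
  have zi : ZI c := by_contra fun m => n (isSyl_of_card_eq (fun x hx => mem_cen1.2 (mem_cen.1 hc' x hx)) (by
    obtain ⟨g, rfl⟩ := isConj_iff.1 (nzi_conj hi m)
    rw [hQ.card_eq, ← MulAut.conj_apply, mp_cen1, mp_card]))
  have := LZ_a _ (LZ_iff.2 (zi_conj zi)) (mem_cen1.1 (hQ.le hc))
  unfold L15 at this; rw [UG.litL_eq] at this
  obtain ⟨t, ht, rfl⟩ := List.mem_map.mp this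
  obtain ⟨w, -, rfl⟩ := List.mem_map.mp ht
  have m := wd_mem (K := K.toSubmonoid) (S := [z, u]) (List.forall_mem_cons.2 ⟨mz, List.forall_mem_singleton.2 mu⟩) w
  exact mul_mem (mul_mem m mz) (inv_mem m)

theorem exU : ∃ U : Subgroup X, IsSyl 2 U ⊤ ∧ ¬ IsMulCommutative U ∧
    ∀ x ∈ U, ∀ y ∈ U, x ∈ cen U → y ∈ cen U → CO.Inv x → CO.Inv y → x = y := by
  obtain ⟨U, hU, hle⟩ := exists_isSyl_le (p := 2) (Q := Q0.map io) (H := ⊤)
    (IsPGroup.of_card (n := 5) ((card_map_of_injective jm.inj).trans X1.cq_card)) le_top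
  have m : ∀ s ∈ X1.qg, io s ∈ U := fun s hs => hle (mem_map_of_mem _ (mem_Q0 hs))
  have key : ∀ w ∈ cen U, CO.Inv w → w = z := fun w hw hi => by
    obtain ⟨x, rfl⟩ := pull (c := w) (io_z ▸ mem_cen.1 hw _ (m X1.z (by simp [X1.qg]))).symm
    have c : ∀ s ∈ X1.qg, x * s = s * x := fun s hs => jm.inj (by
      rw [map_mul, map_mul, mem_cen.1 hw _ (m s hs)])
    rcases X1.centQ x (c _ (by simp [X1.qg])) (c _ (by simp [X1.qg])) (c _ (by simp [X1.qg]))
      (c _ (by simp [X1.qg])) with e | e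
    · exact (hi.1 (by rw [e, map_one])).elim
    · rw [e, io_z]
  refine ⟨U, hU, fun e => ?_, fun x _ y _ a b c d => (key x a c).trans (key y b d).symm⟩
  have := setLike_mul_comm (m X1.p (by simp [X1.qg])) (m X1.q (by simp [X1.qg]))
  rw [io_p, io_q] at this
  exact absurd this (by decide +kernel)

theorem ks : KS X :=
  let ⟨_, h1, h2, h3⟩ := exU
  ⟨outD_of_ix ix, fun _ h => let ⟨k, e⟩ := out_conj h; e ▸ (mp_noa k).2 noa, ni,
    .inl (uf1_of h1 h2 h3 (ab_of_ix hz ix h1))⟩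

theorem e4 : E4 a := by
  obtain ⟨K, k1, -, k3, mz, mu, -⟩ := exK
  refine ⟨K, k1, ⟨3, Nat.prime_three, by decide, r3, k3⟩, fun θ hθ h4 => ?_⟩
  have mf := mul_mem mz mu
  obtain ⟨x, rfl | rfl⟩ := H4.QJ.dec θ
  · rw [← map_pow] at h4
    have h5 := orderOf_dvd_of_pow_eq_one (H63.Qe.conj_eq_one hz h4)
    have h6 : orderOf (z * u) = 5 := orderOf_eq_prime (by decide +kernel) (by decide +kernel)
    have h7 := ord_mem (z * u * x)
    rw [Commute.orderOf_mul_eq_mul_orderOf_of_coprime (mem_cen.1 (conj_fix hθ) _ mf)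
      (h6 ▸ Nat.Coprime.coprime_dvd_right h5 (by norm_num)), h6] at h7
    rw [← map_mul, ← pow_two, orderOf_dvd_iff_pow_eq_one.1 ((by decide : ∀ n ∈ Nat.divisors 4,
      5 * n ∈ [1, 2, 3, 4, 5, 6, 7, 8, 10, 12, 15] → n ∣ 2) _ (Nat.mem_divisors.2 ⟨h5, by norm_num⟩) h7),
      map_one]
  · have h5 := hθ (mul_mem mf mf)
    rw [mem_Fix, MulAut.mul_apply, tau_eq.2 f_sig, ← f_conj, conj_mul] at h5
    exact (not_f2 ((isConj_iff.2 ⟨_, rfl⟩).trans ((isConj_iff.2 ⟨x, h5⟩).trans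
      (isConj_iff.2 ⟨_, rfl⟩).symm))).elim

theorem cen_X3 : cen1 z ≤ X3 z := fun c hc => by
  obtain ⟨x, rfl⟩ := pull (mem_cen1.1 hc)
  refine mem_comap.1 ((closure_le ((X3 z).comap io)).2 (fun s hs => ?_) (X1.gens_top ▸ mem_top x))
  obtain ⟨w, -, rfl⟩ := List.mem_map.1 ((by decide +kernel : ∀ s ∈ X1.gens, s ∈ List.map
    (wd [X1.y, X1.i * X1.y * X1.i, X1.r * X1.y * X1.r]) [[0], [0, 1, 0, 1, 0], [2, 0, 1, 1, 0, 0, 2, 1, 0],
      [2, 1, 0, 2, 0, 1, 1, 0, 0], [0, 1, 2, 1, 0, 2, 1, 0, 1, 0], [1, 0, 0, 1, 2, 1, 0, 2, 1, 0],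
      [1, 0, 0, 2, 1, 0, 2, 0, 1], [2, 0, 0, 2, 0, 0]]) s hs)
  exact wd_mem (K := ((X3 z).comap io).toSubmonoid) (fun v hv => subset_closure ⟨io_cen v, by
    rw [← map_pow, (by decide +kernel : ∀ v ∈ [X1.y, X1.i * X1.y * X1.i, X1.r * X1.y * X1.r], v ^ 3 = 1) v hv,
      map_one]⟩) w

theorem ca : H36.QF.CA.{u} z := by
  refine ca_of (Q := Q0.map io) (y := a) (y' := h)
    (IsPGroup.of_card (n := 5) ((card_map_of_injective jm.inj).trans X1.cq_card)) (fun x hx => ?_)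
    (cen_X3 (io_a ▸ io_cen _)) (cen_X3 (io_h ▸ io_cen _)) inv_a.2 (by decide +kernel) lift4
    (lift4.conj (nzi_conj ⟨by decide +kernel, by decide +kernel⟩ fun e =>
      absurd (LZ_iff.2 (zi_conj e)) (by decide +kernel))) fun ⟨n, hn⟩ => ?_
  · obtain ⟨x, rfl⟩ := pull (c := x) (by rw [← hx, mul_assoc])
    exact mem_map_of_mem _ (X1.LQ_iff.2 (X1.all (P := fun x => x * x = X1.z → x ∈ X1.LQ) (by decide +kernel) x
      (jm.inj (by rw [map_mul, hx, io_z]))))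
  · have := orderOf_dvd_of_pow_eq_one hn
    rw [orderOf_eq_prime (p := 5) (by decide +kernel) (by decide +kernel)] at this
    exact absurd (Nat.Prime.dvd_of_dvd_pow (by norm_num) this) (by norm_num)

theorem cvf : CVF'.{u} X where
  ix := ix
  r3 := r3
  c2 w h1 h2 := by
    obtain ⟨g, rfl⟩ := isConj_iff.1 (nzi_conj h1 h2)
    exact ⟨lift4.conj (isConj_iff.2 ⟨g, rfl⟩), (mp_e4 (MulAut.conj g)).2 e4⟩
  c1 w h := by
    obtain ⟨g, rfl⟩ := isConj_iff.1 (zi_conj h)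
    exact ⟨LiftC.congr (MulAut.conj g) (liftC_of (i := p) (j := q) (cen_X3.trans (X3_le_Sq z))
      (io_q ▸ io_cen _) (by decide +kernel) (io_p ▸ io_cen _) (.inl (by decide +kernel))),
      (mp_X3 (MulAut.conj g) z).ge (mem_map_of_mem _ (cen_X3 (mem_cen1.2 rfl))),
      .inl (CA.congr (MulAut.conj g) ca)⟩
  zu U hU x hx y hy a b c d := by
    obtain ⟨_, h1, -, h3⟩ := exU
    rw [z2_of h1 h3 U hU x hx y hy a b c d]
    exact ⟨.refl _, rfl⟩
  z2 := let ⟨_, h1, _, h3⟩ := exU; .inl (z2_of h1 h3)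
  ou θ hθ := by
    obtain ⟨k, rfl⟩ := out_conj hθ
    exact ⟨ou_card hz ix (k := 7) (by rw [mp_Fix, mp_card]; exact fix7) (by rw [M2.card]; decide),
      (mp_fo1 k).2 (fo1_of (v := p * q) inv_z ⟨h, by rw [tau_h, inv_mul_cancel_left]⟩
        (by rw [map_mul, tau_p, tau_q]) (by decide +kernel)),
      .inl ((mp_fo2a k).2 ⟨h * t, ⟨by decide +kernel, by decide +kernel⟩, tau_eq.2 (by decide +kernel),
        fun e => absurd (LZ_iff.2 (zi_conj e)) (by decide +kernel)⟩)⟩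
  kr := .inl (kr_of H81.J2S.main)

theorem jobFJ2 : JobFJ2.{u} := fun _ _ _ _ _ ⟨e⟩ =>
  have ⟨ψ, _⟩ := H4.Ico.exists_equiv
  ⟨KS.congr (e.trans ψ.symm).symm ks, CVF'.cvf (e.trans ψ.symm).symm cvf⟩

end H77.QF.J2
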