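/- The tensor frame of `2^{1+6}` on `F₃⁸`: matrix part of job F23-A. -/
import Cfsg.Agent.H39.F23Spec

set_option autoImplicit false

open H39.F23 Matrix
open scoped Kronecker

namespace H77.F23

/-- a matrix at place `k` -/
def gh (k : Fin 3) : M2 →+* M8 where
  toFun a := ![kr a 1 1, kr 1 a 1, kr 1 1 a] k
  map_one' := by fin_cases k <;> simp [kr]
  map_mul' a b := by fin_cases k <;> simp [kr, ← mul_kronecker_mul]
  map_zero' := by fin_cases k <;> simp [kr]
  map_add' a b := by fin_cases k <;> simp [kr, add_kronecker, kronecker_add]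

/-- the six generators -/
def G0 (k : Fin 3) (s : Bool) : M8 := gh k (cond s qj qi)

theorem G0_mem (k : Fin 3) (s : Bool) : G0 k s ∈ R0 := Submonoid.subset_closure (by
  fin_cases k <;> cases s <;> simp [G0, gh])

theorem R0_le {T : Submonoid M8} (h : ∀ k s, G0 k s ∈ T) : R0 ≤ T := Submonoid.closure_le.2 (by
  rintro _ (rfl | rfl | rfl | rfl | rfl | rfl)
  exacts [h 0 false, h 0 true, h 1 false, h 1 true, h 2 false, h 2 true])

set_option synthInstance.maxSize 4096 in
theorem G0_rel : (∀ k s, G0 k s * G0 k s = -1 ∧ G0 k true * G0 k false = -(G0 k false * G0 k true) ∧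
    G0 k s * kr qi qi qi * (G0 k s)ᵀ = kr qi qi qi ∧ kr qd qd qd * G0 k false = G0 k true * kr qd qd qd ∧
    kr qd qd qd * G0 k true = G0 k false * G0 k true * kr qd qd qd ∧
    ∀ l t, k ≠ l → G0 k s * G0 l t = G0 l t * G0 k s) ∧ kr qi qi qi * kr qi qi qi = -1 ∧
    kr qd qd qd * (kr qd qd qd * kr qd qd qd) = 1 := by decide +kernel

theorem single_mem {S : Subsemiring M8} (h : ∀ k s, G0 k s ∈ S) (i j : I8) : single i j 1 ∈ S := by
  have k : ∀ k p q, gh k (single p q 1) ∈ S := fun k p q => by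
    obtain ⟨a, b, c, d, e⟩ := (by decide +kernel : ∀ p q : Fin 2, ∃ a b c d : Fin 3,
      (single p q 1 : M2) = a.1 • 1 + b.1 • qi + c.1 • qj + d.1 • (qi * qj)) p q
    simp only [e, map_add, map_nsmul, map_mul, map_one]
    exact add_mem (add_mem (add_mem (nsmul_mem (one_mem _) _) (nsmul_mem (h k false) _))
      (nsmul_mem (h k true) _)) (nsmul_mem (mul_mem (h k false) (h k true)) _)
  have := mul_mem (k 0 i.1 j.1) (mul_mem (k 1 i.2.1 j.2.1) (k 2 i.2.2 j.2.2))
  simpa [gh, kr, ← mul_kronecker_mul, single_kronecker_single] using this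

/-- the commutant consists of scalars -/
theorem scal {A : M8} (h : ∀ k s, G0 k s * A = A * G0 k s) : ∃ c : ZMod 3, A = c • 1 := by
  obtain ⟨c, hc⟩ := mem_range_scalar_iff_commute_single'.2 fun i j =>
    (single_mem (S := Subsemiring.centralizer {A}) (fun k s _ e => e ▸ (h k s).symm) i j A rfl).symm
  exact ⟨c, by rw [← hc, scalar_apply, smul_one_eq_diagonal]⟩

/-- averaging over a quaternion group -/
theorem av {A : Type*} [Ring A] {r I J I' J' : A} (h3 : ∀ Y : A, Y + Y + Y = 0) (a1 : I * I = r)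
    (a2 : J * J = r) (a3 : J * I = r * (I * J)) (b1 : I' * I' = -1) (b2 : J' * J' = -1)
    (b3 : J' * I' = -(I' * J')) (W : AddSubgroup A) (w : ∀ X ∈ W, r * X = -X ∧ I * X ∈ W ∧
      J * X ∈ W ∧ X * I' ∈ W ∧ X * J' ∈ W) {X : A} (hX : X ∈ W) (h0 : X ≠ 0) :
    ∃ Y ∈ W, Y ≠ 0 ∧ I * Y = Y * I' ∧ J * Y = Y * J' := by
  have c1 : ∀ Y, I' * (I' * Y) = -Y := fun Y => by rw [← mul_assoc, b1, neg_one_mul]
  have c3 : ∀ Y, J' * (I' * Y) = -(I' * (J' * Y)) := fun Y => by
    rw [← mul_assoc, b3, neg_mul, mul_assoc]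
  let Av : A → A := fun X => X - I * X * I' - J * X * J' - I * (J * X) * I' * J'
  have key : ∀ X ∈ W, Av X ∈ W ∧ I * Av X = Av X * I' ∧ J * Av X = Av X * J' := fun X hX => by
    have d1 : ∀ Y, I * (I * Y) = r * Y := fun Y => by rw [← mul_assoc, a1]
    have d2 : ∀ Y, J * (J * Y) = r * Y := fun Y => by rw [← mul_assoc, a2]
    have d3 : ∀ Y, J * (I * Y) = r * (I * (J * Y)) := fun Y => by rw [← mul_assoc, a3, mul_assoc, mul_assoc]
    have d4 : ∀ Y, r * (I * Y) = I * (r * Y) := fun Y => by rw [← a1, mul_assoc, mul_assoc]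
    have d5 : ∀ Y, r * (J * Y) = J * (r * Y) := fun Y => by rw [← a2, mul_assoc, mul_assoc]
    have d6 : ∀ Y, r * (X * Y) = -(X * Y) := fun Y => by rw [← mul_assoc, (w X hX).1, neg_mul]
    obtain ⟨-, p1, p2, -⟩ := w X hX
    refine ⟨sub_mem (sub_mem (sub_mem hX (w _ p1).2.2.2.1) (w _ p2).2.2.2.2)
      (w _ (w _ (w _ p2).2.1).2.2.2.1).2.2.2.2, ?_, ?_⟩ <;>
    · simp only [Av, mul_sub, sub_mul, mul_assoc, d1, d2, d3, d4, d5, d6, c1, b1, b2, b3,
        mul_neg, mul_one, neg_neg]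
      abel
  by_contra n
  have z : ∀ X ∈ W, Av X = 0 := fun X hX => by_contra fun e => n ⟨_, (key X hX).1, e, (key X hX).2⟩
  obtain ⟨-, -, -, p1, p2⟩ := w X hX
  refine h0 ?_
  have : Av X - Av (X * I') * I' - Av (X * J') * J' + Av (X * I' * J') * J' * I' = X + (X + X + X) := by
    simp only [Av, sub_mul, mul_assoc, c1, c3, b1, b2, b3, mul_neg, neg_mul, mul_one, neg_neg]
    abel
  rwa [z _ hX, z _ p1, z _ p2, z _ (w _ p1).2.2.2.2, h3, add_zero, zero_mul, zero_mul, zero_mul,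
    sub_zero, sub_zero, add_zero, eq_comm] at this

/-- the basis -/
theorem exists_basis {E : Fin 3 → Bool → M8} {r : M8} (h1 : ∀ k s, E k s * E k s = r)
    (h2 : ∀ k, E k true * E k false = r * (E k false * E k true))
    (h3 : ∀ k l s t, k ≠ l → E k s * E l t = E l t * E k s) (hr : r * r = 1) (hr' : r ≠ 1) :
    ∃ P P' : M8, P * P' = 1 ∧ P' * P = 1 ∧ ∀ k s, E k s * P = P * G0 k s := by
  have step : ∀ n ≤ 3, ∃ X : M8, X ≠ 0 ∧ r * X = -X ∧ ∀ l : Fin 3, l.1 < n → ∀ t,
      E l t * X = X * G0 l t := by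
    intro n hn
    induction n with
    | zero => exact ⟨r - 1, sub_ne_zero.2 hr', by rw [mul_sub, hr, mul_one, neg_sub], by simp⟩
    | succ n ih =>
      obtain ⟨X, x0, hX⟩ := ih (by omega)
      let k : Fin 3 := ⟨n, hn⟩
      have ne : ∀ l : Fin 3, l.1 < n → l ≠ k := fun l h e => by simp [e, k] at h
      have g := G0_rel.1
      have w : ∀ s (X : M8), (r * X = -X ∧ ∀ l : Fin 3, l.1 < n → ∀ t, E l t * X = X * G0 l t) →
          (r * (E k s * X) = -(E k s * X) ∧ ∀ l : Fin 3, l.1 < n → ∀ t,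
            E l t * (E k s * X) = E k s * X * G0 l t) ∧ r * (X * G0 k s) = -(X * G0 k s) ∧
          ∀ l : Fin 3, l.1 < n → ∀ t, E l t * (X * G0 k s) = X * G0 k s * G0 l t := fun s X hX =>
        ⟨⟨by rw [← mul_neg, ← hX.1, ← h1 k s, mul_assoc, mul_assoc], fun l hl t => by
          rw [← mul_assoc, h3 _ _ _ _ (ne l hl), mul_assoc, hX.2 l hl, mul_assoc]⟩,
          by rw [← mul_assoc, hX.1, neg_mul], fun l hl t => by
          rw [← mul_assoc, hX.2 l hl, mul_assoc, (g l t).2.2.2.2.2 _ _ (ne l hl), mul_assoc]⟩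
      obtain ⟨Y, y1, y2, y3⟩ := av (fun Y => by ext; exact (by decide : ∀ a : ZMod 3, a + a + a = 0) _)
        (h1 k false) (h1 k true) (h2 k) (g k false).1 (g k true).1 (g k true).2.1
        { carrier := {X | r * X = -X ∧ ∀ l : Fin 3, l.1 < n → ∀ t, E l t * X = X * G0 l t}
          zero_mem' := by simp
          add_mem' := fun a b => ⟨by rw [mul_add, a.1, b.1, neg_add], fun l hl t => by
            rw [mul_add, add_mul, a.2 l hl, b.2 l hl]⟩
          neg_mem' := fun a => ⟨by rw [mul_neg, a.1], fun l hl t => by rw [mul_neg, neg_mul, a.2 l hl]⟩ }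
        (fun X hX => ⟨hX.1, (w false X hX).1, (w true X hX).1, (w false X hX).2, (w true X hX).2⟩) hX x0
      refine ⟨Y, y2, y1.1, fun l hl t => ?_⟩
      rcases Nat.lt_succ_iff_lt_or_eq.1 hl with hl | hl
      · exact y1.2 l hl t
      · obtain rfl : l = k := Fin.ext hl
        cases t
        exacts [y3.1, y3.2]
  obtain ⟨P, p0, -, hP⟩ := step 3 le_rfl
  obtain ⟨U, rfl⟩ : IsUnit P := mulVec_injective_iff_isUnit.1 ((injective_iff_map_eq_zero
    (mulVecLin P)).2 fun u hu => by_contra fun u0 => p0 (by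
      obtain ⟨i, hi⟩ := Function.ne_iff.1 u0
      ext a j
      obtain ⟨B, hB⟩ := single_mem (S :=
        { carrier := {B | ∃ B', B' * P = P * B}
          one_mem' := ⟨1, by simp⟩
          zero_mem' := ⟨0, by simp⟩
          add_mem' := fun ⟨a, p⟩ ⟨b, q⟩ => ⟨a + b, by rw [add_mul, mul_add, p, q]⟩
          mul_mem' := fun ⟨a, p⟩ ⟨b, q⟩ => ⟨a * b, by rw [mul_assoc, q, ← mul_assoc, p, mul_assoc]⟩ })
        (fun k s => ⟨_, hP k k.2 s⟩) j i
      have := congrFun (congrArg (· *ᵥ u) hB) a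
      rw [← mulVec_mulVec, show P *ᵥ u = 0 from hu, ← mulVec_mulVec, single_mulVec] at this
      rw [mulVec_zero, show Function.update (0 : V8) j (1 * u i) = Pi.single j (1 * u i) from rfl,
        mulVec_single] at this
      simpa [show u i ≠ 0 from hi] using this))
  exact ⟨U, U.inv, U.val_inv, U.inv_val, fun k => hP k k.2⟩

/-- invariant forms -/
theorem form {B : M8} (h : ∀ k s, (G0 k s)ᵀ * B * G0 k s = B) : ∃ c : ZMod 3, B = c • kr qi qi qi := by
  obtain ⟨c, hc⟩ := scal (A := kr qi qi qi * B) fun k s => by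
    conv_lhs => rw [← h k s]
    simp only [← mul_assoc, (G0_rel.1 k s).2.2.1]
  exact ⟨-c, by rw [← neg_neg B, ← neg_one_mul B, ← G0_rel.2.1, mul_assoc, hc]; simp⟩

theorem eq_qd {A : M8} (h1 : ∀ k, A * G0 k false = G0 k true * A)
    (h2 : ∀ k, A * G0 k true = G0 k false * G0 k true * A) (h3 : A * (A * A) = 1) :
    A = kr qd qd qd := by
  have g := G0_rel
  generalize kr qd qd qd = D at g
  have i : ∀ Y, D * (D * (D * Y)) = Y := fun Y => by
    rw [← mul_assoc D D Y, ← mul_assoc, g.2.2, one_mul]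
  obtain ⟨c, hc⟩ := scal (A := D * (D * A)) fun k s => by
    rw [← i (G0 k s * _), ← mul_assoc D (G0 k s), mul_assoc D (D * A), mul_assoc D A]
    cases s
    · rw [(g.1 k true).2.2.2.1, h1, mul_assoc, i]
    · rw [(g.1 k true).2.2.2.2.1, h2, mul_assoc _ D, i]
  have e : A = c • D := by rw [← i A, hc]; simp
  simp only [e, smul_mul_smul_comm, g.2.2] at h3
  rw [e, (by decide : ∀ c : ZMod 3, c * (c * c) = 1 → c = 1) c (by
    simpa using congrFun (congrFun h3 0) 0), one_smul]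

theorem neg_mem_R0 : (-1 : M8) ∈ R0 := (G0_rel.1 0 true).1 ▸ mul_mem (G0_mem _ _) (G0_mem _ _)

end H77.F23
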