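/- The group `2^{1+6}` with a fixed point free element of order three: group part of job F23-A. -/
import Cfsg.Agent.H39.F23Spec
import Cfsg.Agent.H78.Coprime
import Cfsg.Agent.H78.XSMap
import Cfsg.Agent.H9.ExtraAut

set_option autoImplicit false

open Cfsg Subgroup H42.L3 H56.L3 H78
open scoped commutatorElement

namespace H77.F23

variable {Γ : Type*} [Group Γ] {K : Subgroup Γ} {r ζ : Γ}

/-- `ζ` acts on the extraspecial group `K` without fixed points modulo the centre. -/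
structure St (K : Subgroup Γ) (r ζ : Γ) : Prop where
  xs : XS K r
  nor : ∀ g ∈ K, ζ * g * ζ⁻¹ ∈ K
  fpf : ∀ g ∈ K, ζ * g * ζ⁻¹ = g ∨ ζ * g * ζ⁻¹ = g * r → g = 1 ∨ g = r
  cube : ζ * ζ * ζ = 1
  cr : ζ * r = r * ζ

/-- a quaternion pair -/
structure Qp (r ζ : Γ) (e : Bool → Γ) : Prop where
  sq : ∀ s, e s * e s = r
  anti : e true * e false = r * (e false * e true)
  z1 : ζ * e false = e true * ζ
  z2 : ζ * e true = e false * e true * ζ

theorem St.pair (h : St K r ζ) : ∃ e : Bool → Γ, (∀ s, e s ∈ K) ∧ Qp r ζ e := by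
  have x := h.xs
  have c : ∀ g ∈ K, ∀ y, r * (g * y) = g * (r * y) := fun g hg y => by
    rw [← mul_assoc, x.z_comm g hg, mul_assoc]
  have rr : ∀ y, r * (r * y) = y := fun y => by rw [← mul_assoc, x.z_sq, one_mul]
  have zr : ∀ g, ζ * (g * r) * ζ⁻¹ = ζ * g * ζ⁻¹ * r := fun g => by
    rw [mul_assoc _ _ r, ← (show Commute ζ r from h.cr).inv_left.eq.symm]; group
  obtain ⟨p, hp, p2⟩ : ∃ p ∈ K, p * p = r := by
    obtain ⟨a, ha, b, hb, n⟩ := x.nonab
    refine (x.sq a ha).elim (fun a2 => (x.sq b hb).elim (fun b2 => ⟨_, mul_mem ha hb, ?_⟩)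
      fun e => ⟨b, hb, e⟩) fun e => ⟨a, ha, e⟩
    conv_lhs => rw [(x.comm a ha b hb).resolve_left n]; lhs; rw [mul_assoc, ← x.z_comm a ha]
    rw [show b * (r * a) * (b * a * r) = b * r * (a * b) * a * r by group,
      (x.comm a ha b hb).resolve_left n, ← x.z_comm b hb]
    simp only [mul_assoc, c a ha, c b hb, rr]
    rw [← mul_assoc a, a2, ← mul_assoc b, b2, one_mul, one_mul]
  have k3 : ∀ p, ζ * (ζ * (ζ * p * ζ⁻¹) * ζ⁻¹) * ζ⁻¹ = p := fun p =>
    calc _ = ζ * ζ * ζ * p * (ζ * ζ * ζ)⁻¹ := by group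
      _ = _ := by simp [h.cube]
  obtain ⟨p, hp, p2, p3⟩ : ∃ p ∈ K, p * p = r ∧
      p * (ζ * p * ζ⁻¹ * (ζ * (ζ * p * ζ⁻¹) * ζ⁻¹)) = r := by
    have m1 := h.nor _ hp
    have m2 := h.nor _ m1
    have := h.fpf _ (mul_mem hp (mul_mem m1 m2)) (by
      have := x.conj_eq_or (mul_mem hp (mul_mem m1 m2)) (inv_mem hp)
      rwa [show p⁻¹ * (p * (ζ * p * ζ⁻¹ * (ζ * (ζ * p * ζ⁻¹) * ζ⁻¹))) * p⁻¹⁻¹ =
        ζ * (p * (ζ * p * ζ⁻¹ * (ζ * (ζ * p * ζ⁻¹) * ζ⁻¹))) * ζ⁻¹ by
          conv_lhs => rw [inv_inv]; rhs; rw [← k3 p]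
          group] at this)
    refine this.elim (fun e => ⟨p * r, mul_mem hp x.z_mem, ?_, ?_⟩) fun e => ⟨p, hp, p2, e⟩
    · rw [mul_assoc, c p hp, x.z_sq, mul_one, p2]
    · rw [zr, zr]
      generalize ζ * p * ζ⁻¹ = q at *
      generalize ζ * q * ζ⁻¹ = q' at *
      simp only [mul_assoc, c q m1, c q' m2, x.z_sq, mul_one]
      rw [x.z_comm q' m2, ← mul_assoc q, ← mul_assoc, e, one_mul]
  have m1 := h.nor _ hp
  have sq : ∀ p, p * p = r → ζ * p * ζ⁻¹ * (ζ * p * ζ⁻¹) = r := fun p e =>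
    calc _ = ζ * (p * p) * ζ⁻¹ := by group
      _ = _ := by rw [e, h.cr, mul_inv_cancel_right]
  have q2 := sq p p2
  have q3 := sq _ q2
  have e1 : ζ * p = ζ * p * ζ⁻¹ * ζ := by group
  generalize ζ * p * ζ⁻¹ = q at *
  have e2 : ζ * q * ζ⁻¹ = q * p * r := by
    apply mul_left_cancel (a := p * q)
    rw [mul_assoc, p3]
    simp only [mul_assoc]
    rw [← mul_assoc q q, q2, c p hp, x.z_sq, mul_one, p2]
  have e3 : p * q = q * p * r := (x.comm p hp q m1).resolve_left fun e => x.z_ne (by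
    rw [e2] at q3
    simp only [mul_assoc, c p hp, c q m1, x.z_sq, mul_one] at q3
    rw [← q3, ← mul_assoc p q, e, mul_assoc, p2, ← mul_assoc, q2, x.z_sq])
  refine ⟨fun s => cond s q p, fun s => by cases s <;> assumption, fun s => by cases s <;> assumption,
    ?_, e1, ?_⟩
  · change q * p = r * (p * q)
    rw [e3, mul_assoc, c q m1, c p hp, x.z_sq, mul_one]
  · change ζ * q = p * q * ζ
    rw [e3, ← e2]; group

theorem St.step [Finite Γ] (h : St K r ζ) {e : Bool → Γ} (he : ∀ s, e s ∈ K) (q : Qp r ζ e) :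
    (∀ T : Submonoid Γ, (∀ s, e s ∈ T) → ∀ g ∈ K, ∃ u ∈ T, u * g ∈ K ⊓ Ce (e false) ⊓ Ce (e true)) ∧
    Nat.card K ≤ 4 * Nat.card ↥(K ⊓ Ce (e false) ⊓ Ce (e true)) ∧
    (8 < Nat.card K → St (K ⊓ Ce (e false) ⊓ Ce (e true)) r ζ) := by
  have x := h.xs
  obtain ⟨q1, q2, q3, q4⟩ := q
  have h1 := he false
  have h2 := he true
  have a : ∀ T : Submonoid Γ, (∀ s, e s ∈ T) → 1 ∈ T ∧ e false ∈ T ∧ e true ∈ T ∧ e false * e true ∈ T :=
    fun T t => ⟨one_mem _, t _, t _, mul_mem (t _) (t _)⟩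
  generalize e false = i at *
  generalize e true = j at *
  have c : ∀ g ∈ K, ∀ y, r * (g * y) = g * (r * y) := fun g hg y => by
    rw [← mul_assoc, x.z_comm g hg, mul_assoc]
  have rr : ∀ y, r * (r * y) = y := fun y => by rw [← mul_assoc, x.z_sq, one_mul]
  have ji : ∀ y, j * (i * y) = i * (j * (r * y)) := fun y => by
    rw [← mul_assoc, q2, mul_assoc, mul_assoc, c i h1, c j h2]
  have dec : ∀ g ∈ K, ∃ u ∈ ({1, i, j, i * j} : Set Γ), u * g ∈ K ⊓ Ce i ⊓ Ce j := fun g hg => by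
    have t : ∀ a ∈ K, ∀ s : Γ, g * a = a * g * s → ∀ y, g * (a * y) = a * (g * (s * y)) :=
      fun a _ s e y => by rw [← mul_assoc, e, mul_assoc, mul_assoc]
    have n : ∀ u ∈ K, (∀ y, u * g * (i * y) = i * (u * g * y)) → (∀ y, u * g * (j * y) = j * (u * g * y)) →
        u * g ∈ K ⊓ Ce i ⊓ Ce j := fun u hu a b =>
      ⟨⟨mul_mem hu hg, mem_Ce.2 (by simpa using a 1)⟩, mem_Ce.2 (by simpa using b 1)⟩
    rcases (x.comm g hg i h1).imp_left (·.trans (mul_one _).symm) with a | a <;>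
      rcases (x.comm g hg j h2).imp_left (·.trans (mul_one _).symm) with b | b
    · exact ⟨1, by simp, n _ (one_mem _) (by simp [t i h1 _ a]) (by simp [t j h2 _ b])⟩
    · exact ⟨i, by simp, n _ h1 (by simp [t i h1 _ a, mul_assoc])
        (by simp [t j h2 _ b, mul_assoc, ji, c g hg])⟩
    · exact ⟨j, by simp, n _ h2 (by simp [t i h1 _ a, mul_assoc, ji, c g hg, rr])
        (by simp [t j h2 _ b, mul_assoc])⟩
    · exact ⟨i * j, by simp, n _ (mul_mem h1 h2) (by simp [t i h1 _ a, mul_assoc, ji, c g hg, rr])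
        (by simp [t j h2 _ b, mul_assoc, ji, c g hg, c j h2])⟩
  have hc : Nat.card K ≤ 4 * Nat.card ↥(K ⊓ Ce i ⊓ Ce j) := by
    have := Nat.card_le_card_of_surjective (fun p : Fin 4 × ↥(K ⊓ Ce i ⊓ Ce j) =>
      (⟨(![1, i, j, i * j] p.1)⁻¹ * p.2, mul_mem (inv_mem (by
        obtain ⟨k, -⟩ := p
        fin_cases k
        exacts [one_mem _, h1, h2, mul_mem h1 h2])) p.2.2.1.1⟩ : K)) fun g => by
      obtain ⟨u, hu, e⟩ := dec g g.2
      rcases hu with rfl | rfl | rfl | rfl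
      exacts [⟨(0, ⟨_, e⟩), by simp⟩, ⟨(1, ⟨_, e⟩), by simp⟩, ⟨(2, ⟨_, e⟩), by simp⟩,
        ⟨(3, ⟨_, e⟩), Subtype.ext (inv_mul_cancel_left _ _)⟩]
    simpa using this
  refine ⟨fun T t g hg => ?_, hc, fun h8 => ⟨x.of_le (inf_le_left.trans inf_le_left)
    ⟨⟨x.z_mem, mem_Ce.2 (x.z_comm i h1)⟩, mem_Ce.2 (x.z_comm j h2)⟩ (fun y hy e => x.center y hy.1.1
      fun g hg => ?_) ?_, fun g hg => ?_, fun g hg => h.fpf g hg.1.1, h.cube, h.cr⟩⟩
  · obtain ⟨u, hu, e⟩ := dec g hg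
    obtain ⟨a1, a2, a3, a4⟩ := a T t
    exact ⟨u, by rcases hu with rfl | rfl | rfl | rfl <;> assumption, e⟩
  · obtain ⟨u, hu, f⟩ := dec g hg
    have c1 : Commute y i := mem_Ce.1 hy.1.2
    have c2 : Commute y j := mem_Ce.1 hy.2
    have : Commute y u := by
      rcases hu with rfl | rfl | rfl | rfl
      exacts [.one_right _, c1, c2, c1.mul_right c2]
    simpa using (this.inv_right.mul_right (e _ f)).eq
  · by_contra! n
    have : Nat.card ↥(K ⊓ Ce i ⊓ Ce j) ≤ 2 :=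
      (Set.ncard_le_ncard (t := {1, r}) fun y hy => or_iff_not_imp_left.2 (n y hy)).trans
        (Set.ncard_pair x.z_ne.symm).le
    omega
  · have c1 : Commute g i := mem_Ce.1 hg.1.2
    have c2 : Commute g j := mem_Ce.1 hg.2
    have d1 : Commute (ζ * g * ζ⁻¹) j := by
      simpa [q3] using c1.conj ζ
    have d2 : Commute (ζ * g * ζ⁻¹) (i * j) := by
      simpa [q4] using c2.conj ζ
    exact ⟨⟨h.nor g hg.1.1, mem_Ce.2 (by simpa using (d2.mul_right d1.inv_right).eq)⟩, mem_Ce.2 d1.eq⟩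

theorem St.three [Finite Γ] (h : St K r ζ) (hc : Nat.card K = 128) :
    ∃ e : Fin 3 → Bool → Γ, (∀ k s, e k s ∈ K) ∧ (∀ k, Qp r ζ (e k)) ∧
      (∀ k l s t, k ≠ l → e k s * e l t = e l t * e k s) ∧ ∀ T : Submonoid Γ, (∀ k s, e k s ∈ T) →
        ∀ g ∈ K, ∃ u ∈ T, ∀ k s, u * g * e k s = e k s * (u * g) := by
  have n : ∀ {K : Subgroup Γ} {e : Bool → Γ} {g : Γ}, g ∈ K ⊓ Ce (e false) ⊓ Ce (e true) →
      ∀ s, g * e s = e s * g := fun hg s => by
    cases s
    exacts [mem_Ce.1 hg.1.2, mem_Ce.1 hg.2]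
  obtain ⟨e0, m0, q0⟩ := h.pair
  obtain ⟨a0, c0, h1⟩ := h.step m0 q0
  replace h1 := h1 (by omega)
  obtain ⟨e1, m1, q1⟩ := h1.pair
  obtain ⟨a1, -, h2⟩ := h1.step m1 q1
  replace h2 := h2 (by omega)
  obtain ⟨e2, m2, q2⟩ := h2.pair
  obtain ⟨a2, -, -⟩ := h2.step m2 q2
  refine ⟨![e0, e1, e2], fun k s => ?_, fun k => ?_, fun k l s t hk => ?_, fun T hT g hg => ?_⟩
  · fin_cases k
    exacts [m0 s, (m1 s).1.1, (m2 s).1.1.1.1]
  · fin_cases k
    exacts [q0, q1, q2]
  · fin_cases k <;> fin_cases l <;> try exact absurd rfl hk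
    exacts [(n (m1 t) s).symm, (n (m2 t).1.1 s).symm, n (m1 s) t, (n (m2 t) s).symm, n (m2 s).1.1 t,
      n (m2 s) t]
  · obtain ⟨u0, t0, g0⟩ := a0 T (hT 0) g hg
    obtain ⟨u1, t1, g1⟩ := a1 T (hT 1) _ g0
    obtain ⟨u2, t2, g2⟩ := a2 T (hT 2) _ g1
    rw [← mul_assoc u1, ← mul_assoc u2] at g2
    refine ⟨_, mul_mem t2 (mul_mem t1 t0), fun k s => ?_⟩
    fin_cases k
    exacts [n g2.1.1.1.1 s, n g2.1.1 s, n g2 s]

/-- the central commutator of order three has no fixed points in dimension `6` -/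
theorem fpf_lin {V : Type*} [AddCommGroup V] [Module (ZMod 2) V] [Module.Finite (ZMod 2) V]
    (hV : Module.finrank (ZMod 2) V ≤ 6) {x a b : V ≃ₗ[ZMod 2] V} (x3 : x * x * x = 1) (x1 : x ≠ 1)
    (xa : a * x = x * a) (xb : b * x = x * b) (a3 : a * a * a = 1) (ab : a * b = x * (b * a))
    {v : V} (hv : x v = v) : v = 0 := by
  by_contra v0
  have two := H27.zmod2_add_self (W := V)
  have X3 : ∀ w, x (x (x w)) = w := fun w => congrArg (· w) x3
  have Xb : ∀ w, b (x w) = x (b w) := fun w => congrArg (· w) xb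
  have P0 : ∀ w, w + x w + x (x w) = 0 → x w = w → w = 0 := fun w h e => by
    rwa [e, e, two, zero_add] at h
  have key : ∀ a : V → V, (∀ u w, a (u + w) = a u + a w) → (∀ c : ZMod 2, ∀ w, a (c • w) = c • a w) →
      (∀ w, a (x w) = x (a w)) → (∀ w, a (b w) = x (b (a w))) → ∀ u, u + x u + x (x u) = 0 →
      a u = u → u = 0 := fun a aa as Xa Ab u hu au => by
    by_contra u0
    have i2 : ∀ w, w ≠ 0 → w + x w + x (x w) = 0 → ∀ c d : ZMod 2, c • w + d • x w = 0 → c = 0 ∧ d = 0 :=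
      fun w w0 h c d e => by
        rcases (by decide : ∀ c : ZMod 2, c = 0 ∨ c = 1) c with rfl | rfl <;>
          rcases (by decide : ∀ c : ZMod 2, c = 0 ∨ c = 1) d with rfl | rfl
        · exact ⟨rfl, rfl⟩
        · exact (w0 (by simpa using e)).elim
        · exact (w0 (by simpa using e)).elim
        · exact (w0 (P0 w h (by
            have e : w + x w = 0 := by simpa using e
            linear_combination (norm := abel) e - two w))).elim
    have P : ∀ w, w + x w + x (x w) = 0 → ∀ c d : ZMod 2, (c • w + d • x w) + x (c • w + d • x w) +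
        x (x (c • w + d • x w)) = 0 := fun w h c d => by
      simp only [map_add, map_smul, X3]
      linear_combination (norm := module) c • h + d • h
    have Pb : ∀ w, w + x w + x (x w) = 0 → b w + x (b w) + x (x (b w)) = 0 := fun w h => by
      rw [← Xb, ← Xb, ← map_add, ← map_add, h, map_zero]
    have i4 : ∀ s0 s1 s2 s3, s0 + x s0 + x (x s0) = 0 → s1 + x s1 + x (x s1) = 0 →
        s2 + x s2 + x (x s2) = 0 → x s3 = s3 → a s0 = s0 → a s1 = x s1 → a s2 = x (x s2) →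
        s0 + s1 + s2 + s3 = 0 → s0 = 0 ∧ s1 = 0 ∧ s2 = 0 ∧ s3 = 0 :=
      fun s0 s1 s2 s3 p0 p1 p2 p3 r0 r1 r2 e => by
        have e1 := congrArg x e
        have e2 := congrArg x e1
        simp only [map_add, map_zero, p3] at e1 e2
        obtain rfl : s3 = 0 := by
          linear_combination (norm := abel) e + e1 + e2 - p0 - p1 - p2 - two s3
        have a0 : a 0 = 0 := by simpa using as 0 0
        have f1 := congrArg a e
        have f2 := congrArg a f1
        simp only [aa, a0, r0, r1, r2, Xa, X3] at f1 f2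
        obtain rfl : s0 = 0 := by linear_combination (norm := abel) e + f1 + f2 - p1 - p2 - two s0
        obtain rfl : s2 = s1 := by linear_combination (norm := abel) e - two s1
        obtain rfl : s2 = 0 := P0 _ p1 (x.injective (by
          linear_combination (norm := abel) f1 - two (x s2)))
        simp
    have li : LinearIndependent (ZMod 2) ![u, x u, b u, x (b u), b (b u), x (b (b u)), v] :=
      Fintype.linearIndependent_iff.2 fun g e => by
        obtain ⟨z0, z1, z2, z3⟩ := i4 _ _ _ (g 6 • v) (P _ hu (g 0) (g 1)) (P _ (Pb _ hu) (g 2) (g 3))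
          (P _ (Pb _ (Pb _ hu)) (g 4) (g 5)) (by rw [map_smul, hv]) (by simp [aa, as, Xa, au])
          (by simp [aa, as, Xa, au, Ab]) (by simp [aa, as, Xa, au, Ab, Xb])
          (by simpa [Fin.sum_univ_seven, add_assoc] using e)
        obtain ⟨y0, y1⟩ := i2 _ u0 hu _ _ z0
        obtain ⟨y2, y3⟩ := i2 _ (by simpa using u0) (Pb _ hu) _ _ z1
        obtain ⟨y4, y5⟩ := i2 _ (by simpa using u0) (Pb _ (Pb _ hu)) _ _ z2
        intro i
        fin_cases i
        exacts [y0, y1, y2, y3, y4, y5, (smul_eq_zero.1 z3).resolve_right v0]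
    have := li.fintype_card_le_finrank
    rw [Fintype.card_fin] at this
    omega
  have Xa : ∀ w, a (x w) = x (a w) := fun w => congrArg (· w) xa
  have A3 : ∀ w, a (a (a w)) = w := fun w => congrArg (· w) a3
  have Ab : ∀ w, a (b w) = x (b (a w)) := fun w => congrArg (· w) ab
  refine x1 (LinearEquiv.ext fun y => ?_)
  have hw : x y + y + x (x y + y) + x (x (x y + y)) = 0 := by
    simp only [map_add, X3]
    linear_combination (norm := abel) two y + two (x y) + two (x (x y))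
  suffices x y + y = 0 by
    change x y = y
    linear_combination (norm := abel) this - two y
  generalize x y + y = w at hw
  have h1 := congrArg a hw
  have h2 := congrArg a h1
  simp only [map_add, Xa, map_zero] at h1 h2
  have k0 := key a (map_add a) (map_smul a) Xa Ab (w + a w + a (a w)) (by
    simp only [map_add]; linear_combination (norm := abel) hw + h1 + h2) (by
    simp only [map_add, A3]; abel)
  have k1 := key (fun w => x (a w)) (by simp) (by simp) (by simp [Xa]) (by simp [Ab, Xb])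
    (w + x (a w) + x (x (a (a w)))) (by
      simp only [map_add, X3]; linear_combination (norm := abel) hw + h1 + h2) (by
      simp only [map_add, A3, Xa, X3]; abel)
  have k2 := key (fun w => x (x (a w))) (by simp) (by simp) (by simp [Xa]) (by simp [Ab, Xb])
    (w + x (x (a w)) + x (a (a w))) (by
      simp only [map_add, X3]; linear_combination (norm := abel) hw + h1 + h2) (by
      simp only [map_add, A3, Xa, X3]; abel)
  linear_combination (norm := abel) k0 + k1 + k2 - h1 - h2 - two w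

theorem exists_St [Finite Γ] {R : Subgroup Γ} [R.Normal] (hR : IsExtraspecial 2 R)
    (hc : Nat.card R = 2 ^ 7) (hcn : cn R ≤ R) {X : Type*} [Group X] (π : Γ →* X)
    (hπ : Function.Surjective π) (hk : ∀ g, π g = 1 ↔ g ∈ R) {x a b : X} (hx : orderOf x = 3)
    (xa : a * x = x * a) (xb : b * x = x * b) (a3 : a ^ 3 = 1) (ab : a * b = x * (b * a)) :
    ∃ r ζ, St R r ζ ∧ π ζ = x := by
  obtain ⟨r, xs⟩ := exists_XS hR
  obtain ⟨m, c, -, hm, hZ, -⟩ := H27.exists_cform_of_isExtraspecial hR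
  obtain ⟨ρ, hρ⟩ := H9.cform_exists_aut_hom (p := 2) c (hZ ▸ inferInstance)
  let σ := ρ.comp (MulAut.conjNormal : Γ →* MulAut R)
  have cen : ∀ y : R, c.π y = 0 ↔ (y : Γ) ∈ cn R := fun y => by
    rw [← c.mem_Z, hZ, Subgroup.mem_center_iff]
    exact ⟨fun h g hg => congrArg Subtype.val (h ⟨g, hg⟩), fun h g => Subtype.ext (h g g.2)⟩
  have E : ∀ g h, π g = π h → σ g = σ h := fun g h e => by
    rw [← inv_mul_eq_one, ← map_inv, ← map_mul] at e ⊢
    refine LinearEquiv.ext fun v => ?_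
    obtain ⟨y, rfl⟩ := c.π_surj v
    exact (hρ _ y).trans (c.π_conj ⟨_, (hk _).1 e⟩ y)
  have x3 : x ^ 3 = 1 := hx ▸ pow_orderOf_eq_one x
  obtain ⟨g, hg⟩ := hπ x
  obtain ⟨a, rfl⟩ := hπ a
  obtain ⟨b, rfl⟩ := hπ b
  have hz : π (g ^ 4) = x := by rw [map_pow, hg, pow_succ, x3, one_mul]
  have z3 : g ^ 4 * g ^ 4 * g ^ 4 = 1 := by
    rw [← xs.pow_four ((hk (g ^ 3)).1 (by rw [map_pow, hg, x3]))]; group
  generalize g ^ 4 = ζ at hz z3
  refine ⟨r, ζ, ⟨xs, fun y hy => Normal.conj_mem ‹_› y hy ζ, fun y hy e => xs.center y hy fun w hw =>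
    ((cen ⟨y, hy⟩).1 ?_ w hw).symm, z3, xs.comm_z_of_mem_normalizer (by simp [normalizer_eq_top])⟩, hz⟩
  refine fpf_lin (x := σ ζ) (a := σ a) (b := σ b) ?_ (by rw [← map_mul, ← map_mul, z3, map_one])
    (fun e => ?_) ?_ ?_ ?_ ?_ ((hρ _ _).trans ?_)
  · rw [Module.finrank_fin_fun]
    have := Nat.pow_right_injective le_rfl (hm.symm.trans hc)
    omega
  · obtain ⟨u, hu, f⟩ := H9.mem_sup_centralizer_of_isExtraspecial hR (g := ζ) fun w hw => by
      have m := mul_mem (Normal.conj_mem ‹_› w hw ζ) (inv_mem hw)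
      refine ⟨m, (cen ⟨_, m⟩).1 ?_⟩
      change c.π (MulAut.conjNormal ζ (⟨w, hw⟩ : R) * (⟨w, hw⟩ : R)⁻¹) = 0
      rw [c.π_mul, ← hρ, c.π_inv]
      exact add_neg_eq_zero.2 (LinearEquiv.congr_fun e _)
    have : x = 1 := hz ▸ (hk ζ).2 (by simpa using mul_mem hu (hcn f))
    simp [this] at hx
  · simpa using E (a * ζ) (ζ * a) (by simp [hz, xa])
  · simpa using E (b * ζ) (ζ * b) (by simp [hz, xb])
  · simpa using E (a * a * a) 1 (by simpa [pow_succ] using a3)
  · simpa using E (a * b) (ζ * (b * a)) (by simp [hz, ab])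
  · rcases e with e | e
    · exact congrArg c.π (Subtype.ext e)
    · rw [show MulAut.conjNormal ζ (⟨y, hy⟩ : R) = ⟨y, hy⟩ * ⟨r, xs.z_mem⟩ from Subtype.ext e, c.π_mul,
        (cen ⟨r, xs.z_mem⟩).2 fun w hw => (xs.z_comm w hw).symm, add_zero]

end H77.F23
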