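/- Job F23-A of `blueprints/PS3B.md`: the tensor frame of `3^{1+8}.2^{1+6}`. -/
import Cfsg.Agent.H77.F23A1
import Cfsg.Agent.H77.F23A2
import Cfsg.Agent.H27.CLift
import Cfsg.Agent.H33.F22A

set_option autoImplicit false

open Cfsg Subgroup H98 H42.L3 H56.L3 H39.F22 H39.F23
open scoped commutatorElement Matrix

namespace H77.F23

universe u

theorem zc {G : Type*} [Group G] {Z Q : Subgroup G} (cen : cn Q ≤ Z) (le : Q ≤ cn Z) (y : Q) :
    y ∈ center Q ↔ (y : G) ∈ Z := by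
  rw [Subgroup.mem_center_iff]
  exact ⟨fun h => cen fun g hg => congrArg Subtype.val (h ⟨g, hg⟩),
    fun h g => Subtype.ext (le g.2 y h).symm⟩

theorem frame0 {G Γ : Type*} [Group G] [Finite G] [Group Γ] {Z Q : Subgroup G}
    (hQ : IsExtraspecial 3 Q) (hc : Nat.card Q = 3 ^ 9) (ZQ : Z ≤ Q) (cen : cn Q ≤ Z) (le : Q ≤ cn Z)
    (CN : cn Z ≤ nr Q) (κ : cn Z →* Γ) (hκ : Function.Surjective κ)
    (hk : ∀ g, κ g = 1 ↔ (g : G) ∈ Q) {r ζ : Γ} (r1 : r ≠ 1) (r2 : r * r = 1)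
    {e : Fin 3 → Bool → Γ} (eq : ∀ k, Qp r ζ (e k))
    (ec : ∀ k l s t, k ≠ l → e k s * e l t = e l t * e k s) :
    ∃ (c : H27.CForm Q V8 (ZMod 3)) (μ : nr Q →* M8) (ν : Γ →* M8),
      (∀ y, c.π y = 0 ↔ (y : G) ∈ Z) ∧ (∀ g y, c.π (Q.normalizerMonoidHom g y) = μ g *ᵥ c.π y) ∧
      Function.Injective ν ∧ (∀ g, ν (κ g) = μ (inclusion CN g)) ∧ ∀ k s, ν (e k s) = G0 k s := by
  have zc := zc cen le
  obtain ⟨m, c, -, hm, hZ, -⟩ := H27.exists_cform_of_isExtraspecial hQ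
  have hm := Nat.pow_right_injective (by norm_num) (hm.symm.trans hc)
  let c1 := c.mapV (LinearEquiv.ofFinrankEq (R := ZMod 3) (Fin (2 * m) → ZMod 3) V8 (by
    simp; omega)).toAddEquiv
  have l0 : ∀ y, c1.π y = 0 ↔ y ∈ center Q := fun y => by
    rw [← hZ, c.mem_Z]; exact EmbeddingLike.map_eq_zero_iff
  obtain ⟨ρ, hρ⟩ := H9.cform_exists_aut_hom (p := 3) c1
    ((Subgroup.ext fun y => c1.mem_Z.trans (l0 y) : c1.Z = center Q) ▸ inferInstance)
  let μ : nr Q →* M8 := (LinearMap.toMatrixAlgEquiv'.toMonoidHom.comp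
    LinearEquiv.automorphismGroup.toLinearMapMonoidHom).comp (ρ.comp Q.normalizerMonoidHom)
  have act : ∀ g y, c1.π (Q.normalizerMonoidHom g y) = μ g *ᵥ c1.π y := fun g y =>
    (hρ _ y).symm.trans (LinearMap.toMatrix'_mulVec _ _).symm
  have ker : ∀ g, μ g = 1 ↔ (g : G) ∈ Q := fun g => by
    refine ⟨fun f => ?_, fun f => Matrix.ext_of_mulVec_single fun i => ?_⟩
    · obtain ⟨u, hu, f⟩ := H9.mem_sup_centralizer_of_isExtraspecial hQ (g := (g : G)) fun w hw => by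
        have m := mul_mem (conj_mem_of_mem_normalizer g.2 hw) (inv_mem hw)
        refine ⟨m, fun y hy => (le hy _ ((zc ⟨_, m⟩).1 ((l0 _).1 ?_))).symm⟩
        change c1.π (Q.normalizerMonoidHom g ⟨w, hw⟩ * (⟨w, hw⟩ : Q)⁻¹) = 0
        rw [c1.π_mul, act, f, c1.π_inv, Matrix.one_mulVec, add_neg_cancel]
      simpa using mul_mem hu (ZQ (cen f))
    · obtain ⟨y, hy⟩ := c1.π_surj (Pi.single i 1)
      rw [← hy, ← act, Matrix.one_mulVec]
      exact c1.π_conj ⟨g, f⟩ y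
  let ν := (Units.coeHom M8).comp (κ.liftOfSurjective hκ ⟨(μ.comp (inclusion CN)).toHomUnits,
    fun g hg => Units.ext ((ker (inclusion CN g)).2 ((hk g).1 hg))⟩)
  have hν : ∀ g, ν (κ g) = μ (inclusion CN g) := fun g =>
    congrArg Units.val (κ.liftOfRightInverse_comp_apply _ _ _ g)
  have inj : Function.Injective ν := (injective_iff_map_eq_one ν).2 fun g f => by
    obtain ⟨g, rfl⟩ := hκ g
    exact (hk g).2 ((ker _).1 ((hν g).symm.trans f))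
  obtain ⟨P, P', p1, p2, hP⟩ := exists_basis (E := fun k s => ν (e k s)) (r := ν r)
    (fun k s => by rw [← map_mul, (eq k).sq]) (fun k => by simp only [← map_mul, (eq k).anti])
    (fun k l s t f => by rw [← map_mul, ec k l s t f, map_mul]) (by rw [← map_mul, r2, map_one])
    fun f => r1 (inj (f.trans ν.map_one.symm))
  let j : M8 →* M8 := ⟨⟨fun A => P' * A * P, by simpa using p2⟩, fun A B => by
    simp only [mul_assoc, ← mul_assoc P, p1, one_mul]⟩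
  refine ⟨c1.mapV (Matrix.toLin'OfInv p1 p2).toAddEquiv, j.comp μ, j.comp ν, fun y =>
    EmbeddingLike.map_eq_zero_iff.trans ((l0 y).trans (zc y)), fun g y => ?_, fun a b f => inj ?_,
    fun g => congrArg j (hν g), fun k s => ?_⟩
  · change P' *ᵥ c1.π _ = (P' * μ g * P) *ᵥ (P' *ᵥ c1.π y)
    rw [act, Matrix.mulVec_mulVec, Matrix.mulVec_mulVec, mul_assoc, p1, mul_one]
  · have f : P' * ν a * P = P' * ν b * P := f
    simpa only [mul_assoc, ← mul_assoc P, p1, one_mul, mul_one] using congrArg (fun A => P * A * P') f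
  · change P' * ν (e k s) * P = _
    rw [mul_assoc, hP, ← mul_assoc, p2, one_mul]

theorem frame1 {G Γ : Type*} [Group G] [Finite G] [Group Γ] [Finite Γ] {Z Q : Subgroup G}
    (hZ : Nat.card Z = 3) (hQ : IsExtraspecial 3 Q) (hc : Nat.card Q = 3 ^ 9)
    (cube : ∀ a ∈ Q, a ^ 3 = 1) (ZQ : Z ≤ Q) (cen : cn Q ≤ Z) (le : Q ≤ cn Z) (nor : nr Z ≤ nr Q)
    (κ : cn Z →* Γ) (hκ : Function.Surjective κ) (hk : ∀ g, κ g = 1 ↔ (g : G) ∈ Q)
    {R : Subgroup Γ} {r ζ : Γ} (h : St R r ζ) (hR : Nat.card R = 128)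
    (nR : ∀ c ∈ nr Z, ∀ g g' : cn Z, κ g ∈ R → (g' : G) = c * g * c⁻¹ → κ g' ∈ R) :
    ∃ z l μ, zpowers z = Z ∧ FR z Q l μ ∧ ∃ ν : Γ →* M8, Function.Injective ν ∧
      (∀ g, ν (κ g) = μ g) ∧ (∀ g ∈ R, ν g ∈ R0) ∧ ν ζ = kr qd qd qd := by
  classical
  obtain ⟨e, em, eq, ec, eg⟩ := h.three hR
  have CN : cn Z ≤ nr Q := (centralizer_le_normalizer _).trans nor
  have zc := zc cen le
  obtain ⟨c, μ, ν, l0, act, inj, hν, hG⟩ := frame0 hQ hc ZQ cen le CN κ hκ hk h.xs.z_ne h.xs.z_sq eq ec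
  have toR : ∀ g ∈ R, ν g ∈ R0 := fun g hg => by
    obtain ⟨u, ⟨u1, u2⟩, f⟩ := eg (R0.comap ν ⊓ R.toSubmonoid) (fun k s =>
      ⟨show ν _ ∈ R0 from hG k s ▸ G0_mem k s, em k s⟩) g hg
    obtain ⟨t, ht⟩ := scal (A := ν (u * g)) fun k s => by rw [← hG, ← map_mul, ← f, map_mul]
    have : ν g = ν u ^ 3 * ν (u * g) := by
      rw [← map_pow, ← map_mul, ← mul_assoc, ← pow_succ, h.xs.pow_four u2, one_mul]
    rw [this, ht]
    refine mul_mem (pow_mem (show ν u ∈ R0 from u1) 3) ?_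
    rcases (by decide : ∀ t : ZMod 3, t = 0 ∨ t = 1 ∨ t = -1) t with rfl | rfl | rfl
    · exact absurd (by rw [← map_one ν, ← mul_inv_cancel (u * g), map_mul, ht]; simp : (1 : M8) = 0)
        one_ne_zero
    · simp [one_mem]
    · simpa using neg_mem_R0
  have ofR : ∀ A ∈ R0, ∃ g : cn Z, κ g ∈ R ∧ μ (inclusion CN g) = A := fun A hA => by
    obtain ⟨g, hg, rfl⟩ := R0_le (T := R.toSubmonoid.map ν) (fun k s => ⟨_, em k s, hG k s⟩) hA
    obtain ⟨g, rfl⟩ := hκ g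
    exact ⟨g, hg, (hν g).symm⟩
  have ζZ : ∀ t, (c.ζ t : G) ∈ Z := fun t => (l0 _).1 (c.π_ζ t)
  obtain ⟨t, ht⟩ := form (B := LinearMap.BilinForm.toMatrix' (c.B 3)) fun k s => by
    obtain ⟨g, -, f⟩ := ofR _ (G0_mem k s)
    rw [← LinearMap.toMatrix'_toLin' (G0 k s), ← LinearMap.BilinForm.toMatrix'_comp]
    refine congrArg _ (LinearMap.ext₂ fun u v => c.ζ_inj ?_)
    obtain ⟨a, rfl⟩ := c.π_surj u
    obtain ⟨b, rfl⟩ := c.π_surj v
    rw [LinearMap.BilinForm.comp_apply, Matrix.toLin'_apply, Matrix.toLin'_apply, ← f, ← act, ← act, c.ζ_B, ← map_commutatorElement, ← c.ζ_B 3]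
    exact Subtype.ext (mul_inv_eq_iff_eq_mul.2 (g.2 _ (ζZ _)).symm)
  have hB : ∀ u v, c.B 3 u v = (bt u v).val • t := fun u v => by
    rw [← Matrix.toBilin'_toMatrix' (c.B 3), Matrix.toBilin'_apply', ht, Matrix.smul_mulVec,
      dotProduct_smul, nsmul_eq_mul, ZMod.natCast_zmod_val, mul_comm]
    rfl
  have ord : orderOf (c.ζ t : G) = 3 := by
    rw [orderOf_coe]
    refine orderOf_eq_prime (c.ζ_pow_char 3 t) fun f => ?_
    obtain ⟨y, hy⟩ := c.π_surj 1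
    have := (l0 y).2 ((zc y).1 ((c.mem_center_iff 3).2 fun v => by rw [hB, c.ζ_eq_one.1 f, smul_zero]))
    exact absurd (congrFun (hy.symm.trans this) 0) (by decide)
  have zp : zpowers (c.ζ t : G) = Z :=
    eq_of_le_of_card_ge (zpowers_le.2 (ζZ t)) (by rw [hZ, Nat.card_zpowers, ord])
  have Cz : ∀ {g}, g ∈ Ce (c.ζ t : G) ↔ g ∈ cn Z := by
    rw [← zp, cn, zpowers_eq_closure, centralizer_closure]
  have nor' : Nz (c.ζ t : G) ≤ nr Q := by rw [Nz, zp]; exact nor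
  obtain ⟨l, hl⟩ : ∃ l : G → V8, ∀ a (h : a ∈ Q), l a = c.π ⟨a, h⟩ :=
    ⟨fun a => if h : a ∈ Q then c.π ⟨a, h⟩ else 0, fun a h => dif_pos h⟩
  obtain ⟨μ', hμ⟩ : ∃ μ' : G → M8, ∀ a (h : a ∈ nr Q), μ' a = μ ⟨a, h⟩ :=
    ⟨fun g => if h : g ∈ nr Q then μ ⟨g, h⟩ else 1, fun a h => dif_pos h⟩
  refine ⟨c.ζ t, l, μ', zp, ⟨⟨ord, (c.ζ t).2, cube, fun a ha b hb => ?_, fun a ha => ?_, fun v => ?_,
      fun a ha b hb => ?_, nor', fun g hg a ha => ?_, fun g hg d hd => ?_, fun g hg f => ?_,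
      zp ▸ cen⟩, fun A hA => ?_, fun g hg A hA => ?_⟩, ν, inj, fun g => (hν g).trans (hμ _ _).symm,
      toR, eq_qd (fun k => ?_) (fun k => ?_)
      (by rw [← map_mul, ← map_mul, ← mul_assoc, h.cube, map_one])⟩
  · rw [hl a ha, hl b hb, hl _ (mul_mem ha hb)]
    exact c.π_mul ⟨a, ha⟩ ⟨b, hb⟩
  · rw [hl a ha, zp, l0]
  · obtain ⟨y, hy⟩ := c.π_surj v
    exact ⟨y, y.2, (hl _ y.2).trans hy⟩
  · have := c.mul_eq_ζ_B 3 ⟨a, ha⟩ ⟨b, hb⟩
    rw [hB, c.ζ_nsmul, ← hl, ← hl] at this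
    exact congrArg Subtype.val this
  · rw [hl a ha, hl _ (conj_mem_of_mem_normalizer (nor' hg) ha), hμ g (nor' hg)]
    exact act ⟨g, nor' hg⟩ ⟨a, ha⟩
  · rw [hμ g (nor' hg), hμ d (nor' hd), hμ _ (nor' (mul_mem hg hd))]
    exact μ.map_mul ⟨g, nor' hg⟩ ⟨d, nor' hd⟩
  · rw [hμ g (CN (Cz.1 hg))] at f
    exact (hk ⟨g, Cz.1 hg⟩).1 (inj ((hν _).trans (f.trans ν.map_one.symm)))
  · obtain ⟨g, -, f⟩ := ofR A hA
    exact ⟨g, Cz.2 g.2, (hμ _ _).trans f⟩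
  · obtain ⟨a, ha, rfl⟩ := ofR A hA
    have hg' : g ∈ nr Z := zp ▸ hg
    have m := conj_mem_of_mem_normalizer (normalizer_le_normalizer_centralizer Z hg') a.2
    refine ⟨_, toR _ (nR g hg' a ⟨_, m⟩ ha rfl), ?_⟩
    rw [hμ g (nor' hg), hν, ← map_mul, ← map_mul]
    exact congrArg μ (Subtype.ext (inv_mul_cancel_right _ _).symm)
  · rw [← hG, ← hG, ← map_mul, (eq k).z1, map_mul]
  · rw [← hG, ← hG, ← map_mul, (eq k).z2, map_mul, map_mul]

/-- The frame, for both `Fi₂₃` and `B`. -/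
theorem frame {G : Type*} [Group G] [Finite G] {Z : Subgroup G} (hZ : Nat.card Z = 3)
    {F : Subgroup (cn Z)} [F.Normal] (hF : generalizedFittingSubgroup (cn Z) = F)
    (hQ : IsExtraspecial 3 F) (hc : Nat.card F = 3 ^ 9) (cube : ∀ x ∈ F, x ^ 3 = 1)
    {R : Subgroup (cn Z ⧸ F)} [R.Normal] (h1 : generalizedFittingSubgroup (cn Z ⧸ F) = R)
    (hR : IsExtraspecial 2 R) (hRc : Nat.card R = 2 ^ 7) {X : Type*} [Group X]
    (e : (cn Z ⧸ F) ⧸ R ≃* X) {x a b : X} (hx : orderOf x = 3) (xa : a * x = x * a)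
    (xb : b * x = x * b) (a3 : a ^ 3 = 1) (ab : a * b = x * (b * a)) :
    ∃ z l μ, zpowers z = Z ∧ FR z (F.map (cn Z).subtype) l μ ∧ ∃ ν : cn Z ⧸ F →* M8,
      Function.Injective ν ∧ (∀ g : cn Z, ν g = μ g) ∧ (∀ g ∈ R, ν g ∈ R0) ∧
      ∃ ζ : cn Z ⧸ F, e ζ = x ∧ ν ζ = kr qd qd qd := by
  have cF : F.Characteristic := hF ▸ inferInstance
  have cR : R.Characteristic := h1 ▸ inferInstance
  obtain ⟨r, ζ, st, hζ⟩ := exists_St hR hRc (h1 ▸ H14.centralizer_fstar_le)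
    (e.toMonoidHom.comp (QuotientGroup.mk' R)) (e.surjective.comp (QuotientGroup.mk'_surjective R))
    (fun g => e.map_eq_one_iff.trans (QuotientGroup.eq_one_iff g)) hx xa xb a3 ab
  let ε := F.equivMapOfInjective _ (cn Z).subtype_injective
  have hQ' := H78.isExtraspecial_of_equiv ε hQ
  have le := map_subtype_le F
  have hcF : ∀ c ∈ cn Z, c ∈ cn (F.map (cn Z).subtype) → c ∈ F.map (cn Z).subtype := fun c h hc =>
    ⟨⟨c, h⟩, (hF ▸ H14.centralizer_fstar_le : cn F ≤ F) fun x hx => Subtype.ext (hc x ⟨x, hx, rfl⟩), rfl⟩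
  have := isCyclic_of_prime_card hZ
  have ZQ : Z ≤ F.map (cn Z).subtype := fun z hz => hcF z (fun y hy => congrArg Subtype.val
    (IsCyclic.isMulCommutative.is_comm.comm (⟨y, hy⟩ : Z) ⟨z, hz⟩)) fun y hy => (le hy z hz).symm
  have k : Z.subgroupOf (F.map (cn Z).subtype) = center _ := eq_of_le_of_card_ge
    (fun y hy => mem_center_iff.2 fun g => Subtype.ext (le g.2 y hy).symm)
    (by rw [hQ'.2, Nat.card_congr (subgroupOfEquivOfLe ZQ).toEquiv, hZ])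
  obtain ⟨z, l, μ, h2, h3, ν, h4, h5, h6, h7⟩ := frame1 hZ hQ' ((Nat.card_congr ε.toEquiv).symm.trans hc)
    (by rintro _ ⟨y, hy, rfl⟩; exact congrArg Subtype.val (cube y hy)) ZQ
    (fun c hc => mem_subgroupOf.1 (k.ge (x := ⟨c, hcF c (centralizer_le ZQ hc) hc⟩)
      (mem_center_iff.2 fun g => Subtype.ext (hc g g.2)))) le
    ((normalizer_le_normalizer_centralizer Z).trans (normalizer_le_normalizer_map_subtype F))
    (QuotientGroup.mk' F) (QuotientGroup.mk'_surjective F)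
    (fun g => (QuotientGroup.eq_one_iff g).trans (by simp)) st hRc fun c hc g g' hg f => by
      have := Characteristic.comap_quotient_mk cR
      have := conj_mem_of_mem_normalizer (normalizer_le_normalizer_map_subtype
        (R.comap (QuotientGroup.mk' F)) (normalizer_le_normalizer_centralizer Z hc)) ⟨g, hg, rfl⟩
      obtain ⟨y, hy, f'⟩ := this
      exact (Subtype.ext (f'.trans f.symm) : y = g') ▸ hy
  exact ⟨z, l, μ, h2, h3, ν, h4, h5, h6, ζ, hζ, h7⟩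

theorem jobA : H39.F23.JobA.{u} := by
  intro G _ _ S Z hS hZ hQ hc _ cube h1 hR hRc _ X _ ⟨e⟩ x a b hx xc a3 _ ab hX ⟨g, g1, g2⟩
  obtain ⟨z, l, μ, rfl, fr, ν, -, h5, h6, ζ, hζ, h7⟩ :=
    frame hZ rfl hQ hc cube h1 hR hRc e hx (xc a) (xc b) a3 ab
  have Cz : Ce z = cn (zpowers z) := by rw [cn, zpowers_eq_closure, centralizer_closure]
  refine ⟨z, _, l, μ, ⟨fr, ?_, ?_, fun c hc => ?_⟩,
    H33.F22.nw fr.ord S hS fun h => g2 (h.2 g g1)⟩
  · rw [Cz, card_eq_card_quotient_mul_card_subgroup (generalizedFittingSubgroup _), hc,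
      card_eq_card_quotient_mul_card_subgroup (pCore 2 _), hRc, Nat.card_congr e.toEquiv, hX]
    norm_num
  · obtain ⟨c, rfl⟩ := QuotientGroup.mk_surjective ζ
    exact ⟨c, Cz.ge c.2, (h5 c).symm.trans h7⟩
  · have h8 := h5 ⟨c, Cz.le hc⟩
    generalize QuotientGroup.mk (⟨c, Cz.le hc⟩ : cn (zpowers z)) = γ at h8
    refine ⟨_, h6 (γ * ζ * γ⁻¹ * ζ⁻¹) ((QuotientGroup.eq_one_iff _).1 (e.injective ?_)), ?_⟩
    · simp [hζ, xc]
    · rw [← h7, ← h8, ← map_mul, ← map_mul, ← map_mul]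
      congr 1
      group

end H77.F23
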