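/- The centralizer of a `3`-central element of `PSp₄(3)` (job F23-X). -/
import Cfsg.Agent.H39.F23Spec
import Cfsg.Agent.H59.U6M1
import Cfsg.Agent.H49.Chain

set_option autoImplicit false
set_option maxRecDepth 100000

open Cfsg H56.L3 H59 H59.U6 H49.UG

namespace H77.F23

noncomputable def xx : MG := mk' CM 0x40c02010040c0103 0xc08020100c080302
noncomputable def xa : MG := mk' CM 0x804020100c080103 0x80402010040c0302
noncomputable def xb : MG := mk' CM 0x40c20100201c080 0x1032010c0800804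
noncomputable def xi : MG := mk' CM 0x854f2010c78ecd8b 0x854f2010cd8bc78e
noncomputable def xj : MG := mk' CM 0x8f4a201047ce4dcb 0x8f4a20104dcb47ce

theorem xx_mem : xx ∈ XM := (by decide +kernel : ew [0, 2] = xx) ▸ ew_mem _
theorem xa_mem : xa ∈ XM := (by decide +kernel : ew [9, 2, 9] = xa) ▸ ew_mem _
theorem xb_mem : xb ∈ XM := (by decide +kernel : ew [7, 8, 9, 2, 9, 8, 7] = xb) ▸ ew_mem _
theorem xi_mem : xi ∈ XM := (by decide +kernel : ew [5, 8, 7] = xi) ▸ ew_mem _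
theorem xj_mem : xj ∈ XM := (by decide +kernel : ew [3, 7, 3, 6] = xj) ▸ ew_mem _

noncomputable def LA : List MG := prodL (prodL [1, xx, xx⁻¹] [1, xa, xa⁻¹]) [1, xb, xb⁻¹]
noncomputable def LC : List MG :=
  prodL (prodL (prodL LA [1, mx, mx⁻¹]) [1, xi, xi * xi, xi⁻¹]) [1, xj]

/-- the group `3^{1+2}` -/
noncomputable def XA : Subgroup MG where
  carrier := {g | g ∈ LA}
  one_mem' := (by decide +kernel : 1 ∈ LA)
  mul_mem' := fun {a b} ha hb => (by decide +kernel : ∀ a ∈ LA, ∀ b ∈ LA, a * b ∈ LA) a ha b hb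
  inv_mem' := fun {a} ha => (by decide +kernel : ∀ a ∈ LA, a⁻¹ ∈ LA) a ha

theorem XA_p : IsPGroup 3 XA := fun g => ⟨1, Subtype.ext (by
  have := (by decide +kernel : ∀ a ∈ LA, a * (a * a) = 1) g g.2
  rwa [← pow_three] at this)⟩

theorem cent_xx : Nat.card ↥(XM ⊓ Ce xx) = 648 ∧ ∀ g ∈ XM ⊓ Ce xx, g ∈ LC := by
  have h1 := H49.length_mul_card_le (A := XM ⊓ Ce xx) inf_le_left (f := fun t => t * xx * t⁻¹)
    (fun t _ y hy => by
      rw [mul_assoc t, Subgroup.mem_centralizer_singleton_iff.1 hy.2]; group)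
    (T := [[], [5], [6], [7], [8], [9], [0, 7], [0, 8], [1, 8], [4, 9], [6, 9], [7, 9], [8, 9], [9, 8],
      [0, 7, 9], [0, 8, 9], [0, 9, 8], [1, 8, 9], [1, 9, 8], [2, 6, 9], [2, 7, 9], [2, 9, 8], [3, 6, 9],
      [3, 7, 9], [3, 8, 9], [7, 8, 9], [8, 7, 9], [8, 9, 8], [9, 8, 9], [0, 2, 7, 9], [0, 3, 7, 9],
      [0, 3, 8, 9], [0, 7, 8, 9], [0, 8, 7, 9], [0, 8, 9, 8], [0, 9, 8, 9], [1, 7, 8, 9], [1, 8, 7, 9],
      [1, 8, 9, 8], [1, 9, 8, 9]].map ew)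
    (fun t ht => by obtain ⟨w, -, rfl⟩ := List.mem_map.1 ht; exact ew_mem w) (by decide +kernel)
  rw [cardXM, List.length_map] at h1
  have n : LC.Nodup := nodup_of_hash (fun a => a.c) 24858 (by decide +kernel)
  have m : ∀ a ∈ LC, a ∈ XM ⊓ Ce xx := fun a ha => ⟨by
    refine prodL_mem (prodL_mem (prodL_mem (prodL_mem (prodL_mem ?_ ?_) ?_) ?_) ?_) ?_ a ha <;>
      simp [xx_mem, xa_mem, xb_mem, xi_mem, xj_mem, mx_mem, mul_mem],
    Subgroup.mem_centralizer_singleton_iff.2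
      ((by decide +kernel : ∀ a ∈ LC, a * xx = xx * a) a ha)⟩
  have l : LC.length = 648 := by decide +kernel
  have h2 := length_le_card_subgroup n m
  simp only [List.length_cons, List.length_nil] at h1
  exact ⟨by omega, mem_of_card_subgroup_le n m (by omega)⟩

theorem key {G : Type*} [Group G] (ϕ : G →* MG) (hi : Function.Injective ϕ)
    (hr : ∀ y, y ∈ XM ↔ ∃ g, ϕ g = y) {x : G} (ho : x ≠ 1) (hA : ∀ g, ϕ g ∈ XA → g * x = x * g) :
    Nat.card (Ce x) = 648 ∧ ∃ a ∈ Ce x, ∃ b ∈ Ce x, a ^ 3 = 1 ∧ b ^ 3 = 1 ∧ a * b = x * (b * a) := by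
  obtain ⟨z, hz⟩ := (hr _).1 xx_mem
  obtain ⟨a, ha⟩ := (hr _).1 xa_mem
  obtain ⟨b, hb⟩ := (hr _).1 xb_mem
  have c : xx ∈ LA ∧ xa ∈ LA ∧ xb ∈ LA ∧ xa * (xa * xa) = 1 ∧ xb * (xb * xb) = 1 ∧
    xa * xb = xx * (xb * xa) ∧ xb * xa = xx⁻¹ * (xa * xb) := by decide +kernel
  have k : ∀ g, ϕ g ∈ LA → ϕ g * ϕ x = ϕ x * ϕ g := fun g h => by rw [← map_mul, hA g h, map_mul]
  have a1 := Subgroup.mem_centralizer_singleton_iff.2 (hA a (ha ▸ c.2.1))
  have b1 := Subgroup.mem_centralizer_singleton_iff.2 (hA b (hb ▸ c.2.2.1))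
  have a3 : a ^ 3 = 1 := hi (by rw [pow_three, map_mul, map_mul, ha, c.2.2.2.1, map_one])
  have b3 : b ^ 3 = 1 := hi (by rw [pow_three, map_mul, map_mul, hb, c.2.2.2.2.1, map_one])
  have e : Nat.card (Ce z) = 648 := by
    rw [← cent_xx.1, ← Subgroup.card_map_of_injective hi]
    congr 2
    ext y
    simp only [Subgroup.mem_map, Subgroup.mem_inf, hr, Subgroup.mem_centralizer_singleton_iff, ← hz]
    exact ⟨fun ⟨g, p, q⟩ => ⟨⟨g, q⟩, by rw [← q, ← map_mul, p, map_mul]⟩,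
      fun ⟨⟨g, q⟩, p⟩ => ⟨g, hi (by rw [map_mul, map_mul, q, p]), q⟩⟩
  rcases (by decide +kernel : ∀ y ∈ LC, xa * y = y * xa → xb * y = y * xb → y = 1 ∨ y = xx ∨ y = xx⁻¹)
    _ (cent_xx.2 _ ⟨(hr _).2 ⟨x, rfl⟩, Subgroup.mem_centralizer_singleton_iff.2
      (hz ▸ (k z (hz ▸ c.1)).symm)⟩) (ha ▸ k a (ha ▸ c.2.1)) (hb ▸ k b (hb ▸ c.2.2.1)) with h | h | h
  · exact absurd (hi (h.trans ϕ.map_one.symm)) ho
  · obtain rfl : x = z := hi (h.trans hz.symm)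
    exact ⟨e, a, a1, b, b1, a3, b3, hi (by simp only [map_mul, ha, hb, hz, c.2.2.2.2.2.1])⟩
  · obtain rfl : x = z⁻¹ := hi (by rw [h, map_inv, hz])
    refine ⟨e ▸ congrArg (fun K : Subgroup G => Nat.card K) (Subgroup.ext fun y => ?_), b, b1, a, a1,
      b3, a3, hi (by simp only [map_mul, map_inv, ha, hb, hz, c.2.2.2.2.2.2])⟩
    simp only [Subgroup.mem_centralizer_singleton_iff]
    exact Commute.inv_right_iff

theorem jobX : H39.F23.JobX := by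
  rintro F _ _ x hF ho ⟨P, hP⟩
  have : Fact (Nat.Prime 3) := ⟨Nat.prime_three⟩
  obtain ⟨ψ⟩ := exists_equivF hF
  have := Finite.of_equiv _ ψ.toEquiv.symm
  have hi : Function.Injective (XM.subtype.comp ψ.toMonoidHom) :=
    XM.subtype_injective.comp ψ.injective
  obtain ⟨Q, hQ⟩ := (XA_p.comap_of_injective _ hi).exists_le_sylow
  obtain ⟨g, rfl⟩ := MulAction.exists_smul_eq (PSp 2 F) Q P
  refine key ((XM.subtype.comp ψ.toMonoidHom).comp (MulAut.conj g).symm.toMonoidHom)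
    (hi.comp (MulAut.conj g).symm.injective) (fun y => ⟨fun h => ⟨MulAut.conj g (ψ.symm ⟨y, h⟩),
      by simp [mul_assoc]⟩,
      fun ⟨_, h⟩ => h ▸ Subtype.property _⟩) (by rintro rfl; simp at ho) fun a ha =>
    Subgroup.mem_centralizer_singleton_iff.1 (hP ⟨_, hQ ha, (MulAut.conj g).apply_symm_apply a⟩)

end H77.F23
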