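import Cfsg.Agent.H45.MN23

/-! `M₂₄` by its order: the search for `e₇ = 6`. -/

set_option autoImplicit false
set_option maxRecDepth 100000

namespace H77.P4
open H45.MN

/-- the values allowed by the local structure -/
def loc (v : ℕ) (u : ℤ) : Bool :=
  (List.range 14).any fun m => v % m == 0 && Nat.ble (m * m) v && (6 * m) % u.natAbs == 0

/-- conditions on the signed value `u` at an element of order `7` -/
def okw (v : ℕ) (d u : ℤ) : Bool :=
  (d - u).natAbs % 7 == 0 && (244823040 / (7 * v) * u.natAbs) % d.natAbs == 0 &&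
    if d.natAbs % 7 = 0 then u == 0 else loc v u

/-- the candidates -/
def cw (v : ℕ) (d : ℤ) : List ℤ := ((List.range 73).map fun k : ℕ => (k : ℤ) - 36).filter (okw v d)

theorem mem_cw {v : ℕ} {d u : ℤ} (h : okw v d u = true) (hu : s2 u ≤ 1344) : u ∈ cw v d := by
  have h1 : u.natAbs ≤ 36 := by
    have : u.natAbs * u.natAbs ≤ 1344 := hu
    nlinarith
  simp only [cw, List.mem_filter, List.mem_map, List.mem_range]
  exact ⟨⟨(u + 36).toNat, by omega, by omega⟩, h⟩

/-- no column is possible -/
noncomputable def colw (v : ℕ) (D : List ℤ) : Bool :=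
  fZ (1 + D.sum) fun dE =>
    let T := D.map (cw v)
    fN (2 + (T.map mn).sum) fun m => Nat.blt (7 * v) m ||
    colR (fun r uE A => Bool.rec true (Nat.blt r (2 * s2 uE) ||
      fL A.reverse fun U => (uE != 1 && !U.contains (-1)) ||
        (fm 244823040 D U).natAbs % (23 * (7 * v * (7 * v))) != 0) (okw v dE uE)) T (7 * v - m) 1 []

theorem colw_spec {v : ℕ} {D U : List ℤ} (hv : v ≤ 192)
    (h1 : List.Forall₂ (fun u d => okw v d u = true) U D)
    (h2 : okw v (1 + D.sum) (1 + U.sum) = true) (hs : 2 + ss U + 2 * s2 (1 + U.sum) ≤ 7 * v)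
    (h3 : 1 + U.sum = 1 ∨ -1 ∈ U) (h4 : ((23 * (7 * v * (7 * v)) : ℕ) : ℤ) ∣ fm 244823040 D U) :
    colw v D ≠ true := fun h => by
  simp only [colw, fZ_eq, fL_eq, fN_eq] at h
  have k1 : List.Forall₂ (fun u C => u ∈ C) U (D.map (cw v)) := by
    rw [List.forall₂_map_right_iff]
    refine List.forall₂_of_length_eq_of_get h1.length_eq fun i a b => mem_cw (h1.get a b) ?_
    have := s2_le_ss (List.get_mem U ⟨i, a⟩)
    omega
  have h0 := fun P => colR_spec (P := P) k1
  have h5 := (h0 fun _ _ _ => true).1
  have := rec_imp ((h0 _).2 _ _ _ (by omega) (((Bool.or_eq_true _ _).mp h).resolve_left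
    (by simp only [Nat.blt_eq]; omega))) h2
  simp only [List.append_nil, List.reverse_reverse, Bool.or_eq_true, Nat.blt_eq, Bool.and_eq_true,
    bne_iff_ne, Bool.not_eq_true', List.contains_eq_mem, decide_eq_false_iff_not] at this
  rcases this with k | k | k
  · omega
  · exact h3.elim k.1 k.2
  · exact k (Nat.mod_eq_zero_of_dvd (Int.natCast_dvd.1 h4))

/-- the admissible degrees -/
def flt (d : ℕ) : Bool := Nat.blt 20 d && [0, 1, 10].contains (d % 11) && d != 45 && r23 d

theorem search : degs 203996407 23 967680 11 flt (fun D => !D.contains (-252) || !D.contains 5544 ||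
    (D.contains (-22) && (Nat.blt (D.count 5544) 2 || Nat.blt (D.count (-252)) 2)) ||
    (1 + D.sum == 6336 && !D.contains (-12672)) || [3, 24, 192].all fun v => colw v D) = true := by
  decide +kernel

/-- the admissible degrees in a `3`-block of defect one -/
def fl3 (d : ℕ) : Bool := Nat.blt 20 d && 244823040 % d == 0 && [0, 1, 10].contains (d % 11) &&
  ([0, 1, 22].contains (d % 23) || d == 6336) && d != 12672 && d % 9 == 0 && d % 27 != 0

theorem no_sum : ((List.range 1739).all fun y =>
    !fl3 (9 * y) || (!fl3 (9 * y + 6336) && !fl3 (6336 - 9 * y))) = true := by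
  decide +kernel

end H77.P4
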