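import Cfsg.Agent.H77.M24K
import Cfsg.Agent.H77.M24P4N

/-! `M₂₄` by its order: `e₇ = 6` is impossible. -/

set_option autoImplicit false
set_option linter.unusedSectionVars false

namespace H77.P4
open Cfsg H28 H29 H39 H87 Subgroup H45.MO H45.MN H45.M24

universe u

variable {G : Type u} [Group G] [Fintype G] {p n e v n1 : ℕ} {L E L1 E1 : List (IrrCharacter G)}
  {s s1 : IrrCharacter G → ℤ}

theorem pr_E (A : Bk p n e v L E s) {a : G} (ha : ¬ p ∣ orderOf a) (hi : IC a) :
    pr E a = List.replicate ((p - 1) / e)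
      ((1 + (cl s L 1).sum).natAbs, (1 + (cl s L 1).sum).sign * (1 + (cl s L a).sum)) := by
  have h2 := A.uns a ha fun χ _ => hi χ
  rw [H45.MN.uns, pr_append] at h2
  exact (List.append_inj h2 (by simp [cl, pr])).2.symm

theorem dg_E (A : Bk p n e v L E s) {θ : IrrCharacter G} (h : θ ∈ E) :
    dg θ = (1 + (cl s L 1).sum).natAbs := by
  have h8 : (dg θ, iv θ 1) ∈ pr E 1 := List.mem_map_of_mem h
  rw [pr_E A (by simpa using A.hp.one_lt.ne') ic_one] at h8
  exact congrArg Prod.fst (List.eq_of_mem_replicate h8)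

theorem len_E (A : Bk p n e v L E s) : E.length = (p - 1) / e := by
  simpa [pr] using congrArg List.length (pr_E A (a := 1) (by simpa using A.hp.one_lt.ne') ic_one)

theorem sq_eq' (A : Bk p n e v L E s) {a : G} (ha : ¬ p ∣ orderOf a) (hi : IC a) :
    sq (pr (L ++ E) a) = ss (cl s L a) + (p - 1) / e * s2 (1 + (cl s L a).sum) := by
  obtain ⟨θ, -, σ, h1, h2, h3⟩ := A.exists_E ha hi
  rw [← A.uns a ha fun χ _ => hi χ, H45.MN.uns, sq_append, h2, h3, sign_sign h1, s2_sign h1]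
  congr 1
  · simp only [H45.MN.sq, ss, cl, List.zipWith_map, List.zipWith_self, List.map_map]
    exact congrArg _ (List.map_congr_left fun χ _ => by
      simp only [Function.comp, (Prod.mk.inj (sign_sign (A.sg χ) χ (iv χ a))).2, s2_sign (A.sg χ)])
  · simp [H45.MN.sq]

theorem r11 (B : Bk 11 n 10 1 L E s) (ψ : IrrCharacter G) :
    [0, 1, 10].contains (dg ψ % 11) = true := by
  have : dg ψ % 11 = 0 ∨ dg ψ % 11 = 1 ∨ dg ψ % 11 = 10 := by
    by_cases h : ψ = one G
    · simp [h, dg_one]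
    by_cases h1 : 11 ∣ dg ψ
    · omega
    have := B.md ψ (B.out rfl ψ h h1)
    rcases B.sg ψ with e | e <;> rw [e] at this <;> omega
  simpa using this

theorem mem_L (A : Bk 23 n 11 1 L E s) {χ : IrrCharacter G} {d : ℤ} (h1 : dg χ = d.natAbs)
    (h2 : d ≠ 1) (h3 : d % 23 = 1) : χ ∈ L ∧ s χ * iv χ 1 = d := by
  have H := A.deg (fun _ => true) fun _ _ => rfl
  have h4 : χ ∈ L := (List.mem_append.1 (A.out rfl χ (fun e => by
    rw [e, dg_one] at h1; omega) (by omega))).resolve_right fun h => by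
      have := dg_E A h
      have := H.md
      omega
  have h5 := (H.mem _ (List.mem_map_of_mem (f := fun χ => s χ * iv χ 1) h4)).2.1
  rw [iv_one] at h5 ⊢
  refine ⟨h4, ?_⟩
  rcases A.sg χ with e | e <;> rw [e] at h5 ⊢ <;> omega

theorem mem_D (A : Bk 23 n 11 1 L E s) {χ : IrrCharacter G} {d : ℤ} (h1 : dg χ = d.natAbs)
    (h2 : d ≠ 1) (h3 : d % 23 = 1) : d ∈ cl s L 1 :=
  List.mem_map.2 ⟨χ, mem_L A h1 h2 h3⟩

theorem two_le_count (A : Bk 23 n 11 1 L E s) {χ ψ : IrrCharacter G} (h : ψ ≠ χ) {d : ℤ}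
    (h1 : dg χ = d.natAbs) (h1' : dg ψ = d.natAbs) (h2 : d ≠ 1) (h3 : d % 23 = 1) :
    2 ≤ (cl s L 1).count d := by
  rw [cl, List.count, List.countP_map, List.countP_eq_length_filter]
  refine (List.subperm_of_subset (l₁ := [ψ, χ]) (by simpa using h) fun η hη => ?_).length_le
  simp only [List.mem_cons, List.not_mem_nil, or_false] at hη
  rw [List.mem_filter, Function.comp, beq_iff_eq]
  rcases hη with rfl | rfl
  exacts [mem_L A h1' h2 h3, mem_L A h1 h2 h3]

theorem n23 : ((cas 244823040 23).all fun x =>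
    x.2.1 != 11 || x.2.2 != 1 || x.1 == 967680) = true := by decide +kernel

variable (hG : Nat.card G = 244823040)
include hG

theorem okw_of {w : G} (hw : orderOf w = 7) (hc : cc w = 7 * v) (iw : IC w) (hv : v ≤ 192)
    (hl : ∀ χ : IrrCharacter G, ¬ 7 ∣ dg χ → ∃ m, m ∣ v ∧ m * m ≤ v ∧ (iv χ w).natAbs ∣ 6 * m)
    (χ : IrrCharacter G) {σ : ℤ} (hσ : σ = 1 ∨ σ = -1) :
    okw v (σ * iv χ 1) (σ * iv χ w) = true := by
  have k1 := iv_cong (p := 7) (χ := χ) (x := w) (y := 1) (by norm_num)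
    (hw ▸ pow_orderOf_eq_one w) (Commute.one_right w) (by rw [mul_one]; exact iw χ) (ic_one χ)
  have k2 := iv_dvd (iw χ)
  have k4 : σ.natAbs = 1 := by omega
  rw [index_eq] at k2
  rw [mul_one, dvd_sub_comm] at k1
  simp only [okw, Bool.and_eq_true, beq_iff_eq, ← mul_sub, Int.natAbs_mul, k4, one_mul]
  refine ⟨⟨Nat.mod_eq_zero_of_dvd (Int.natCast_dvd.1 k1), Nat.mod_eq_zero_of_dvd ?_⟩, ?_⟩
  · have := Int.natCast_dvd.1 k2
    rwa [← Int.natCast_div, Int.natAbs_mul, Int.natAbs_natCast, hG, hc, ← Int.natAbs_natCast (dg χ),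
      ← iv_one] at this
  · rw [iv_one, Int.natAbs_natCast]
    split_ifs with h
    · have h1 : χ.1 w = (0 : ℤ) := by
        rw [Int.cast_zero]
        refine eq_zero_of_pow_factorization_dvd (p := 7) (by norm_num) χ.2 ((pow_dvd_pow 7 ?_).trans
          (by rw [pow_one]; exact Nat.dvd_of_mod_eq_zero h)) hw.symm.dvd
        exact Nat.lt_succ_iff.1 (not_le.1 fun h2 => absurd (((by norm_num : Nat.Prime 7).pow_dvd_iff_le_factorization
          Nat.card_pos.ne').2 h2) (by rw [hG]; norm_num))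
      simp [iv_eq h1]
    · obtain ⟨m, h1, h2, h3⟩ := hl χ fun h1 => h (Nat.mod_eq_zero_of_dvd h1)
      simp only [loc, List.any_eq_true, List.mem_range, Bool.and_eq_true, beq_iff_eq, Nat.ble_eq,
        Int.natAbs_mul, k4, one_mul]
      exact ⟨m, by nlinarith, ⟨Nat.mod_eq_zero_of_dvd h1, h2⟩, Nat.mod_eq_zero_of_dvd h3⟩

/-- The exceptional degree for `23` is not `6336`. -/
theorem not6336 (A : Bk 23 n 11 1 L E s) (B : Bk 11 n1 10 1 L1 E1 s1) (T : Tri G)
    (h21 : ∀ χ : IrrCharacter G, χ ≠ one G → 20 < dg χ) (h1 : 1 + (cl s L 1).sum = 6336)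
    (h2 : -12672 ∉ cl s L 1) : False := by
  have hl := len_E A
  have mE : ∀ χ : IrrCharacter G, dg χ % 23 = 11 ∨ dg χ % 23 = 12 → χ ∈ E := fun χ h =>
    A.mem_E (by omega) (by omega) fun h1 => by
      obtain ⟨d, h2, h3⟩ := List.mem_map.1 h1
      have := ((A.deg (fun _ => true) fun _ _ => rfl).mem d h2).2.1
      omega
  have dE : ∀ χ ∈ E, dg χ = 6336 := fun χ h => by rw [dg_E A h, h1]; rfl
  obtain ⟨θ, hθ⟩ := List.exists_mem_of_length_pos (l := E) (by omega)
  have dθ := dE θ hθ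
  obtain ⟨x, y, z, h3, R⟩ := T θ (by omega) (by omega)
  have key : ∀ χ ∈ [x, y, z], fl3 (dg χ) = true ∧ ∃ k < 1739, dg χ = 9 * k := fun χ h => by
    obtain ⟨⟨k, hk⟩, k2⟩ := R.dv χ h
    have k3 := dg_sq_le χ
    have k4 := h21 χ fun e => by rw [e, dg_one] at hk; omega
    have k5 := r11 B χ
    have k6 := A.r23 χ
    have k7 := fun h => dE χ (mE χ h)
    have k8 : dg χ ≠ 12672 := fun h => h2 (mem_D A (d := -12672) h (by decide) (by decide))
    rw [hG] at k3
    refine ⟨?_, k, by nlinarith, hk⟩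
    simp only [fl3, Bool.and_eq_true, Nat.blt_eq, beq_iff_eq, Bool.or_eq_true, bne_iff_ne, k5,
      List.contains_eq_mem, List.mem_cons, List.not_mem_nil, or_false, decide_eq_true_eq,
      and_true] at k6 ⊢
    exact ⟨⟨⟨⟨⟨k4, Nat.mod_eq_zero_of_dvd (hG ▸ dg_dvd χ)⟩, by omega⟩, k8⟩, by omega⟩, by omega⟩
  have no : ∀ χ ∈ [x, y, z], ∀ ψ ∈ [x, y, z], dg ψ ≠ dg χ + 6336 ∧ dg ψ ≠ 6336 - dg χ :=
    fun χ h ψ h' => by
      obtain ⟨k1, k, k2, k3⟩ := key χ h
      have := or_not (List.all_eq_true.1 no_sum k (List.mem_range.2 k2)) (k3 ▸ k1)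
      rw [← k3, Bool.and_eq_true] at this
      have k4 := (key ψ h').1
      exact ⟨fun e => by simp [← e, k4] at this, fun e => by simp [← e, k4] at this⟩
  rcases R.alt with ⟨h4, -⟩ | ⟨h4, -⟩
  · have h5 := h4 1 (by simp)
    rw [← coe_dg, ← coe_dg, ← coe_dg] at h5
    have h6 : dg x + dg y = dg z := by exact_mod_cast h5
    have a1 := (no y (by simp) z (by simp)).1
    have a2 := (no x (by simp) z (by simp)).1
    have a3 := (no x (by simp) y (by simp)).2
    simp only [List.mem_cons, List.not_mem_nil, or_false] at h3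
    rcases h3 with rfl | rfl | rfl <;> omega
  · obtain ⟨h5, h6⟩ := h4 1 (by simp)
    rw [← coe_dg, ← coe_dg] at h5 h6
    have h5 : dg y = dg x := by exact_mod_cast h5
    have h6 : dg z = dg x := by exact_mod_cast h6
    have h7 : dg x = 6336 := by
      simp only [List.mem_cons, List.not_mem_nil, or_false] at h3
      rcases h3 with rfl | rfl | rfl <;> omega
    have := (List.subperm_of_subset R.nd (l₂ := E) fun χ h => mE χ (by
      simp only [List.mem_cons, List.not_mem_nil, or_false] at h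
      rcases h with rfl | rfl | rfl <;> omega)).length_le
    simp [hl] at this

theorem main (A : Bk 23 n 11 1 L E s) (B : Bk 11 n1 10 1 L1 E1 s1) (T : Tri G)
    {a b c d ρ : IrrCharacter G} (S : S5 a b c d ρ) (hv : v ∈ [3, 24, 192]) {w : G}
    (hw : orderOf w = 7) (hc : cc w = 7 * v) (iw : IC w)
    (h21 : ∀ χ : IrrCharacter G, χ ≠ one G → 20 < dg χ) (h45 : ∀ χ : IrrCharacter G, dg χ ≠ 45)
    (hl : ∀ χ : IrrCharacter G, ¬ 7 ∣ dg χ → ∃ m, m ∣ v ∧ m * m ≤ v ∧ (iv χ w).natAbs ∣ 6 * m)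
    (hm : ((23 * (7 * v * (7 * v)) : ℕ) : ℤ) ∣ fm 244823040 (cl s L 1) (cl s L w))
    (ht : 1 + (cl s L w).sum = 1 ∨ -1 ∈ cl s L w) : False := by
  obtain rfl : n = 967680 :=
    beq_iff_eq.1 (or_res (List.all_eq_true.1 n23 _ (hG ▸ A.mem)) (by simp))
  have hv' : v ≤ 192 := by
    simp only [List.mem_cons, List.not_mem_nil, or_false] at hv; omega
  have H := A.deg flt fun χ h => by
    simp only [flt, Bool.and_eq_true, Nat.blt_eq, bne_iff_ne, r11 B χ, r23, A.r23 χ, and_true]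
    exact ⟨h21 χ (A.ne_one h), h45 χ⟩
  have db := S.db
  have dc := S.dc
  have dd := S.dd
  have ne : ∀ {χ ψ : IrrCharacter G}, dg χ ≠ dg ψ → χ ≠ ψ := fun h e => h (e ▸ rfl)
  have o := dg_one (G := G)
  have nd := nodup_dv (M := [b, c, d]) A.nd (by
    simp only [List.nodup_cons, List.mem_cons, List.not_mem_nil, or_false, not_or, not_false_iff,
      List.nodup_nil, and_true]
    exact ⟨⟨ne (by omega), ne (by omega), ne (by omega)⟩, ⟨ne (by omega), ne (by omega)⟩,
      ne (by omega)⟩) fun _ => A.ndv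
  have nc := nodup_dv (M := [c]) A.nd (by simpa using ne (by omega)) fun _ => A.ndv
  simp only [List.filter_cons, db, dc, dd, Nat.reduceMod, BEq.rfl, if_true, List.filter_nil] at nd nc
  have s1 := sq_le nd ic_one
  rw [pr_append, sq_append, A.sq_eq (by norm_num) (one_mul 1), cc,
    centralizer_eq_top_iff_subset.2 (by simp), card_top, hG] at s1
  simp only [H45.MN.sq, pr, List.map_cons, List.map_nil, List.sum_cons, List.sum_nil, iv_one, db, dc,
    dd] at s1
  have w23 : ¬ 23 ∣ orderOf w := by rw [hw]; norm_num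
  have s2' := sq_le nc iw
  rw [pr_append, sq_append, sq_eq' A w23 iw, hc] at s2'
  simp only [H45.MN.sq, pr, List.map_cons, List.map_nil, List.sum_cons, List.sum_nil,
    iv_eq (n := 1) (by rw [S.c7 w hw.symm.dvd]; simp)] at s2'
  have e1 : s2 ((5796 : ℕ) : ℤ) = 33593616 := by decide
  have e2 : s2 ((2024 : ℕ) : ℤ) = 4096576 := by decide
  have e3 : s2 ((1771 : ℕ) : ℤ) = 3136441 := by decide
  have h0 := degs_spec (by norm_num) (by norm_num)
    (show Dg 203996407 23 967680 11 flt (cl s L 1) from { H with sum := by omega }) search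
  have m1 := mem_D A (d := -252) S.dρ (by decide) (by decide)
  have m2 := mem_D A (d := 5544) S.da (by decide) (by decide)
  simp only [List.contains_eq_mem, m1, m2, decide_true, Bool.not_true, Bool.false_or,
    Bool.or_eq_true, Bool.and_eq_true, decide_eq_true_eq, Nat.blt_eq, beq_iff_eq, Bool.not_eq_true',
    decide_eq_false_iff_not] at h0
  rcases h0 with (⟨h1, h2⟩ | ⟨h1, h2⟩) | h1
  · obtain ⟨χ, -, h3⟩ := List.mem_map.1 h1
    obtain ⟨b', -, -, h4, h5⟩ := S.tri
    obtain ⟨a', ρ', k1, k2, k3, k4⟩ := h5 fun e => h4 e χ (by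
      rw [iv_one] at h3
      rcases A.sg χ with e | e <;> rw [e] at h3 <;> omega)
    have := two_le_count A k1 (d := 5544) S.da k3 (by decide) (by decide)
    have := two_le_count A k2 (d := -252) (by rw [S.dρ]; rfl) (by rw [k4]; rfl) (by decide) (by decide)
    omega
  · exact not6336 hG A B T h21 h1 h2
  · obtain ⟨θ, -, σ, k1, k2, k3⟩ := A.exists_E w23 iw
    refine colw_spec hv' ?_ (k2 ▸ k3 ▸ okw_of hG hw hc iw hv' hl θ k1) ?_ ht hm
      (List.all_eq_true.1 h1 v hv)
    · simp only [cl, List.forall₂_map_left_iff, List.forall₂_map_right_iff, List.forall₂_same]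
      exact fun χ _ => okw_of hG hw hc iw hv' hl χ (A.sg χ)
    · have e1 : s2 1 = 1 := rfl
      omega

omit hG in
theorem jobP4 : JobP4.{u} := by
  rintro G _ _ _ hG ⟨n, L, E, s, A⟩ ⟨n1, L1, E1, s1, B⟩ T a b c d ρ S v hv ⟨n7, L7, E7, s7, C⟩
  obtain ⟨w, hw, iw, hl⟩ := exists_loc C rfl
  have hc := C.ccp w hw
  have h1 := cm A (by rw [hG]; norm_num) (by rw [hw]; norm_num) iw
    (A.not_dvd_cc rfl (by rw [hw]; norm_num))
  rw [hG, hc] at h1
  exact main hG A B T S hv hw hc iw (dg21 hG) (no45 hG S hw iw) hl h1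
    (meet A C rfl (by norm_num) hw iw)

end H77.P4
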