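import Cfsg.Agent.H96.LDFA1
import Cfsg.Agent.S1614
import Cfsg.Agent.S0280

/-! Tower LD5, job FB: identification of `U₄(2)`. -/

set_option autoImplicit false

open Matrix Cfsg Cfsg.Geo H41.LD H96.LD
open H19 hiding cj
open scoped MatrixGroups commutatorElement

namespace H77.LD

universe u

variable {K : Type u} [Field K] {P G : Subgroup (GL (Fin 5) K)} {s x y z : R 5 K} {w : K}

theorem mem_PM {g : GL (Fin 5) K} (h : g ∈ PM P) : g ∈ P ∨ -g ∈ P := by
  let S : Subgroup (GL (Fin 5) K) :=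
    { carrier := {g | g ∈ P ∨ -g ∈ P}
      one_mem' := .inl P.one_mem
      mul_mem' := fun {a b} ha hb => by
        rcases ha with ha | ha <;> rcases hb with hb | hb
        · exact .inl (P.mul_mem ha hb)
        · exact .inr (by simpa using P.mul_mem ha hb)
        · exact .inr (by simpa using P.mul_mem ha hb)
        · exact .inl (by simpa using P.mul_mem ha hb)
      inv_mem' := fun {a} ha => by
        rcases ha with ha | ha
        · exact .inl (P.inv_mem ha)
        · exact .inr (by simpa using P.inv_mem ha) }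
  have : PM P ≤ S := sup_le (fun g hg => .inl hg)
    (Subgroup.zpowers_le.2 (.inr (by simp)))
  exact this h

theorem sq_mem {g : GL (Fin 5) K} (h : g ∈ PM P) : g * g ∈ P := by
  rcases mem_PM h with h | h
  · exact P.mul_mem h h
  · simpa using P.mul_mem h h

theorem le_gen (hP : QS P) {L : Subgroup (GL (Fin 5) K)} (h : P ≤ L ⊔ scalars (Fin 5) K) : P ≤ L := by
  rw [← hP.perfect, Subgroup.commutator_le]
  intro a ha b hb
  obtain ⟨k, hk, c, rfl⟩ := mem_sup_scalars (h ha)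
  obtain ⟨l, hl, d, rfl⟩ := mem_sup_scalars (h hb)
  have cm : ∀ (c : Kˣ) (g : GL (Fin 5) K), scal (Fin 5) c * g = g * scal (Fin 5) c := fun c g =>
    Units.ext (by simp)
  have : ⁅k * scal (Fin 5) c, l * scal (Fin 5) d⁆ = ⁅k, l⁆ := by
    simp only [commutatorElement_def, _root_.mul_inv_rev]
    calc k * scal (Fin 5) c * (l * scal (Fin 5) d) * ((scal (Fin 5) c)⁻¹ * k⁻¹) *
          ((scal (Fin 5) d)⁻¹ * l⁻¹)
        = k * (scal (Fin 5) c * (l * scal (Fin 5) d)) * (scal (Fin 5) c)⁻¹ * k⁻¹ *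
          ((scal (Fin 5) d)⁻¹ * l⁻¹) := by group
      _ = k * l * (scal (Fin 5) d * k⁻¹) * ((scal (Fin 5) d)⁻¹ * l⁻¹) := by rw [cm c]; group
      _ = _ := by rw [cm d]; group
  rw [this]
  exact L.mul_mem (L.mul_mem (L.mul_mem hk hl) (L.inv_mem hk)) (L.inv_mem hl)

/-- pairs of conjugate elements of `ℤ[w]` -/
def SW (w : K) (hw : w ^ 2 + w + 1 = 0) : Subring (K × K) where
  carrier := {p | ∃ k l : ℤ, p.1 = k + l * w ∧ p.2 = k + l * (-1 - w)}
  one_mem' := ⟨1, 0, by simp, by simp⟩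
  zero_mem' := ⟨0, 0, by simp, by simp⟩
  add_mem' := by
    rintro ⟨a, b⟩ ⟨c, d⟩ ⟨k, l, rfl, rfl⟩ ⟨k', l', rfl, rfl⟩
    exact ⟨k + k', l + l', by simp; ring, by simp; ring⟩
  neg_mem' := by
    rintro ⟨a, b⟩ ⟨k, l, rfl, rfl⟩
    exact ⟨-k, -l, by simp; ring, by simp; ring⟩
  mul_mem' := by
    rintro ⟨a, b⟩ ⟨c, d⟩ ⟨k, l, rfl, rfl⟩ ⟨k', l', rfl, rfl⟩
    exact ⟨k * k' - l * l', k * l' + l * k' - l * l', by
      simp; linear_combination ((l : K) * l') * hw, by
      simp; linear_combination ((l : K) * l') * hw⟩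

theorem int_mem (hw : w ^ 2 + w + 1 = 0) {a : K} (k : ℤ) (e : a = k) : (a, a) ∈ SW w hw :=
  ⟨k, 0, by simp [e], by simp [e]⟩

theorem cc_self (h : N y = N x) (hx : x.2 ⬝ᵥ x.1 = 2) : cc x y = 4 := by
  rw [cc_congr rfl h, cc, hx]; norm_num

section
variable (h : C3 G s w)
include h

theorem cc3 (hx : Cl G s x) (hy : Cl G s y) : cc x y = 0 ∨ cc x y = 1 ∨ cc x y = 4 :=
  (h.cv2 hx hy.1).imp_right (Or.imp_right fun e => cc_self e hx.1.1)

theorem cc_mem (hx : Cl G s x) (hy : Cl G s y) :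
    (cc x y, cc x y) ∈ SW w h.om ∧ ((cc x y)⁻¹, (cc x y)⁻¹) ∈ SW w h.om := by
  rcases cc3 h hx hy with e | e | e <;> rw [e]
  · exact ⟨int_mem _ 0 (by simp), int_mem _ 0 (by simp)⟩
  · exact ⟨int_mem _ 1 (by simp), int_mem _ 1 (by simp)⟩
  · have h4 : (4 : K) ≠ 0 := by
      rw [show (4 : K) = 2 * 2 by norm_num]; exact mul_ne_zero h.two h.two
    obtain ⟨k, hk, hk'⟩ := h.rs.lf.exists_pow h4
    refine ⟨int_mem _ 4 (by simp), int_mem _ (4 ^ (k - 1)) ?_⟩
    have k0 : k ≠ 0 := by rintro rfl; simp at hk'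
    obtain ⟨j, rfl⟩ := Nat.exists_eq_succ_of_ne_zero k0
    rw [pow_succ] at hk
    simpa using (eq_inv_of_mul_eq_one_left hk).symm

theorem tau_same (hx : Cl G s x) (hz : Cl G s z) (e : N y = N x) :
    (tau x y z, tau x z y) ∈ SW w h.om := by
  have e1 : tau x y z = 2 * cc x z := by
    rw [tau_congr rfl e rfl, tau, hx.1.1, cc]; ring
  have e2 : tau x z y = 2 * cc x z := by
    rw [tau_congr rfl rfl e, tau, hx.1.1, cc]; ring
  rw [e1, e2]
  exact (SW w h.om).mul_mem (int_mem h.om 2 (by simp)) (cc_mem h hx hz).1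

theorem tau_zero (hx : Cl G s x) (hy : Cl G s y) (e : cc x y = 0) :
    (tau x y z, tau x z y) ∈ SW w h.om := by
  obtain ⟨e1, e2⟩ := h.rs.thin.of_cc hx.1 hy.1 e
  rw [tau, tau, e1, e2]
  simp only [zero_mul, mul_zero]
  exact (SW w h.om).zero_mem

theorem tau_mem (hx : Cl G s x) (hy : Cl G s y) (hz : Cl G s z) :
    (tau x y z, tau x z y) ∈ SW w h.om := by
  rcases h.cv2 hx hy.1 with c1 | c1 | c1
  · exact tau_zero h hx hy c1
  swap
  · exact tau_same h hx hz c1
  rcases h.cv2 hy hz.1 with c2 | c2 | c2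
  · rw [tau_rot x y z, ← tau_rot y x z]; exact tau_zero h hy hz c2
  swap
  · rw [tau_rot x y z, ← tau_rot y x z]; exact tau_same h hy hx c2
  rcases h.cv2 hz hx.1 with c3 | c3 | c3
  · rw [← tau_rot z x y, tau_rot x z y]; exact tau_zero h hz hx c3
  swap
  · rw [← tau_rot z x y, tau_rot x z y]; exact tau_same h hz hy c3
  rw [cc_comm] at c3
  have m := tau_mul x y z
  have c := cc3 h (Cl_cj hy.1 hx) hz
  rw [cc_cj, c1, c2, c3] at c
  rw [c1, c2, c3] at m
  generalize tau x y z = a at *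
  generalize tau x z y = b at *
  rcases c with c | c | c
  · have hb : b = 2 - a := by linear_combination -c
    subst hb
    have : a = 1 := sub_eq_zero.1 (pow_eq_zero_iff (n := 2) (by norm_num) |>.1
      (by linear_combination -m))
    exact ⟨1, 0, by simp [this], by simp [this]; norm_num⟩
  · have hb : b = 1 - a := by linear_combination -c
    subst hb
    have : (a + w) * (a - 1 - w) = 0 := by linear_combination -m - h.om
    rcases mul_eq_zero.1 this with e | e
    · exact ⟨0, -1, by simp; linear_combination e, by simp; linear_combination -e⟩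
    · exact ⟨1, 1, by simp; linear_combination e, by simp; linear_combination -e⟩
  · have hb : b = -2 - a := by linear_combination -c
    subst hb
    have : a = -1 := add_eq_zero_iff_eq_neg.1 (pow_eq_zero_iff (n := 2) (by norm_num) |>.1
      (by linear_combination -m))
    exact ⟨-1, 0, by simp [this], by simp [this]; norm_num⟩

theorem traces (hC : JobCyc.{u}) {g : GL (Fin 5) K} (hg : g ∈ Gen {x | Cl G s x}) :
    (trc g, trc g⁻¹) ∈ SW w h.om := by
  refine hC K 5 (SW w h.om) 1 ((fun x : R 5 K => ((-x.1, x.2) : R 5 K)) '' {x | Cl G s x}) _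
    (one_mul 1) ?_ ?_ ?_ (SW w h.om).one_mem ?_ ?_ ?_ g hg
  · rintro g ⟨x, hx, e⟩
    have e' : g.val = 1 + N (-x.1, x.2) := by rw [e, N_neg_left, sub_eq_add_neg]
    refine ⟨_, ⟨x, hx, rfl⟩, e', ?_⟩
    have : g = rf x hx.1.1 := Units.ext e
    rw [one_smul, ← e', this]; rfl
  · rintro _ ⟨x, hx, rfl⟩ _ ⟨y, hy, rfl⟩
    refine ⟨cj x y, Cl_cj hx.1 hy, Prod.ext ?_ ?_⟩
    · simp [cj]; abel
    · simp [cj, sub_eq_add_neg]
  · rintro _ ⟨x, hx, rfl⟩
    simp only [dotProduct_neg, hx.1.1, one_mul]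
    exact int_mem _ (-2) (by simp)
  · rintro _ ⟨x, hx, rfl⟩ _ ⟨y, hy, rfl⟩
    have : cc ((-x.1, x.2) : R 5 K) (-y.1, y.2) = cc x y := by simp [cc]
    rw [this]; exact cc_mem h hx hy
  · rintro _ ⟨x, hx, rfl⟩ _ ⟨y, hy, rfl⟩ _ ⟨z, hz, rfl⟩
    have e : ∀ x y z : R 5 K, tau ((-x.1, x.2) : R 5 K) (-y.1, y.2) (-z.1, z.2) = -tau x y z :=
      fun x y z => by simp [tau]
    rw [e, e, one_mul]
    exact (SW w h.om).neg_mem (tau_mem h hx hy hz)
  · rintro _ ⟨x, hx, rfl⟩ _ ⟨y, hy, rfl⟩ e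
    left
    simp only [dotProduct_neg, neg_eq_zero] at e ⊢
    exact h.rs.thin.sym hx.1 hy.1 e

end

/-! ### the element `diag (w, w, w, 1, 1)` -/

section
variable {e ε : Fin 3 → Fin 5 → K}

def dM (e ε : Fin 3 → Fin 5 → K) (a b c : K) : Matrix (Fin 5) (Fin 5) K :=
  1 + a • N (e 0, ε 0) + b • N (e 1, ε 1) + c • N (e 2, ε 2)

theorem dM_mul (h : Dual e ε) (a b c a' b' c' : K) : dM e ε a b c * dM e ε a' b' c' =
    dM e ε (a + a' + a * a') (b + b' + b * b') (c + c' + c * c') := by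
  simp only [dM, add_mul, mul_add, one_mul, mul_one, smul_mul_assoc, mul_smul_comm, N_mk_mul, h.same,
    h.ne (show (0 : Fin 3) ≠ 1 by decide), h.ne (show (0 : Fin 3) ≠ 2 by decide),
    h.ne (show (1 : Fin 3) ≠ 0 by decide), h.ne (show (1 : Fin 3) ≠ 2 by decide),
    h.ne (show (2 : Fin 3) ≠ 0 by decide), h.ne (show (2 : Fin 3) ≠ 1 by decide)]
  module

theorem trace_dM (h : Dual e ε) (a b c : K) : (dM e ε a b c).trace = 5 + a + b + c := by
  simp [dM, trace_N, h.same]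

theorem exists_trace (f : Fin3 (PM P) e ε w) : ∃ g ∈ P, trc g = 2 + 3 * w := by
  have w3 : w ^ 3 = 1 := by linear_combination (w - 1) * f.om
  have m1 : Mu (PM P) e ε w := (f.mu w).2 w3
  have m2 : Mu (PM P) e ε (w ^ 2) := (f.mu _).2 (by rw [← pow_mul, mul_comm, pow_mul, w3, one_pow])
  have i1 : In (PM P) (dM e ε (w ^ 2 - 1) ((w ^ 2)⁻¹ - 1) 0) := by
    simpa [dM] using f.fr.diag m2 (show (0 : Fin 3) ≠ 1 by decide)
  have i2 : In (PM P) (dM e ε 0 (w - 1) (w⁻¹ - 1)) := by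
    simpa [dM] using f.fr.diag m1 (show (1 : Fin 3) ≠ 2 by decide)
  obtain ⟨g, hg, e⟩ := i1.mul i2
  refine ⟨g * g, sq_mem hg, ?_⟩
  have j1 : w⁻¹ = w ^ 2 := inv_cube w3
  have j2 : (w ^ 2)⁻¹ = w := by rw [← j1, inv_inv]
  rw [trc_def, Units.val_mul, e, dM_mul f.fr.dual, dM_mul f.fr.dual, trace_dM f.fr.dual, j1, j2]
  linear_combination (3 * w) * w3

end

/-! ### the class of 3-transpositions -/

theorem braid (hx : x.2 ⬝ᵥ x.1 = 2) (hy : y.2 ⬝ᵥ y.1 = 2) (c : cc x y = 1) :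
    (rf x hx * rf y hy) ^ 3 = 1 := by
  have e1 : N x * N x = (2 : K) • N x := by rw [N_mul_N, hx]
  have e2 : N y * N y = (2 : K) • N y := by rw [N_mul_N, hy]
  have e3 : N x * N y * N x = N x := by
    rw [N_mul_N, smul_mul_assoc, N_mul_N, smul_smul]
    exact (congrArg (· • N x) c).trans (one_smul _ _)
  have e4 : N y * N x * N y = N y := by
    rw [N_mul_N, smul_mul_assoc, N_mul_N, smul_smul]
    exact (congrArg (· • N y) ((cc_comm y x).trans c)).trans (one_smul _ _)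
  have b : rf x hx * rf y hy * rf x hx = rf y hy * rf x hx * rf y hy := Units.ext (by
    show (1 - N x) * (1 - N y) * (1 - N x) = (1 - N y) * (1 - N x) * (1 - N y)
    simp only [mul_sub, sub_mul, one_mul, mul_one, e1, e2, e3, e4]
    module)
  have s1 : rf x hx * rf x hx = 1 := Units.ext (rf_mul_self hx)
  have s2 : rf y hy * rf y hy = 1 := Units.ext (rf_mul_self hy)
  calc (rf x hx * rf y hy) ^ 3 = (rf x hx * rf y hy * rf x hx) * (rf y hy * rf x hx * rf y hy) := by
        simp only [pow_succ, pow_zero, one_mul, mul_assoc]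
    _ = rf x hx * (rf y hy * (rf x hx * rf x hx) * rf y hy) * rf x hx := by
        rw [← b]; simp only [mul_assoc]
    _ = 1 := by rw [s1, mul_one, s2, mul_one, s1]

theorem comm0 (hx : x.2 ⬝ᵥ x.1 = 2) (hy : y.2 ⬝ᵥ y.1 = 2) (c : x.2 ⬝ᵥ y.1 = 0) (c' : y.2 ⬝ᵥ x.1 = 0) :
    (rf x hx * rf y hy) ^ 2 = 1 := by
  have b : rf x hx * rf y hy = rf y hy * rf x hx := Units.ext (by
    show (1 - N x) * (1 - N y) = (1 - N y) * (1 - N x)
    simp only [mul_sub, sub_mul, one_mul, mul_one, N_mul_N, c, c', zero_smul]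
    abel)
  have s1 : rf x hx * rf x hx = 1 := Units.ext (rf_mul_self hx)
  have s2 : rf y hy * rf y hy = 1 := Units.ext (rf_mul_self hy)
  calc (rf x hx * rf y hy) ^ 2 = rf x hx * (rf y hy * rf x hx) * rf y hy := by
        simp only [pow_succ, pow_zero, one_mul, mul_assoc]
    _ = 1 := by rw [← b, ← mul_assoc, s1, one_mul, s2]

/-- the embedding into the projective group -/
def io (P : Subgroup (GL (Fin 5) K)) : Bar P →* GL (Fin 5) K ⧸ scalars (Fin 5) K :=
  QuotientGroup.map _ _ P.subtype le_rfl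

theorem io_inj (P : Subgroup (GL (Fin 5) K)) : Function.Injective (io P) := by
  refine (injective_iff_map_eq_one _).2 fun b hb => ?_
  obtain ⟨p, rfl⟩ := QuotientGroup.mk_surjective b
  exact (QuotientGroup.eq_one_iff _).2 ((QuotientGroup.eq_one_iff (p : GL (Fin 5) K)).1 hb)

abbrev pj : GL (Fin 5) K →* GL (Fin 5) K ⧸ scalars (Fin 5) K := QuotientGroup.mk' _

theorem pj_neg (g : GL (Fin 5) K) : pj (-g) = pj g := by
  have : pj (-1 : GL (Fin 5) K) = 1 :=
    (QuotientGroup.eq_one_iff _).2 ((mem_scalars_iff _).2 ⟨-1, by simp⟩)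
  rw [← neg_one_mul, map_mul, this, one_mul]

theorem exists_io {g : GL (Fin 5) K} (hg : g ∈ PM P) : ∃ b, io P b = pj g := by
  rcases mem_PM hg with h | h
  · exact ⟨QuotientGroup.mk ⟨g, h⟩, rfl⟩
  · exact ⟨QuotientGroup.mk ⟨-g, h⟩, pj_neg g⟩

def DD (P : Subgroup (GL (Fin 5) K)) (s : R 5 K) : Set (Bar P) :=
  {b | ∃ x, ∃ hx : Cl (PM P) s x, io P b = pj (rf x hx.1.1)}

theorem comm_top (hP : QS P) : commutator (Bar P) = ⊤ := by
  have t : ⁅(⊤ : Subgroup P), ⊤⁆ = ⊤ := Subgroup.map_injective P.subtype_injective (by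
    rw [Subgroup.map_commutator, ← MonoidHom.range_eq_map, Subgroup.range_subtype, hP.perfect])
  have := congrArg (Subgroup.map (QuotientGroup.mk' ((scalars (Fin 5) K).subgroupOf P))) t
  rwa [Subgroup.map_commutator, Subgroup.map_top_of_surjective _ (QuotientGroup.mk'_surjective _)] at this

theorem not_perm {Γ : Type*} [Group Γ] (h : commutator Γ = ⊤) {n : ℕ}
    (e : Γ ≃* Equiv.Perm (Fin (n + 2))) : False := by
  have := Abelianization.commutator_subset_ker (Equiv.Perm.sign.comp e.toMonoidHom)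
  rw [h] at this
  have h1 := this (Subgroup.mem_top (e.symm (Equiv.swap 0 1)))
  rw [MonoidHom.mem_ker] at h1
  simp at h1

section
variable (h : C3 (PM P) s w)
include h

omit h in
theorem D_ord {b : Bar P} (hb : b ∈ DD P s) : orderOf b = 2 := by
  obtain ⟨x, hx, e⟩ := hb
  refine orderOf_eq_prime (io_inj P ?_) fun e1 => ?_
  · rw [map_pow, e, ← map_pow, sq, show rf x hx.1.1 * rf x hx.1.1 = 1 from
      Units.ext (rf_mul_self hx.1.1), map_one, map_one]
  · rw [e1, map_one] at e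
    exact not_mem_scalars_of_rk (by norm_num) (a := 1) (c := -1) hx.1.N_ne (by simp)
      (by show 1 - N x = _; simp [sub_eq_add_neg]) ((QuotientGroup.eq_one_iff _).1 e.symm)

theorem D_pair {x y : R 5 K} (hx : Cl (PM P) s x) (hy : Cl (PM P) s y) {a b : Bar P}
    (ea : io P a = pj (rf x hx.1.1)) (eb : io P b = pj (rf y hy.1.1)) :
    (cc x y = 0 ∧ (a * b) ^ 2 = 1) ∨ (a * b) ^ 3 = 1 ∨ b = a := by
  rcases h.cv2 hx hy.1 with c | c | c
  · obtain ⟨c1, c2⟩ := h.rs.thin.of_cc hx.1 hy.1 c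
    exact .inl ⟨c, io_inj P (by
      rw [map_pow, map_mul, ea, eb, ← map_mul, ← map_pow, comm0 _ _ c1 c2, map_one, map_one])⟩
  · exact .inr (.inl (io_inj P (by
      rw [map_pow, map_mul, ea, eb, ← map_mul, ← map_pow, braid _ _ c, map_one, map_one])))
  · refine .inr (.inr (io_inj P ?_))
    rw [ea, eb]
    congr 1
    exact Units.ext (show 1 - N y = 1 - N x by rw [c])

theorem D_conj {d : Bar P} (ed : io P d = pj (rf s h.rf.1)) : DD P s = conjugatesOf d := by
  have key : ∀ (g : GL (Fin 5) K) (x : R 5 K) (hx : x.2 ⬝ᵥ x.1 = 2), N x = g.val * N s * (g⁻¹).val →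
      rf x hx = g * rf s h.rf.1 * g⁻¹ := fun g x hx e => Units.ext (by
    show 1 - N x = g.val * (1 - N s) * (g⁻¹).val
    rw [e, mul_sub, sub_mul, mul_one, Units.mul_inv])
  ext b
  constructor
  · rintro ⟨x, hx, e⟩
    obtain ⟨g, hg, e2⟩ := hx.2
    obtain ⟨c, hc⟩ := exists_io hg
    refine isConj_iff.2 ⟨c, io_inj P ?_⟩
    rw [e, key g x _ e2, map_mul, map_mul, map_inv, hc, ed, map_mul, map_mul, map_inv]
  · intro hb
    obtain ⟨c, rfl⟩ := isConj_iff.1 hb
    obtain ⟨p, rfl⟩ := QuotientGroup.mk_surjective c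
    have hp : (p : GL (Fin 5) K) ∈ PM P := Subgroup.mem_sup_left p.2
    refine ⟨cg p s, Cl_cg h.self hp, ?_⟩
    rw [key p _ _ (N_cg _ _), map_mul, map_mul, map_inv, ed, map_mul, map_mul, map_inv]
    rfl

end

theorem jobFB : JobFB.{u} := by
  intro hC hA K _ P hP hG h2 e ε w f
  have h : C3 (PM P) (sw e ε 0 1 1) w := ⟨hG, h2, f.three, f.om, f.fr.s01, f.cv⟩
  obtain ⟨hcard, hsolv⟩ := hA K (PM P) hG h2 e ε w f
  refine ⟨fun g hg => traces h hC (le_gen hP (le_sup_left.trans h.gen.2) hg), exists_trace f, ?_⟩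
  have := hG.fin
  have : Finite P := Finite.of_injective (β := PM P) _ (Subgroup.inclusion_injective le_sup_left)
  have := hP.simple
  have hc := comm_top hP
  obtain ⟨d, ed⟩ := exists_io h.rf.mem
  have hd : d ∈ DD P (sw e ε 0 1 1) := ⟨_, h.self, ed⟩
  have hcl := D_conj h ed
  have hD : IsThreeTranspositionClass (DD P (sw e ε 0 1 1)) := by
    refine ⟨⟨fun b hb => D_ord hb, ?_⟩, ⟨d, hd, hcl⟩, ?_⟩
    · rintro a ha b ⟨y, hy, eb⟩
      have o := D_ord ha
      obtain ⟨x, hx, ea⟩ := ha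
      rcases D_pair h hx hy ea eb with c | c | c
      · exact .inl c.2
      · exact .inr c
      · left; rw [c, ← sq, ← o, pow_orderOf_eq_one, one_pow]
    · have : (Subgroup.closure (DD P (sw e ε 0 1 1))).Normal := by
        have e1 : DD P (sw e ε 0 1 1) = Group.conjugatesOfSet {d} := by
          rw [hcl]; ext b; simp [Group.mem_conjugatesOfSet_iff, conjugatesOf]
        rw [e1]
        exact Subgroup.normalClosure_normal
      refine (this.eq_bot_or_eq_top).resolve_left fun e1 => ?_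
      have h1 : d = 1 := Subgroup.mem_bot.1 (e1 ▸ Subgroup.subset_closure hd)
      have o := D_ord hd
      rw [h1, orderOf_one] at o
      omega
  have hsol : ∀ M : Subgroup (Bar P), M.Normal → Group.IsSolvable M → M = ⊥ := fun M hM hs =>
    hM.eq_bot_or_eq_top.elim id fun e1 => absurd
      (H14.eq_bot_of_perfect_of_le_solvable (L := ⊤) hc e1.ge hs) top_ne_bot
  have hs : Group.IsSolvable (Subgroup.closure
      {y | y ∈ DD P (sw e ε 0 1 1) ∧ y ≠ d ∧ Commute d y}) := by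
    set H := Subgroup.closure {g : GL (Fin 5) K | ∃ x, Cl (PM P) (sw e ε 0 1 1) x ∧
      cc (sw e ε 0 1 1) x = 0 ∧ g.val = 1 - N x} with hH
    have s1 : Group.IsSolvable (H.map pj) :=
      Group.isSolvable_of_surjective (pj.subgroupMap_surjective H)
    have le : Subgroup.closure {y | y ∈ DD P (sw e ε 0 1 1) ∧ y ≠ d ∧ Commute d y} ≤
        (H.map pj).comap (io P) := by
      rw [Subgroup.closure_le]
      rintro b ⟨hb, hne, hcm⟩
      have o := D_ord hb
      have o' := D_ord hd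
      obtain ⟨y, hy, eb⟩ := hb
      rcases D_pair h h.self hy ed eb with c | c | c
      · exact ⟨rf y hy.1.1, Subgroup.subset_closure ⟨y, hy, c.1, rfl⟩, eb.symm⟩
      · exfalso
        have b2 : b ^ 2 = 1 := o ▸ pow_orderOf_eq_one b
        have d2 : d ^ 2 = 1 := o' ▸ pow_orderOf_eq_one d
        rw [pow_succ, hcm.mul_pow, b2, d2, one_mul, one_mul] at c
        exact hne (mul_left_cancel (a := d) (by rw [c, ← sq, d2]))
      · exact absurd c hne
    exact Group.isSolvable_of_isSolvable_injective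
      (f := ((io P).comp (Subgroup.subtype _)).codRestrict (H.map pj) fun b => le b.2) fun a b e1 => Subtype.ext (io_inj P (congrArg Subtype.val e1))
  rcases Cfsg.Agent.S1614.result hsol (by rw [hc]; exact hc) hD d hd hs with
    ⟨⟨e1⟩⟩ | ⟨⟨e1⟩⟩ | ⟨F, i1, i2, hF, e1 | ⟨⟨e1⟩⟩⟩
  · exact (not_perm hc e1).elim
  · exact (not_perm hc e1).elim
  · exact ⟨F, i1, i2, hF, e1⟩
  · exfalso
    have c1 := Cfsg.Agent.S0280.result (F := F) (q := 2) hF 5 (by norm_num)
    rw [← Nat.card_congr e1.toEquiv] at c1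
    have c2 : Nat.card (Bar P) ≤ Nat.card (Bar (PM P)) :=
      Subgroup.relIndex_le_of_le_right (H := scalars (Fin 5) K) le_sup_left
        (Nat.card_pos (α := Bar (PM P))).ne'
    have c3 : 2 ^ (5 * (5 - 1) / 2) * ∏ i ∈ Finset.range 5,
        (if Even i then 2 ^ (i + 1) + 1 else 2 ^ (i + 1) - 1) = 3 * 13685760 := by decide +kernel
    rw [c3, show Nat.gcd 5 (2 + 1) = 1 from rfl] at c1
    omega

end H77.LD
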