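/- STD-H: finite facts about `A₇` inside `GL₄(2)`. -/
import Cfsg.Agent.H81.WrA7d

set_option autoImplicit false
set_option maxRecDepth 100000
set_option Elab.async false

namespace H77.Wr

open H81 H81.A7

/-- the four-group centralising the vectors `1, 6, 7`. -/
def LV : List ℕ := [33825, 58673, 62017, 37713]

/-- a Sylow 2-subgroup. -/
def LD : List ℕ := [33825, 58673, 62017, 37713, 12262, 14726, 18582, 24310]

theorem fixU : ∀ c ∈ 33825 :: LS, ap 4 15 c 1 = 1 →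
    c ∈ LV ∨ (m4 c (m4 c c) = 33825 ∧ ∀ v ∈ LV, m4 c v = m4 v c → v = 33825) := by decide +kernel

theorem fixV : ∀ v ∈ LV, v ≠ 33825 → ∀ i < 16, ap 4 15 v i = i → i ∈ [0, 1, 6, 7] := by
  decide +kernel

theorem imV : ∀ v ∈ LV, v ≠ 33825 → ∀ u ∈ [0, 1, 6, 7], ∃ i < 16, i ^^^ ap 4 15 v i = u := by
  decide +kernel

theorem allV : ∀ a ∈ LV, ∀ b ∈ LV, a ≠ 33825 → b ≠ 33825 → m4 a b ≠ 33825 →
    ∀ c ∈ LV, c = 33825 ∨ c = a ∨ c = b ∨ c = m4 a b := by decide +kernel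

theorem sqV : ∀ a ∈ LV, m4 a a = 33825 := by decide +kernel

theorem omV : ∀ a ∈ LV, m4 19671 a = m4 a 19671 := by decide +kernel

theorem VD : ∀ a ∈ LV, a ∈ LD := by decide +kernel

theorem mulD : ∀ c ∈ LD, ∀ d ∈ LD, m4 c d ∈ LD := by decide +kernel

theorem powD : ∀ c ∈ LD, m4 (m4 c c) (m4 c c) = 33825 := by decide +kernel

theorem actD : ∀ c ∈ LD, ap 4 15 c 7 = 7 ∧ (ap 4 15 c 1 = 1 ∨ ap 4 15 c 1 = 6) := by decide +kernel

/-- conjugators with their inverses. -/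
def G0 : List (ℕ × ℕ) := [(33825, 33825), (6629, 51576), (30347, 11260), (31541, 27291),
  (60629, 14278), (6099, 62872), (62421, 16302), (46584, 6782), (6653, 50488), (18531, 18603),
  (19547, 51322)]

theorem subA' : frc (msk LA) (fun B => allM (Nat.testBit B) (LD ++ G0.map Prod.fst ++
    [19671, 38369, 7864, 28538, 47070, 56196, 20437])) = true := by decide +kernel

theorem mem_LA' {c : ℕ} (h : c ∈ LD ++ G0.map Prod.fst ++
    [19671, 38369, 7864, 28538, 47070, 56196, 20437]) : c ∈ LA :=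
  mem_of_msk.1 (of_allM ((frc_eq _ _).symm.trans subA') c h)

theorem invG0 : ∀ p ∈ G0, ∀ i < 16, ap 4 15 p.1 (ap 4 15 p.2 i) = i := by decide +kernel

theorem norD0 : allM (fun c => frc (msk (LD.map fun d => m4 d c)) fun B =>
    !Nat.testBit B (m4 c 12262) || !Nat.testBit B (m4 c 62017) || Nat.testBit (msk LD) c) LA = true := by
  decide +kernel

theorem norD {c : ℕ} (hc : c ∈ LA) (h1 : ∃ d ∈ LD, m4 d c = m4 c 12262)
    (h2 : ∃ d ∈ LD, m4 d c = m4 c 62017) : c ∈ LD := by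
  have := of_allM norD0 c hc
  rwa [frc_eq, mem_of_msk.2 (List.mem_map.2 h1), mem_of_msk.2 (List.mem_map.2 h2), Bool.not_true,
    Bool.false_or, Bool.false_or, mem_of_msk] at this

theorem subsD : ∀ C ∈ LD.sublists, (∀ c ∈ C, m4 c c = 33825 ∧ ∀ d ∈ C, m4 c d ∈ C) →
    C.length * ((List.range 16).filter fun i => C.all fun c => ap 4 15 c i == i).length ≤ 8 ∨
      ∀ c ∈ C, c ∈ LV := by decide +kernel

/-- a power of `w` is an involution. -/
noncomputable def ev (w : ℕ) : Bool := frc w fun w => frc (m4 (m4 w w) w) fun a => frc (m4 a a) fun b =>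
  Bool.rec (motive := fun _ => Bool) (Nat.beq (m4 b b) 33825) (!Nat.beq a 33825) (Nat.beq b 33825)

theorem ev_spec {w : ℕ} {P : ℕ → Prop} (hP : ∀ a b, P a → P b → P (m4 a b)) (hw : P w)
    (h : ev w = true) : ∃ a b, P (m4 a b) ∧ m4 a b ≠ 33825 ∧ m4 (m4 a b) (m4 a b) = 33825 := by
  have h3 := hP _ _ (hP _ _ hw hw) hw
  rw [ev, frc_eq, frc_eq, frc_eq] at h
  rcases brec_true h with ⟨h1, h2⟩ | ⟨h1, h2⟩
  · exact ⟨_, _, hP _ _ h3 h3, fun e => by simp [e] at h1, Nat.eq_of_beq_eq_true h2⟩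
  · exact ⟨_, _, h3, fun e => by simp [e] at h2, Nat.eq_of_beq_eq_true h1⟩

theorem simp0 : allM (fun c => G0.any fun p => ev (m4 c (m4 (m4 p.1 c) p.2))) L1 = true := by
  decide +kernel

theorem simpA {c : ℕ} (hc : c ∈ LA) (h : c ≠ 33825) :
    ∃ p ∈ G0, ev (m4 c (m4 (m4 p.1 c) p.2)) = true :=
  List.any_eq_true.1 (of_allM simp0 c ((List.mem_cons.1 hc).resolve_left h))

theorem spanE : ∀ j < 16, ∃ a < 16, ∃ b < 16,
    j = a ^^^ ap 4 15 4764 a ^^^ (b ^^^ ap 4 15 12262 b) := by decide +kernel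

theorem fixX : ∀ i < 16, ap 4 15 4764 i = i → i = 0 ∨ i = 7 := by decide +kernel

theorem fixO : ∀ i < 16, ap 4 15 19671 i = i → i = 0 := by decide +kernel

theorem fixS : ∀ c ∈ 33825 :: LS, ap 4 15 c 7 = 7 := by decide +kernel

theorem DS : ∀ c ∈ LD, c ∈ 33825 :: LS := by decide +kernel

end H77.Wr
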