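/- STD-H: the 2-local structure of a group of type `A₇`. -/
import Cfsg.Agent.H77.WrB
import Cfsg.Agent.H99.Product

set_option autoImplicit false
set_option linter.unusedSectionVars false

universe u

namespace H77.Wr

open Subgroup Cfsg H98 H1.Gold H99.Wr H81 H81.A7

variable {G : Type u} [Group G]

section RN

variable {N E : Subgroup G} {F : Fr E 4 15} {n m k : G} {c d t : ℕ}

theorem m4_lt (F : Fr E 4 15) (c d : ℕ) : m4 c d < 2 ^ (4 * 4) := F.mul_lt c d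

theorem rn_uniq (h : RN N F n c) (h' : RN N F n d) (hc : c < 2 ^ (4 * 4)) (hd : d < 2 ^ (4 * 4)) :
    c = d := by
  obtain ⟨-, a, h1, h2⟩ := h
  obtain ⟨-, b, h3, h4⟩ := h'
  obtain rfl : a = b := MulEquiv.ext fun e => Subtype.ext ((h2 e).trans (h4 e).symm)
  exact h1.uniq h3 hc hd

theorem rn_of_cen (h : RN N F n c) (hm : m ∈ N) (e : n⁻¹ * m ∈ cen E) : RN N F m c := by
  obtain ⟨-, a, h1, h2⟩ := h
  refine ⟨hm, a, h1, fun x => ?_⟩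
  calc _ = n * (x * (n⁻¹ * m)) * m⁻¹ := by rw [h2]; group
    _ = _ := by rw [mem_cen.1 e x x.2]; group

theorem rn_cen (h : RN N F n 33825) : n ∈ cen E := by simpa using h.cen rn_one

theorem rn_of_cen1 (hm : m ∈ N) (e : m ∈ cen E) : RN N F m 33825 :=
  rn_of_cen rn_one hm (by simpa using e)

theorem bit_shift {a b : ℕ} (h : Nat.testBit (Nat.shiftLeft 1 a) b = true) : a = b := by
  rwa [show Nat.shiftLeft 1 a = 2 ^ a from Nat.one_shiftLeft _, Nat.testBit_two_pow,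
    decide_eq_true_eq] at h

theorem ap_lt (c i : ℕ) : ap 4 15 c i < 16 := apk_lt 4 c i 4

theorem rn_fix (h : RN N F n c) {i : ℕ} (hi : i < 16) :
    n * F.v i = F.v i * n ↔ ap 4 15 c i = i :=
  ⟨fun e => v_eq (F := F) (ap_lt c i) hi (by rw [← h.act hi, cj_of_comm e]),
    fun e => comm_of_cj (by rw [h.act hi, e])⟩

theorem rn_inv (h : RN N F n c) (hi : ∀ i < 16, ap 4 15 c (ap 4 15 d i) = i) : RN N F n⁻¹ d := by
  obtain ⟨h0, a, h1, h2⟩ := h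
  refine ⟨N.inv_mem h0, a⁻¹, fun i h => ?_, fun e => ?_⟩
  · rw [MulAut.inv_apply, MulEquiv.symm_apply_eq, h1 _ (ap_lt d i), hi i h]
  · have := h2 (a⁻¹ e)
    rw [MulAut.apply_inv_self] at this
    rw [this]; group

theorem rn_cj (hN : N ≤ nor E) (h : RN N F n d) (h1 : RN N F m c) (h2 : RN N F k t)
    (e : m4 d c = m4 t d) : RN N F (n * m * n⁻¹) t ∧ RN N F (n⁻¹ * k * n) c := by
  have h3 := (e ▸ h.mul h1).cen (h2.mul h)
  constructor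
  · refine rn_of_cen h2 (N.mul_mem (N.mul_mem h.1 h1.1) (N.inv_mem h.1)) ?_
    have := conj_mem_of_mem_normalizer (normalizer_le_normalizer_centralizer E (hN h.1)) h3
    convert this using 1; group
  · refine rn_of_cen h1 (N.mul_mem (N.mul_mem (N.inv_mem h.1) h2.1) h.1) ?_
    convert inv_mem h3 using 1; group

theorem card_le_of [Finite G] {A : Subgroup G} (C I : List ℕ) (h1 : ∀ a ∈ A, ∃ c ∈ C, RN N F a c)
    (h2 : ∀ a ∈ A, a ∈ cen E → ∃ i ∈ I, a = F.v i) : Nat.card A ≤ C.length * I.length := by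
  classical
  have : ∀ c, ∃ r, (∃ a ∈ A, RN N F a c) → r ∈ A ∧ RN N F r c := fun c => by
    by_cases h : ∃ a ∈ A, RN N F a c
    · exact ⟨h.choose, fun _ => h.choose_spec⟩
    · exact ⟨1, fun e => (h e).elim⟩
  choose r hr using this
  have h3 : (A : Set G) ⊆ ((C.toFinset ×ˢ I.toFinset).image fun p => r p.1 * F.v p.2 : Finset G) := by
    intro a ha
    obtain ⟨c, hc, h4⟩ := h1 a ha
    obtain ⟨h5, h6⟩ := hr c ⟨a, ha, h4⟩
    obtain ⟨i, hi, h7⟩ := h2 _ (A.mul_mem (A.inv_mem h5) ha) (h4.cen h6)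
    exact Finset.mem_coe.2 (Finset.mem_image.2 ⟨(c, i), by simp [hc, hi], by rw [← h7]; group⟩)
  calc Nat.card A = (A : Set G).ncard := rfl
    _ ≤ _ := Set.ncard_le_ncard h3
    _ ≤ _ := by
      rw [Set.ncard_coe_finset]
      refine Finset.card_image_le.trans ?_
      rw [Finset.card_product]
      exact Nat.mul_le_mul (List.toFinset_card_le _) (List.toFinset_card_le _)

end RN

variable [Finite G] {L E E' : Subgroup G}

theorem AT.card_aut (h : AT L E E') : Nat.card (autOf (L ⊓ nor E) E) = 2520 := by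
  have h1 : Nat.card (autOf (L ⊓ nor E) E) ∣ 20160 :=
    A7.card_aut (V := E) (fun x => Subtype.ext (h.el x x.2)) h.card ▸ card_subgroup_dvd_card _
  rw [card_autOf inf_le_right] at h1 ⊢
  obtain ⟨k, hk⟩ := h.aut
  have h2 : 16 * (2520 * k) ∣ Nat.card L := by
    refine Dvd.dvd.trans ?_ (card_dvd_of_le (inf_le_left : L ⊓ nor E ≤ L))
    rw [← H99.card_inf_mul_relIndex (L ⊓ nor E) (cen E), hk]
    exact Nat.mul_dvd_mul_right (h.card ▸ card_dvd_of_le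
      (le_inf (le_inf h.EL le_normalizer) h.el.le_cen)) _
  rw [hk] at h1 ⊢
  have h3 : k ∣ 8 := Nat.dvd_of_mul_dvd_mul_left (by norm_num : 0 < 2520) h1
  have h4 : ¬ 2 ∣ k := by
    rintro ⟨j, rfl⟩
    exact h.o2 (Dvd.dvd.trans ⟨315 * j, by ring⟩ h2)
  have := Nat.le_of_dvd (by norm_num) h3
  interval_cases k <;> omega

theorem AT.two_mem (h : AT L E E') {x : G} (hx : x ∈ L) (hc : x ∈ cen E) {k : ℕ}
    (h2 : x ^ 2 ^ k = 1) : x ∈ E := by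
  obtain ⟨e, he, h1⟩ := h.cenE x hx hc
  have e1 : x = x * e * e := by rw [mul_assoc, h.el e he, mul_one]
  rw [e1] at h2 ⊢
  exact zpowers_le.2 he (pow_mem_of_odd h.odd ⟨L.mul_mem hx (h.EL he), h1⟩
    (mem_cen.1 h1 e (h.EL he)).symm h2)

theorem AT.sq_mem (h : AT L E E') {x : G} (hx : x ∈ L) (hc : x ∈ cen E) (h2 : x * x = 1) : x ∈ E :=
  h.two_mem hx hc (k := 1) (by rwa [pow_one, pow_two])

theorem AT.EN (h : AT L E E') : E ≤ L ⊓ nor E := le_inf h.EL le_normalizer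

theorem AT.E'N (h : AT L E E') : E' ≤ L ⊓ nor E := fun x hx =>
  ⟨h.E'L hx, h.cenU x (h.E'L hx) (centralizer_anti inf_le_right (h.el'.le_cen hx))⟩

/-- the same with a frame of `E`. -/
structure AF (L E E' : Subgroup G) (F : Fr E 4 15) : Prop extends AT L E E' where
  std : Std F (autOf (L ⊓ nor E) E)
  h7 : (F.v 7 : G) ∈ E'
  h1 : (F.v 1 : G) ∈ E'

theorem AT.frame (h : AT L E E') {x : G} (hx : x ∈ E ⊓ E') (h1 : x ≠ 1) :
    ∃ F, AF L E E' F ∧ (F.v 7 : G) = x := by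
  obtain ⟨F, hF⟩ := exists_std (fun x => Subtype.ext (h.el x x.2)) h.card h.card_aut
  obtain ⟨y, hy, h2, h3⟩ : ∃ y ∈ E ⊓ E', y ≠ 1 ∧ x ≠ y := by
    obtain ⟨a, ha, b, hb, h2, h3, h4⟩ := h.exU
    by_cases e : x = a
    · exact ⟨b, hb, h3, e ▸ h4⟩
    · exact ⟨a, ha, h2, e⟩
  obtain ⟨n, hn, h4, h5⟩ := hF.two hx.1 hy.1 h1 h2 h3
  obtain ⟨α, hα⟩ := exists_aut hn.2
  have h6 : ((F.map α).v 7 : G) = x := (hα _).trans h4
  have h7 : ((F.map α).v 1 : G) = y := (hα _).trans h5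
  exact ⟨F.map α, ⟨h, hF.map ⟨n, hn, hα⟩, h6 ▸ hx.2, h7 ▸ hy.2⟩, h6⟩

namespace AF

variable {F : Fr E 4 15} (h : AF L E E' F)
include h

local notation "R" => RN (L ⊓ nor E) F

theorem code {n : G} (hn : n ∈ L ⊓ nor E) : ∃ c ∈ LA, R n c := h.std.rn_code inf_le_right hn

theorem ne_one {x : G} {c : ℕ} (hx : R x c) (h2 : x * x = 1) (hE : x ∉ E) : c ≠ 33825 := by
  rintro rfl
  exact hE (h.sq_mem hx.1.1 (rn_cen hx) h2)

theorem codeU {x : G} (hx : x ∈ L ⊓ nor E) (h7 : x * F.v 7 = F.v 7 * x)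
    (h1 : x * F.v 1 = F.v 1 * x) : ∃ c, R x c ∧
      (c ∈ LV ∨ (m4 c (m4 c c) = 33825 ∧ ∀ v ∈ LV, m4 c v = m4 v c → v = 33825)) := by
  obtain ⟨c, hc, h2⟩ := h.code hx
  exact ⟨c, h2, fixU c (stabA hc ((rn_fix h2 (by norm_num)).1 h7)) ((rn_fix h2 (by norm_num)).1 h1)⟩

theorem codeV {x : G} (hx : x ∈ L ⊓ nor E) (h7 : x * F.v 7 = F.v 7 * x)
    (h1 : x * F.v 1 = F.v 1 * x) (h2 : x * x = 1) : ∃ c ∈ LV, R x c := by
  obtain ⟨c, h3, h4 | ⟨h4, -⟩⟩ := h.codeU hx h7 h1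
  · exact ⟨c, h4, h3⟩
  · have := h3.mul (h3.mul h3)
    rw [h4, h2, mul_one] at this
    exact ⟨_, by simp [LV], this⟩

theorem codeE' {x : G} (hx : x ∈ E') : ∃ c ∈ LV, R x c :=
  h.codeV (h.E'N hx) (h.el'.comm hx h.h7) (h.el'.comm hx h.h1) (h.el' x hx)

theorem vU {i : ℕ} (hi : i ∈ [0, 1, 6, 7]) : (F.v i : G) ∈ E' := by
  simp only [List.mem_cons, List.not_mem_nil, or_false] at hi
  rcases hi with rfl | rfl | rfl | rfl
  · exact v_zero (F := F) ▸ one_mem _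
  · exact h.h1
  · exact v_mul (F := F) 7 1 ▸ mul_mem h.h7 h.h1
  · exact h.h7

theorem fixU' {x e : G} {c : ℕ} (hx : R x c) (hc : c ∈ LV) (h1 : c ≠ 33825) (he : e ∈ E)
    (h2 : x * e = e * x) : ∃ i ∈ [0, 1, 6, 7], e = F.v i := by
  obtain ⟨i, hi, rfl⟩ := v_sur F he
  exact ⟨i, fixV c hc h1 i hi ((rn_fix hx hi).1 h2), rfl⟩

theorem fixE' {x e : G} (hx : x ∈ E') (hE : x ∉ E) (he : e ∈ E) (h2 : x * e = e * x) :
    ∃ i ∈ [0, 1, 6, 7], e = F.v i := by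
  obtain ⟨c, hc, h3⟩ := h.codeE' hx
  exact h.fixU' h3 hc (h.ne_one h3 (h.el' x hx) hE) he h2

theorem memU {e : G} (he : e ∈ E ⊓ E') : ∃ i ∈ [0, 1, 6, 7], e = F.v i := by
  obtain ⟨a, ha, -, -, h1, -⟩ := h.exV
  exact h.fixE' ha h1 he.1 (h.el'.comm ha he.2)

theorem norU {x : G} (hx : x ∈ L) (h7 : x * F.v 7 = F.v 7 * x) (h1 : x * F.v 1 = F.v 1 * x) :
    x ∈ L ⊓ nor E := by
  refine ⟨hx, h.cenU x hx (mem_cen.2 fun e he => ?_)⟩
  obtain ⟨i, hi, rfl⟩ := h.memU he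
  simp only [List.mem_cons, List.not_mem_nil, or_false] at hi
  rcases hi with rfl | rfl | rfl | rfl
  · rw [v_zero, one_mul, mul_one]
  · exact h1.symm
  · rw [show 6 = 7 ^^^ 1 from rfl, v_mul, mul_assoc, ← h1, ← mul_assoc, ← h7, mul_assoc]
  · exact h7.symm

theorem realV {c : ℕ} (hc : c ∈ LV) : ∃ f ∈ E', R f c := by
  obtain ⟨a, ha, b, hb, h1, h2, h3⟩ := h.exV
  obtain ⟨p, hp, h4⟩ := h.codeE' ha
  obtain ⟨q, hq, h5⟩ := h.codeE' hb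
  rcases allV p hp q hq (h.ne_one h4 (h.el' a ha) h1) (h.ne_one h5 (h.el' b hb) h2)
    (h.ne_one (h4.mul h5) (h.el' _ (mul_mem ha hb)) h3) c hc with rfl | rfl | rfl | rfl
  exacts [⟨1, one_mem _, rn_one⟩, ⟨a, ha, h4⟩, ⟨b, hb, h5⟩, ⟨_, mul_mem ha hb, h4.mul h5⟩]

theorem inE' {x : G} {c : ℕ} (hx : R x c) (hc : c ∈ LV) (h2 : x * x = 1) (hE : x ∉ E) : x ∈ E' := by
  obtain ⟨f, hf, h3⟩ := h.realV hc
  obtain ⟨e, he, h4⟩ := h.cenE _ (mul_mem (inv_mem h3.1.1) hx.1.1) (hx.cen h3)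
  have h5 : f⁻¹ * x * e ∈ L := mul_mem (mul_mem (inv_mem h3.1.1) hx.1.1) (h.EL he)
  generalize hz : f⁻¹ * x * e = z at h4 h5
  have ee := h.el e he
  have ff := h.el' f hf
  obtain rfl : x = z * (f * e) := by
    rw [← mul_assoc, ← mem_cen.1 h4 f h3.1.1, ← hz, mul_assoc, mul_assoc, ee]; group
  have h6 : z * z * (f * e * f⁻¹ * e) = 1 := by
    rw [← h2, inv_of_sq ff]
    calc _ = z * (z * (f * e)) * (f * e) := by group
      _ = z * (f * e * z) * (f * e) := by rw [← mem_cen.1 h4 _ (mul_mem h3.1.1 (h.EL he))]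
      _ = _ := by group
  have h7 : f * e * f⁻¹ * e ∈ E := mul_mem (conj_mem_of_mem_normalizer h3.1.2 he) he
  obtain rfl : z = 1 := one_of_odd (odd_of_mem h.odd ⟨h5, h4⟩) (k := 2) (by
    rw [show z ^ 2 ^ 2 = z * z * (z * z) by
        rw [show 2 ^ 2 = 4 from rfl]; simp only [pow_succ, pow_zero, one_mul, mul_assoc],
      eq_inv_of_mul_eq_one_left h6]
    exact h.el _ (inv_mem h7))
  rw [one_mul] at h6 h6 ⊢
  obtain ⟨i, hi, rfl⟩ := h.fixU' h3 hc (h.ne_one hx h2 hE) he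
    (comm_of_cj (by rw [eq_inv_of_mul_eq_one_left h6, inv_of_sq ee]))
  exact mul_mem hf (h.vU hi)

theorem cU2 {x : G} (hx : x ∈ L) (h7 : x * F.v 7 = F.v 7 * x) (h1 : x * F.v 1 = F.v 1 * x)
    (h2 : x * x = 1) : x ∈ E ∨ x ∈ E' := by
  obtain ⟨c, hc, h3⟩ := h.codeV (h.norU hx h7 h1) h7 h1 h2
  exact or_iff_not_imp_left.2 (h.inE' h3 hc h2)

theorem norE' {b : G} {c : ℕ} (hb : R b c) (h7 : ap 4 15 c 7 ∈ [0, 1, 6, 7])
    (h1 : ap 4 15 c 1 ∈ [0, 1, 6, 7]) : b ∈ nor E' := by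
  have h2 : b ∈ nor (E ⊓ E') := mem_normalizer_of_cj_le (by
    rintro _ ⟨e, he, rfl⟩
    refine ⟨conj_mem_of_mem_normalizer hb.1.2 he.1, ?_⟩
    obtain ⟨i, hi, rfl⟩ := h.memU he
    have a7 := hb.act (by norm_num : 7 < 16) ▸ h.vU h7
    have a1 := hb.act (by norm_num : 1 < 16) ▸ h.vU h1
    simp only [List.mem_cons, List.not_mem_nil, or_false] at hi
    rcases hi with rfl | rfl | rfl | rfl
    · rw [v_zero, map_one]; exact one_mem _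
    · exact a1
    · rw [show 6 = 7 ^^^ 1 from rfl, v_mul, map_mul]; exact mul_mem a7 a1
    · exact a7)
  refine mem_normalizer_of_cj_le ?_
  rintro _ ⟨x, hx, rfl⟩
  have h3 : ∀ u ∈ E ⊓ E', b * x * b⁻¹ * u = u * (b * x * b⁻¹) := fun u hu => by
    have := h.el'.comm hx (conj_mem_of_mem_normalizer' h2 hu).2
    calc _ = b * (x * (b⁻¹ * u * b)) * b⁻¹ := by group
      _ = _ := by rw [this]; group
  rcases h.cU2 (mul_mem (mul_mem hb.1.1 (h.E'L hx)) (inv_mem hb.1.1)) (h3 _ ⟨(F.v 7).2, h.h7⟩)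
    (h3 _ ⟨(F.v 1).2, h.h1⟩) (by rw [conj_mul, h.el' x hx, mul_one, mul_inv_cancel]) with h4 | h4
  · have := conj_mem_of_mem_normalizer' hb.1.2 h4
    rw [show b⁻¹ * (b * x * b⁻¹) * b = x by group] at this
    exact (conj_mem_of_mem_normalizer h2 (x := x) ⟨this, hx⟩).2
  · exact h4

theorem norD' {b : G} {c : ℕ} (hb : R b c) (hc : c ∈ LD) : b ∈ nor E' :=
  h.norE' hb (by simp [(actD c hc).1]) (by rcases (actD c hc).2 with e | e <;> simp [e])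

theorem card_E' : Nat.card E' ≤ 16 :=
  card_le_of LV [0, 1, 6, 7] (fun _ => h.codeE') fun a ha hc =>
    h.memU ⟨h.sq_mem (h.E'L ha) hc (h.el' a ha), ha⟩

theorem om : ∃ w, R w 19671 ∧ w ∈ nor E' := by
  obtain ⟨w, hw⟩ := h.std.rn (mem_LA' (c := 19671) (by simp))
  exact ⟨w, hw, h.norE' hw (by decide +kernel) (by decide +kernel)⟩

theorem exl7 : ∃ f ∈ E', f ∉ E ∧ ∃ l ∈ L ⊓ nor E', l * f * l⁻¹ = F.v 7 := by
  obtain ⟨l, hl, f, hf, h1, h2⟩ := h.exl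
  obtain ⟨w, hw, hw'⟩ := h.om
  obtain ⟨i, hi, h3⟩ := h.memU ⟨h2, conj_mem_of_mem_normalizer hl.2 hf⟩
  have hw2 : w ∈ L ⊓ nor E' := ⟨hw.1.1, hw'⟩
  refine ⟨f, hf, h1, ?_⟩
  simp only [List.mem_cons, List.not_mem_nil, or_false] at hi
  rcases hi with rfl | rfl | rfl | rfl
  · rw [v_zero, conj_eq_one_iff] at h3
    exact (h1 (h3 ▸ one_mem _)).elim
  · refine ⟨_, mul_mem hw2 hl, ?_⟩
    rw [show (7 : ℕ) = ap 4 15 19671 1 by decide +kernel, ← hw.act (by norm_num), ← h3]; group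
  · refine ⟨_, mul_mem (mul_mem hw2 hw2) hl, ?_⟩
    rw [show (7 : ℕ) = ap 4 15 (m4 19671 19671) 6 by decide +kernel, ← (hw.mul hw).act (by norm_num),
      ← h3]; group
  · exact ⟨l, hl, h3⟩

theorem fuse {f x : G} (hf : f ∈ E') (hE : f ∉ E) (hx : x ∈ L ⊓ nor E) (h2 : x * x = 1)
    (hc : f⁻¹ * x ∈ cen E) : x ∈ E' ∧ ∃ e ∈ E, e * f * e⁻¹ = x := by
  obtain ⟨c, h3, h4⟩ := h.codeE' hf
  have ff := h.el' f hf
  have h5 := h.inE' (rn_of_cen h4 hx hc) h3 h2 fun e => hE (h.sq_mem (h.E'L hf) (by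
    simpa using inv_mem (mul_mem hc (inv_mem (h.el.le_cen e)))) ff)
  have h6 := mul_mem (inv_mem hf) h5
  obtain ⟨j, hj, h7⟩ := h.memU ⟨h.sq_mem (h.E'L h6) hc (h.el' _ h6), h6⟩
  obtain ⟨i, hi, rfl⟩ := imV c h3 (h.ne_one h4 ff hE) j hj
  refine ⟨h5, F.v i, (F.v i).2, ?_⟩
  rw [v_mul, ← h4.act hi, h.el.comm (F.v i).2 (conj_mem_of_mem_normalizer h4.1.2 (F.v i).2),
    inv_mul_eq_iff_eq_mul] at h7
  rw [h7, inv_of_sq (h.el _ (F.v i).2), ← mul_assoc, ← mul_assoc, ← mul_assoc, ff, one_mul,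
    inv_of_sq ff]

theorem to8580 {s : G} (hs : s ∈ L ⊓ nor E) (h2 : s * s ∈ cen E) (h1 : s ∉ cen E) :
    ∃ n ∈ L ⊓ nor E, R (n⁻¹ * s * n) 8580 := by
  obtain ⟨t, ht, h3⟩ := h.code hs
  rcases involA ht (rn_uniq (h3.mul h3) (rn_of_cen1 (mul_mem hs hs) h2) (m4_lt F _ _)
    (by norm_num)) with rfl | ⟨k, hk, h4⟩
  · exact (h1 (rn_cen h3)).elim
  · obtain ⟨n, hn⟩ := h.std.rn hk
    obtain ⟨m, hm⟩ := h.std.rn (mem_LA (c := 8580) (by simp [LC]))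
    exact ⟨n, hn.1, (rn_cj inf_le_right hn hm h3 h4).2⟩

theorem invConj {s f : G} (hs : s ∈ L ⊓ nor E) (h2 : s * s ∈ cen E) (h1 : s ∉ cen E)
    (hf : f ∈ L ⊓ nor E) (h4 : f * f ∈ cen E) (h3 : f ∉ cen E) :
    ∃ n ∈ L ⊓ nor E, f⁻¹ * (n * s * n⁻¹) ∈ cen E := by
  obtain ⟨n, hn, h5⟩ := h.to8580 hs h2 h1
  obtain ⟨m, hm, h6⟩ := h.to8580 hf h4 h3
  refine ⟨_, mul_mem hm (inv_mem hn), ?_⟩
  have := conj_mem_of_mem_normalizer (normalizer_le_normalizer_centralizer E hm.2) (h5.cen h6)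
  convert this using 1; group

theorem chain {s : G} (hs : s ∈ L ⊓ nor E) (h2 : s * s = 1) : ∃ c ∈ L ⊓ nor E, c * s * c⁻¹ ∈ E ∨
    (c * s * c⁻¹ ∈ E' ∧ ∃ d ∈ L ⊓ nor E', d * (c * s * c⁻¹) * d⁻¹ ∈ E) := by
  by_cases hE : s ∈ E
  · exact ⟨1, one_mem _, .inl (by simpa using hE)⟩
  obtain ⟨f, hf, h1, l, hl, h3⟩ := h.exl7
  obtain ⟨n, hn, h4⟩ := h.invConj hs (h2 ▸ one_mem _) (fun e => hE (h.sq_mem hs.1 e h2)) (h.E'N hf)
    (h.el' f hf ▸ one_mem _) fun e => h1 (h.sq_mem (h.E'L hf) e (h.el' f hf))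
  obtain ⟨h5, e, he, h6⟩ := h.fuse hf h1 (mul_mem (mul_mem hn hs) (inv_mem hn))
    (by rw [conj_mul, h2, mul_one, mul_inv_cancel]) h4
  refine ⟨n, hn, .inr ⟨h5, l * e⁻¹, mul_mem hl (inv_mem ⟨h.EL he, h.norD' (rn_of_cen1 (h.EN he)
    (h.el.le_cen he)) (by simp [LD])⟩), ?_⟩⟩
  rw [← h6, show l * e⁻¹ * (e * f * e⁻¹) * (l * e⁻¹)⁻¹ = l * f * l⁻¹ by group, h3]
  exact (F.v 7).2

theorem simp {K : Subgroup G} (hK : K ≤ L ⊓ nor E) (hn : L ⊓ nor E ≤ nor K) :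
    K ≤ cen E ∨ L ⊓ nor E ≤ K ⊔ (L ⊓ cen E) := by
  refine or_iff_not_imp_left.2 fun h0 => ?_
  obtain ⟨k, hk, h1⟩ := SetLike.not_le_iff_exists.1 h0
  have hn' : L ⊓ nor E ≤ nor (K ⊔ (L ⊓ cen E)) := le_normalizer_sup hn (le_normalizer_inf
    (le_normalizer_of_le inf_le_left) (le_normalizer_centralizer inf_le_right))
  have hc : L ⊓ cen E ≤ K ⊔ (L ⊓ cen E) := le_sup_right
  have hk' : k ∈ K ⊔ (L ⊓ cen E) := mem_sup_left hk
  generalize K ⊔ (L ⊓ cen E) = M at hn' hc hk'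
  let P : ℕ → Prop := fun c => ∃ n ∈ M, R n c
  have Pm : ∀ a b, P a → P b → P (m4 a b) := fun a b ⟨x, hx, h⟩ ⟨y, hy, h'⟩ =>
    ⟨_, mul_mem hx hy, h.mul h'⟩
  have Pa : ∀ {n c}, P c → R n c → n ∈ M := fun ⟨m, hm, h1⟩ h2 => by
    simpa using mul_mem hm (hc ⟨L.mul_mem (L.inv_mem h1.1.1) h2.1.1, h2.cen h1⟩)
  obtain ⟨c, hc1, hc2⟩ := h.code (hK hk)
  obtain ⟨p, hp, h2⟩ := simpA hc1 (by rintro rfl; exact h1 (rn_cen hc2))
  obtain ⟨g, hg⟩ := h.std.rn (mem_LA' (c := p.1) (List.mem_append_left _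
    (List.mem_append_right _ (List.mem_map_of_mem hp))))
  obtain ⟨a, b, ⟨s, hs, h3⟩, h4, h5⟩ := ev_spec Pm ⟨_, mul_mem hk' (conj_mem_of_mem_normalizer
    (hn' hg.1) hk'), hc2.mul ((hg.mul hc2).mul (rn_inv hg (invG0 p hp)))⟩ h2
  have Pi : ∀ t ∈ LA, t ≠ 33825 → m4 t t = 33825 → P t := fun t ht t1 t2 => by
    obtain ⟨f, hf⟩ := h.std.rn ht
    obtain ⟨n, hn, h6⟩ := h.invConj h3.1 (rn_cen (h5 ▸ h3.mul h3)) (fun e => h4 (rn_uniq h3
      (rn_of_cen1 h3.1 e) (m4_lt F _ _) (by norm_num))) hf.1 (rn_cen (t2 ▸ hf.mul hf))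
      fun e => t1 (rn_uniq hf (rn_of_cen1 hf.1 e) (lt_of_mem ht) (by norm_num))
    exact ⟨_, conj_mem_of_mem_normalizer (hn' hn) hs,
      rn_of_cen hf (mul_mem (mul_mem hn h3.1) (inv_mem hn)) h6⟩
  have Px : P 4764 := (by decide +kernel : m4 28538 (m4 62017 47070) = 4764) ▸
    Pm _ _ (Pi _ (mem_LA' (by simp)) (by norm_num) (by decide +kernel))
      (Pm _ _ (Pi _ (mem_LA' (by simp [LD])) (by norm_num) (by decide +kernel))
        (Pi _ (mem_LA' (by simp)) (by norm_num) (by decide +kernel)))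
  have Py : P 4713 := (by decide +kernel : m4 38369 7864 = 4713) ▸
    Pm _ _ (Pi _ (mem_LA' (by simp)) (by norm_num) (by decide +kernel))
      (Pi _ (mem_LA' (by simp)) (by norm_num) (by decide +kernel))
  have P1 : P 33825 := ⟨1, one_mem _, rn_one⟩
  have hall := (bfs_sound (P := P) (fun c => Pm _ c Px) (fun c => Pm _ c Py) bfsA fun c hc =>
    bit_shift hc ▸ P1).1
  intro n hn
  obtain ⟨d, hd, h6⟩ := h.code hn
  rcases List.mem_cons.1 hd with rfl | hd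
  exacts [Pa P1 h6, Pa (hall d hd).1 h6]

end AF

end H77.Wr
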