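/- The rank three action of `Co₂` on 2300 points. -/
import Cfsg.Agent.H41.C2Spec
import Cfsg.Agent.H77.IsoU62
import Cfsg.Agent.H77.Simple

set_option autoImplicit false

universe u

namespace H77

open Cfsg MulAction
open scoped Pointwise

theorem ncard_two {α β : Type*} {X : Set α} (hX : X.Finite) (f : α → β) (σ : α → α)
    (h1 : ∀ x ∈ X, σ x ∈ X ∧ x ≠ σ x) (h2 : ∀ x y, f y = f x ↔ y = x ∨ y = σ x) :
    X.ncard = 2 * (f '' X).ncard := by
  classical
  lift X to Finset α using hX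
  rw [← Finset.coe_image, Set.ncard_coe_finset, Set.ncard_coe_finset,
    Finset.card_eq_sum_card_image f, mul_comm, ← smul_eq_mul]
  refine Finset.sum_eq_card_nsmul fun b hb => ?_
  obtain ⟨x, hx, rfl⟩ := Finset.mem_image.1 hb
  rw [← Finset.card_pair (h1 x hx).2]
  congr 1
  ext y
  simp only [Finset.mem_filter, h2, Finset.mem_insert, Finset.mem_singleton, and_iff_right_iff_imp]
  rintro (rfl | rfl)
  exacts [hx, (h1 x hx).1]

theorem coatom_of_rank3 {G : Type*} [Group G] [Finite G] {H : Subgroup G} (h : H.index = 2300)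
    {q₁ q₂ : G ⧸ H} (h1 : (orbit H q₁).ncard = 891) (h2 : (orbit H q₂).ncard = 1408) :
    IsCoatom H := by
  have o : ∀ q : G ⧸ H, ((1 : G) : G ⧸ H) ∈ orbit H q → (orbit H q).ncard = 1 := fun q hq => by
    rw [← orbit_eq_iff.2 hq, Set.ncard_eq_one]
    refine ⟨((1 : G) : G ⧸ H), Set.eq_singleton_iff_unique_mem.2 ⟨mem_orbit_self _, ?_⟩⟩
    rintro _ ⟨k, rfl⟩
    exact QuotientGroup.eq.2 (by simp)
  have n1 : ((1 : G) : G ⧸ H) ∉ orbit H q₁ := fun e => by have := o _ e; omega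
  have n2 : ((1 : G) : G ⧸ H) ∉ orbit H q₂ := fun e => by have := o _ e; omega
  have c1 : (insert ((1 : G) : G ⧸ H) (orbit H q₁)).ncard = 892 := by
    rw [Set.ncard_insert_of_notMem n1, h1]
  have all : insert ((1 : G) : G ⧸ H) (orbit H q₁) ∪ orbit H q₂ = Set.univ := by
    refine Set.eq_of_subset_of_ncard_le (Set.subset_univ _) ?_
    rw [Set.ncard_union_eq (Set.disjoint_left.2 ?_), c1, h2, Set.ncard_univ]
    · exact h.le
    · rintro q (rfl | hq) hq'
      · exact n2 hq'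
      · rw [← orbit_eq_iff.2 hq, orbit_eq_iff.2 hq'] at h1
        omega
  refine ⟨fun e => by simp [e] at h, fun M hM => ?_⟩
  have b : (orbit M ((1 : G) : G ⧸ H)).ncard = H.relIndex M := by
    rw [← index_stabilizer, Subgroup.relIndex]
    congr 1
    ext k
    exact (QuotientGroup.eq (s := H) (a := (k : G) * 1) (b := 1)).trans (by
      simp [Subgroup.mem_subgroupOf])
  have d := Subgroup.relIndex_mul_index hM.le
  have s : ∀ q q' : G ⧸ H, q' ∈ orbit H q → q' ∈ orbit M ((1 : G) : G ⧸ H) →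
      orbit H q ⊆ orbit M ((1 : G) : G ⧸ H) := fun q q' a b => by
    rw [← orbit_eq_iff.2 a, ← orbit_eq_iff.2 b]
    rintro _ ⟨k, rfl⟩
    exact ⟨⟨k, hM.le k.2⟩, rfl⟩
  rw [h, ← b] at d
  by_cases e : ∃ q ∈ orbit H q₂, q ∈ orbit M ((1 : G) : G ⧸ H)
  · obtain ⟨q, a, b⟩ := e
    have := Set.ncard_le_ncard (s _ _ a b)
    rw [h2] at this
    refine Subgroup.index_eq_one.1 ?_
    generalize M.index = i at d
    rcases i with _ | _ | i
    · omega
    · rfl
    · nlinarith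
  obtain ⟨g, g1, g2⟩ := SetLike.exists_of_lt hM
  have t : orbit M ((1 : G) : G ⧸ H) ⊆ insert ((1 : G) : G ⧸ H) (orbit H q₁) := fun q hq =>
    ((Set.mem_union _ _ _).1 (all ▸ Set.mem_univ q)).resolve_right fun a => e ⟨q, a, hq⟩
  have m := mem_orbit ((1 : G) : G ⧸ H) (⟨g, g1⟩ : M)
  have := (t m).resolve_left fun a => g2 (by
    simpa using (QuotientGroup.eq (s := H) (a := g * 1) (b := 1)).1 a)
  rw [t.antisymm (Set.insert_subset (mem_orbit_self _) (s _ _ this m)), c1] at d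
  omega

theorem rank3_of {G α : Type*} [Group G] [Finite G] [MulAction G α] {ω ω₁ ω₂ : α}
    (h : (orbit G ω).ncard = 2300) (m1 : ω₁ ∈ orbit G ω) (m2 : ω₂ ∈ orbit G ω)
    (h1 : (orbit (stabilizer G ω) ω₁).ncard = 891) (h2 : (orbit (stabilizer G ω) ω₂).ncard = 1408) :
    ∃ H : Subgroup G, IsCoatom H ∧ H.index = 2300 ∧ ∃ q₁ q₂ : G ⧸ H,
      (orbit H q₁).ncard = 891 ∧ (orbit H q₂).ncard = 1408 := by
  have k : ∀ g : G, (orbit (stabilizer G ω) (g : G ⧸ stabilizer G ω)).ncard =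
      (orbit (stabilizer G ω) (g • ω)).ncard := fun g => by
    rw [← Set.ncard_image_of_injective _ (injective_ofQuotientStabilizer G ω), orbit,
      ← Set.range_comp]
    exact congrArg _ (congrArg _ (funext fun k => ofQuotientStabilizer_smul G ω k g))
  obtain ⟨g₁, rfl⟩ := m1
  obtain ⟨g₂, rfl⟩ := m2
  rw [← index_stabilizer] at h
  exact ⟨_, coatom_of_rank3 h ((k g₁).trans h1) ((k g₂).trans h2), h, _, _, (k g₁).trans h1,
    (k g₂).trans h2⟩

/-- the pair `{x, U - x}`. -/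
def prU (x : leechLattice) : Set leechLattice := {x, vU - x}

theorem prU_eq (x y : leechLattice) : prU y = prU x ↔ y = x ∨ y = vU - x := by
  refine ⟨fun h => show y ∈ prU x from h ▸ Set.mem_insert _ _, ?_⟩
  rintro (rfl | rfl)
  · rfl
  · rw [prU, sub_sub_cancel, Set.pair_comm, prU]

theorem smul_prU {g : Co0} (h : g • vU = vU) (x : leechLattice) : g • prU x = prU (g • x) := by
  rw [prU, Set.smul_set_insert, Set.smul_set_singleton, smul_sub_co0, h, prU]

theorem sub_mem_S1 {x : leechLattice} (h : x ∈ S1 vU 16) : vU - x ∈ S1 vU 16 ∧ x ≠ vU - x := by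
  have h1 := nm_U
  obtain ⟨h2, h3⟩ := mem_S1.1 h
  refine ⟨mem_S1.2 ⟨by rw [nm_sub]; omega, by rw [dt_sub_right, dt_self]; omega⟩, fun e => ?_⟩
  have := congrArg (dt x) e
  rw [dt_sub_right, dt_self, dt_comm] at this
  omega

theorem jobR3 : H41.C2.JobR3.{u} := by
  intro G _ _ ⟨e₀⟩
  let e := e₀.trans co2Equiv.symm
  let _ : MulAction G (Set leechLattice) :=
    MulAction.compHom _ ((St1 vU).subtype.comp e.toMonoidHom)
  have a : ∀ (g : G) x, g • prU x = prU ((e g : Co0) • x) := fun g x => smul_prU (e g).2 x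
  have k0 := co2_census.1.2.1
  obtain ⟨⟨-, k1, k2, -⟩, -⟩ := u62_4600
  have hX : vX ∈ S1 vU 16 := ⟨nm_X, dt_UX⟩
  have o0 : orbit G (prU vX) = prU '' S1 vU 16 := by
    ext s
    constructor
    · rintro ⟨g, rfl⟩
      exact ⟨_, k0.smul_mem hX (e g).2, (a g _).symm⟩
    · rintro ⟨y, hy, rfl⟩
      obtain ⟨g, hg, rfl⟩ := k0.trans hX hy
      exact ⟨e.symm ⟨g, hg⟩, (a _ _).trans (by rw [e.apply_symm_apply])⟩
  have o : ∀ {i : ℤ} {n : ℕ}, IsOrb (St2 vU vX) (S2 vU 16 vX i) n → ∀ x ∈ S2 vU 16 vX i,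
      orbit (stabilizer G (prU vX)) (prU x) = prU '' S2 vU 16 vX i := fun {i n} k x hx => by
    ext s
    constructor
    · rintro ⟨⟨g, hg⟩, rfl⟩
      have h1 := k0.smul_mem hx.1 (e g).2
      have h2 := (dt_smul (e g) vX x).trans hx.2
      rcases (prU_eq _ _).1 ((a g _).symm.trans hg) with h | h <;> rw [h] at h2
      · exact ⟨_, ⟨h1, h2⟩, (a g _).symm⟩
      · refine ⟨vU - (e g : Co0) • x, ⟨(sub_mem_S1 h1).1, ?_⟩,
          ((prU_eq _ _).2 (.inr rfl)).trans (a g _).symm⟩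
        have h3 : dt vU _ = 16 := h1.2
        rw [dt_sub_left] at h2
        rw [dt_sub_right, dt_comm vX vU, dt_UX]
        omega
    · rintro ⟨y, hy, rfl⟩
      obtain ⟨g, hg, rfl⟩ := k.trans hx hy
      exact ⟨⟨e.symm ⟨g, hg.1⟩, (a _ _).trans (by rw [e.apply_symm_apply]; exact congrArg _ hg.2)⟩,
        (a _ _).trans (by rw [e.apply_symm_apply])⟩
  obtain ⟨x₁, m1⟩ := k1.exists_mem
  obtain ⟨x₂, m2⟩ := k2.exists_mem
  refine rank3_of (ω := prU vX) (ω₁ := prU x₁) (ω₂ := prU x₂) ?_ (o0 ▸ ⟨_, m1.1, rfl⟩)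
    (o0 ▸ ⟨_, m2.1, rfl⟩) ?_ ?_
  · have := ncard_two (finite_S1 vU 16) prU (vU - ·) (fun _ => sub_mem_S1) prU_eq
    rw [k0.1, ← o0] at this
    omega
  · rw [o k1 _ m1, Set.InjOn.ncard_image, k1.1]
    intro x hx y hy h
    refine ((prU_eq _ _).1 h).resolve_right fun h => ?_
    have h1 : dt vX x = 16 := hx.2
    have h2 : dt vX y = 16 := hy.2
    rw [h, dt_sub_right, dt_comm vX vU, dt_UX] at h1
    omega
  · have := ncard_two (finite_S2 vU 16 vX 8) prU (vU - ·) (fun x hx => by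
      have h := sub_mem_S1 hx.1
      have h2 : dt vX x = 8 := hx.2
      refine ⟨⟨h.1, ?_⟩, h.2⟩
      rw [dt_sub_right, dt_comm vX vU, dt_UX]
      omega) prU_eq
    rw [k2.1, ← o k2 _ m2] at this
    omega

end H77
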