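import Cfsg.Agent.H48.DC4Spec

/-!
# DP0-MB (S3275): `Q ≤ L`
-/

set_option autoImplicit false

namespace H77.Dp0MB

open Subgroup Cfsg H98 H48.DP H57.DPC H48.DP2
open scoped commutatorElement

universe u

variable {G : Type u} [Group G] [Finite G]

omit [Finite G] in
theorem mul_mem_of_two {A B : Subgroup G} (h : A.relIndex B = 2) {a b : G} (ha : a ∈ B) (hb : b ∈ B)
    (na : a ∉ A) (nb : b ∉ A) : a * b ∈ A := by
  have := (mul_mem_iff_of_index_two (H := A.subgroupOf B) h (a := ⟨a, ha⟩) (b := ⟨b, hb⟩)).2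
    ⟨fun e => absurd e na, fun e => absurd e nb⟩
  exact this

omit [Finite G] in
theorem card_mul {A B : Subgroup G} (h : A ≤ B) : Nat.card A * A.relIndex B = Nat.card B := by
  rw [relIndex, ← card_mul_index (A.subgroupOf B), Nat.card_congr (subgroupOfEquivOfLe h).toEquiv]

omit [Finite G] in
theorem mem_No_sup {X : Subgroup G} {y s : G} (hy : y ∈ No X) (c : Commute s y) :
    y ∈ No (X ⊔ zpowers s) := by
  refine zpowers_le.1 (le_normalizer_sup (zpowers_le.2 hy) (le_normalizer_of_le_centralizer ?_))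
  refine zpowers_le.2 (mem_centralizer_iff.2 ?_)
  rintro _ ⟨k, rfl⟩
  exact (c.zpow_left k).eq

theorem jobMB : JMB.{u} := by
  intro bk gs ma G _ _ M Q J L W X y z u n n' l s ba vn wm su
  have : Fact (Nat.Prime 2) := ⟨Nat.prime_two⟩
  have no : No Q = M := ba.bd.no
  have q2 : IsPGroup 2 Q := ba.bd.o2 ▸ isPGroup_pCoreOf M
  have QM : Q ≤ M := no ▸ le_normalizer
  obtain ⟨P, PM, yP, zP, -⟩ := ba.bd.syl
  have yQ : y ∈ No Q := no ▸ PM yP
  have zQ : z ∈ No Q := no ▸ PM zP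
  have WJ : W ≤ J := fun w hw => (wm.le hw).1
  have sS : s ∈ X ⊔ zpowers s := mem_sup_right (mem_zpowers s)
  have sL : s ∈ L := (su.SL sS).1
  have xL : l * z * l⁻¹ ∈ L := mul_mem (mul_mem su.lL ba.lt.zL) (inv_mem su.lL)
  -- a maximal member of `XX` over `X`
  obtain ⟨Y, ⟨hY, XY⟩, mx⟩ := Finite.to_wellFoundedGT.wf.has_min
    {Y : Subgroup G | XX Y y (l * z * l⁻¹) s ∧ X ≤ Y} ⟨X, su.xx, le_rfl⟩
  have mx' : ∀ X' : Subgroup G, XX X' y (l * z * l⁻¹) s → Y ≤ X' → X' = Y := fun X' h1 h2 =>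
    (h2.eq_or_lt.resolve_right (mx X' ⟨h1, XY.trans h2⟩)).symm
  have g := gs G _ _ Y y _ _ s su.bd hY su.sx su.sy
    (fun h => su.out ((commutator_mono XY le_rfl).trans h)) mx'
  by_cases small : Nat.card ↥(Y ⊔ zpowers s) ≤ 128
  · exfalso
    have c1 := card_mul (su.JX.trans (le_sup_left : X ≤ X ⊔ zpowers s))
    have c2 : Nat.card ↥(X ⊔ zpowers s) ≤ Nat.card ↥(Y ⊔ zpowers s) :=
      card_le_of_le (sup_le_sup_right XY _)
    have c3 := card_mul WJ
    rw [su.idx] at c1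
    rw [wm.card] at c3
    have pos : 0 < Nat.card J := Nat.card_pos
    refine ba.lt.out (le_trans (fun t ht => ?_) (ba.lt.JQ.trans QM))
    refine bk G M Q J L W y z u n n' t ba wm ht (commutator_le.2 fun j hj k hk => ?_)
    have kL : k ∈ L := zpowers_le.2 ht hk
    have e : ⁅j, k⁆ = j * (k * j⁻¹ * k⁻¹) := by rw [commutatorElement_def]; group
    rw [e]
    by_cases jW : j ∈ W
    · exact mul_mem jW (conj_mem_of_mem_normalizer (wm.nor kL) (inv_mem jW))
    · have i1 : W.relIndex J ≠ 1 := fun h => jW (relIndex_eq_one.1 h hj)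
      refine mul_mem_of_two (by omega) hj (conj_mem_of_mem_normalizer (ba.lt.LN kL) (inv_mem hj)) jW
        fun h => jW ?_
      have := conj_mem_of_mem_normalizer' (wm.nor kL) h
      simpa [mul_assoc] using this
  -- `Q ≤ Y⟨s⟩` as soon as `Y⟨s⟩ ≤ M`
  have key : Y ⊔ zpowers s ≤ M → Q ≤ Y ⊔ zpowers s := fun h => by
    have p : IsPGroup 2 ↥(Q ⊔ (Y ⊔ zpowers s)) :=
      IsPGroup.to_sup_of_normal_left' q2 hY.2.2.2 (h.trans no.ge)
    have yn : y ∈ No (Q ⊔ (Y ⊔ zpowers s)) :=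
      zpowers_le.1 (le_normalizer_sup (zpowers_le.2 yQ) (zpowers_le.2 (mem_No_sup hY.1 su.sy)))
    exact le_sup_left.trans ((g _ p yn le_sup_right).resolve_right small).le
  rcases XY.eq_or_lt with rfl | lt
  · exact (key (su.SL.trans inf_le_right)).trans (su.SL.trans inf_le_left)
  obtain ⟨rfl, cen, c4⟩ := ma G M Q J L W X Y y z u n n' l s ba vn wm su hY lt
  have nW : n ∈ W ⊓ Ce X := by
    refine ⟨wm.mem, mem_centralizer_iff.2 fun a ha => ?_⟩
    have : a ∈ L ⊓ C1 n := wm.st ▸ su.SL (mem_sup_left ha)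
    exact mem_centralizer_singleton_iff.1 this.2
  have YM : Y ≤ M := fun a ha => by
    rw [← vn.cn]
    exact mem_centralizer_singleton_iff.2 (mem_centralizer_iff.1 (cen ha) n nW).symm
  have nor1 : ∀ a ∈ L, a ∈ No X → a ∈ No (W ⊓ Ce X) := fun a h1 h2 =>
    zpowers_le.1 (le_normalizer_inf (zpowers_le.2 (wm.nor h1))
      (le_normalizer_centralizer (zpowers_le.2 h2)))
  have TN : Y ⊔ zpowers s ≤ No (W ⊓ Ce X) :=
    sup_le (le_normalizer_of_le_centralizer cen) (zpowers_le.2 (nor1 s sL su.xx.2.2.1))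
  have QN : Q ≤ No (W ⊓ Ce X) := (key (sup_le YM (zpowers_le.2 (su.SL sS).2))).trans TN
  have zn : z ∉ No (W ⊓ Ce X) := fun hz => by
    have LN : L ≤ No (W ⊓ Ce X) := su.gen.trans (sup_le (sup_le
      ((sup_le_sup_right XY _).trans TN) (zpowers_le.2 (nor1 _ xL su.xx.2.1))) (zpowers_le.2 hz))
    have le : W ≤ W ⊓ Ce X := fun w hw => by
      by_cases w1 : w = 1
      · rw [w1]; exact one_mem _
      obtain ⟨k, hk, rfl⟩ := wm.tr w hw w1
      exact conj_mem_of_mem_normalizer (LN hk) nW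
    have := card_le_of_le le
    rw [wm.card, c4] at this
    omega
  obtain ⟨b, hb, nb⟩ : ∃ b ∈ cj z (W ⊓ Ce X), b ∉ W ⊓ Ce X := by
    by_contra h
    push Not at h
    exact zn (mem_normalizer_of_cj_le h)
  have zW := wm.nor ba.lt.zL
  have bW : b ∈ W := cj_le_of_le inf_le_left zW hb
  have i2 : (W ⊓ Ce X).relIndex W = 2 := by
    have := card_mul (inf_le_left : W ⊓ Ce X ≤ W)
    rw [wm.card, c4] at this
    omega
  have qb : ∀ q ∈ Q, q * b * q⁻¹ ∈ W := fun q hq => by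
    have h1 := conj_mem_of_mem_normalizer (QN (conj_mem_of_mem_normalizer' zQ hq)) (mem_cj.1 hb)
    have h2 := conj_mem_of_mem_normalizer zW h1.1
    convert h2 using 1
    group
  have QW : Q ≤ No W := fun q hq => by
    refine mem_normalizer_fintype fun w hw => ?_
    by_cases h : w ∈ W ⊓ Ce X
    · exact (conj_mem_of_mem_normalizer (QN hq) h).1
    · have h1 : q * (w * b) * q⁻¹ ∈ W :=
        (conj_mem_of_mem_normalizer (QN hq) (mul_mem_of_two i2 hw bW h nb)).1
      have h2 := mul_mem h1 (inv_mem (qb q hq))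
      have e : q * (w * b) * q⁻¹ * (q * b * q⁻¹)⁻¹ = q * w * q⁻¹ := by group
      rw [e] at h2
      exact h2
  have W1 : W ≠ ⊥ := fun e => wm.ne (mem_bot.1 (e ▸ wm.mem))
  have yW : y ∈ No W := by
    refine centralizer_le_normalizer _ (mem_centralizer_iff.2 fun w hw => ?_)
    exact mem_centralizer_singleton_iff.1 (wm.yW hw)
  have := ba.lt.uniq W (ba.j2.to_le WJ) W1 wm.nor yW
  exact le_trans (le_inf le_rfl (QW.trans this)) ba.q1

end H77.Dp0MB
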