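import Cfsg.Agent.H57.U2CSpec

/-! # Job DPV-TA: two elements of a 3-group with `|[W, x]| = 4` -/

set_option autoImplicit false

namespace H77.DpvTA

open Subgroup Cfsg H98 H96 H97 H48.DP H57.DPC H48.DP2 H96.U2I H57.U2C
open scoped commutatorElement

universe u

section gen

variable {G W : Type*} [Group G] [AddCommGroup W] [DistribMulAction G W]

def In (y : G) (d w : W) : Prop := w = 0 ∨ w = d ∨ w = y • d ∨ w = d + y • d

structure TT (y : G) (d : W) : Prop where
  two : ∀ w : W, w + w = 0
  y3 : y ^ 3 = 1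
  ne : y • d ≠ d
  mem : ∀ w, In y d (y • w - w)

variable {x y b : G} {c d u v w : W}

theorem inv_eq3 (h : y ^ 3 = 1) (w : W) : y⁻¹ • w = y • y • w := by
  have : y⁻¹ = y * y := by
    rw [inv_eq_iff_mul_eq_one, ← h, pow_three]
  rw [this, mul_smul]

theorem TT.d0 (h : TT y d) : d ≠ 0 := fun e => h.ne (by rw [e, smul_zero])

theorem TT.yd0 (h : TT y d) : y • d ≠ 0 := fun e => h.d0 ((smul_eq_zero_iff_eq y).1 e)

theorem TT.s0 (h : TT y d) : d + y • d ≠ 0 := fun e =>
  h.ne (by linear_combination (norm := abel) e - h.two d)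

theorem TT.yy (h : TT y d) : y • y • d = d + y • d := by
  rcases h.mem (y • d) with e | e | e | e
  · exact absurd (smul_left_cancel y (sub_eq_zero.1 e)) h.ne
  · linear_combination (norm := abel) e
  · have : y • y • d = 0 := by linear_combination (norm := abel) e + h.two (y • d)
    exact absurd ((smul_eq_zero_iff_eq y).1 this) h.yd0
  · have h1 : y • y • d = d := by linear_combination (norm := abel) e + h.two (y • d)
    have h2 : y⁻¹ • d = d := by rw [inv_eq3 h.y3, h1]
    exact absurd (by rw [inv_smul_eq_iff] at h2; exact h2.symm) h.ne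

theorem TT.ys (h : TT y d) : y • (d + y • d) = d := by
  rw [smul_add, h.yy]; linear_combination (norm := abel) h.two (y • d)

theorem In.zero : In y d 0 := Or.inl rfl
theorem In.self : In y d d := Or.inr (Or.inl rfl)
theorem In.yd : In y d (y • d) := Or.inr (Or.inr (Or.inl rfl))
theorem In.sum : In y d (d + y • d) := Or.inr (Or.inr (Or.inr rfl))

theorem TT.add (h : TT y d) (hu : In y d u) (hv : In y d v) : In y d (u + v) := by
  have e1 : d + (d + y • d) = y • d := by linear_combination (norm := abel) h.two d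
  have e2 : y • d + (d + y • d) = d := by linear_combination (norm := abel) h.two (y • d)
  rcases hu with e | e | e | e <;> rcases hv with e' | e' | e' | e' <;> rw [e, e']
  · rw [add_zero]; exact In.zero
  · rw [zero_add]; exact In.self
  · rw [zero_add]; exact In.yd
  · rw [zero_add]; exact In.sum
  · rw [add_zero]; exact In.self
  · rw [h.two]; exact In.zero
  · exact In.sum
  · rw [e1]; exact In.yd
  · rw [add_zero]; exact In.yd
  · rw [add_comm]; exact In.sum
  · rw [h.two]; exact In.zero
  · rw [e2]; exact In.self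
  · rw [add_zero]; exact In.sum
  · rw [add_comm, e1]; exact In.yd
  · rw [add_comm, e2]; exact In.self
  · rw [h.two]; exact In.zero

theorem TT.sub (h : TT y d) (hu : In y d u) (hv : In y d v) : In y d (u - v) := by
  have : u - v = u + v := by linear_combination (norm := abel) -h.two v
  rw [this]; exact h.add hu hv

theorem TT.smul (h : TT y d) (hu : In y d u) : In y d (y • u) := by
  rcases hu with e | e | e | e <;> rw [e]
  · rw [smul_zero]; exact In.zero
  · exact In.yd
  · rw [h.yy]; exact In.sum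
  · rw [h.ys]; exact In.self

theorem TT.fix (h : TT y d) (hu : In y d u) (hf : y • u = u) : u = 0 := by
  rcases hu with e | e | e | e
  · exact e
  · rw [e] at hf; exact absurd hf h.ne
  · rw [e] at hf; exact absurd (smul_left_cancel y hf) h.ne
  · rw [e, h.ys] at hf
    exact absurd (by linear_combination (norm := abel) -hf) h.yd0

theorem TT.surj (h : TT y d) (hu : In y d u) : ∃ v : W, u = y • v - v := by
  rcases hu with e | e | e | e <;> rw [e]
  · exact ⟨0, by simp⟩
  · exact ⟨y • d, by rw [h.yy]; abel⟩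
  · exact ⟨d + y • d, by rw [h.ys]; linear_combination (norm := abel) h.two (y • d)⟩
  · exact ⟨d, by linear_combination (norm := abel) h.two d⟩

theorem TT.gen (h : TT y d) {P : W → Prop} (h0 : P 0) (ha : ∀ u v, P u → P v → P (u + v))
    (hu : In y d u) (hv : In y d v) (u0 : u ≠ 0) (v0 : v ≠ 0) (uv : u ≠ v) (pu : P u) (pv : P v)
    (w : W) (hw : In y d w) : P w := by
  have e1 : d + (d + y • d) = y • d := by linear_combination (norm := abel) h.two d
  have e2 : y • d + (d + y • d) = d := by linear_combination (norm := abel) h.two (y • d)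
  have key : P d ∧ P (y • d) := by
    rcases hu with e | e | e | e <;> rcases hv with e' | e' | e' | e' <;>
      first
      | exact absurd e u0
      | exact absurd e' v0
      | exact absurd (e.trans e'.symm) uv
      | (rw [e] at pu; rw [e'] at pv
         first
         | exact ⟨pu, pv⟩
         | exact ⟨pv, pu⟩
         | exact ⟨pu, e1 ▸ ha _ _ pu pv⟩
         | exact ⟨pv, e1 ▸ ha _ _ pv pu⟩
         | exact ⟨by have := ha _ _ pu pv; rwa [e2] at this, pu⟩
         | exact ⟨by have := ha _ _ pv pu; rwa [e2] at this, pv⟩)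
  rcases hw with e | e | e | e <;> rw [e]
  exacts [h0, key.1, key.2, ha _ _ key.1 key.2]

theorem in_conj : In (b * x * b⁻¹) (b • c) (b • w) ↔ In x c w := by
  have e : (b * x * b⁻¹) • b • c = b • x • c := by rw [mul_smul, mul_smul, inv_smul_smul]
  unfold In
  rw [e, ← smul_add, smul_eq_zero_iff_eq, smul_left_cancel_iff, smul_left_cancel_iff,
    smul_left_cancel_iff]

theorem TT.conj (h : TT x c) (b : G) : TT (b * x * b⁻¹) (b • c) where
  two := h.two
  y3 := by rw [conj_pow, h.y3, mul_one, mul_inv_cancel]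
  ne := by
    rw [mul_smul, mul_smul, inv_smul_smul]
    exact fun e => h.ne (smul_left_cancel b e)
  mem w := by
    have : (b * x * b⁻¹) • w - w = b • (x • b⁻¹ • w - b⁻¹ • w) := by
      rw [smul_sub, smul_inv_smul, mul_smul, mul_smul]
    rw [this, in_conj]; exact h.mem _

def Q (x : G) (c : W) (y : G) (d : W) : Prop :=
  (∀ w, In y d w ↔ In x c w) ∨ ((∀ w, In x c w → y • w = w) ∧ ∀ w, In y d w → x • w = w)

theorem step (hx : TT x c) (hy : TT y d) (hf : ∀ g : G, (∀ w : W, g • w = w) → g = 1)
    (hg : (y * x * y⁻¹ * x⁻¹) * (y * x * y⁻¹ * x⁻¹) = 1 → y * x * y⁻¹ * x⁻¹ = 1)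
    (hQ : Q x c (y * x * y⁻¹) (y • c)) : Q x c y d := by
  have hz := hx.conj y
  rcases hQ with hQ | ⟨q1, q2⟩
  · have pres : ∀ w, In x c w → In x c (y • w) := fun w hw => (hQ _).1 (in_conj.2 hw)
    by_cases hm : ∀ w, In x c w → y • w = w
    · refine Or.inr ⟨hm, fun w hw => ?_⟩
      have g1 : ∀ v : W, In x c ((y * x * y⁻¹ * x⁻¹) • v - v) := fun v => by
        have a1 := (hQ _).1 (hz.mem (x⁻¹ • v))
        have a2 := hx.mem (x⁻¹ • v)
        rw [smul_inv_smul] at a2
        have := hx.sub a1 a2
        rw [mul_smul]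
        convert this using 1
        linear_combination (norm := abel) hx.two (x⁻¹ • v) - hx.two (x⁻¹ • v) - hx.two (x⁻¹ • v)
          + hx.two (x⁻¹ • v)
      have g2 : ∀ e : W, In x c e → (y * x * y⁻¹ * x⁻¹) • e = e := fun e he => by
        have a1 : In x c (x⁻¹ • e) := by rw [inv_eq3 hx.y3]; exact hx.smul (hx.smul he)
        have a2 : y⁻¹ • x⁻¹ • e = x⁻¹ • e := inv_smul_eq_iff.2 (hm _ a1).symm
        rw [mul_smul, mul_smul, mul_smul, a2, smul_inv_smul, hm e he]
      have g3 := hg (hf _ fun v => by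
        have a1 := g2 _ (g1 v)
        rw [smul_sub] at a1
        rw [mul_smul]
        linear_combination (norm := abel) a1 + hx.two ((y * x * y⁻¹ * x⁻¹) • v) - hx.two v)
      have g4 : x * y = y * x := by
        calc x * y = (y * x * y⁻¹ * x⁻¹) * (x * y) := by rw [g3, one_mul]
          _ = y * x := by group
      obtain ⟨v, rfl⟩ := hy.surj hw
      have a1 := hm _ (hx.mem v)
      rw [smul_sub] at a1
      rw [smul_sub, ← mul_smul, g4, mul_smul]
      linear_combination (norm := abel) a1
    · push Not at hm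
      obtain ⟨w, hw, hne⟩ := hm
      have f0 : y • w - w ≠ 0 := sub_ne_zero.2 hne
      have fx : In x c (y • w - w) := hx.sub (pres w hw) hw
      have fy := hy.mem w
      have f1 : y • (y • w - w) ≠ 0 := fun e => f0 ((smul_eq_zero_iff_eq y).1 e)
      have f2 : y • w - w ≠ y • (y • w - w) := fun e => f0 (hy.fix fy e.symm)
      exact Or.inl fun v => ⟨hy.gen In.zero (fun _ _ => hx.add) fy (hy.smul fy) f0 f1 f2 fx
        (pres _ fx) v, hx.gen In.zero (fun _ _ => hy.add) fx (pres _ fx) f0 f1 f2 fy (hy.smul fy) v⟩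
  · exfalso
    have a1 : ∀ e, In x c e → x • y • e = y • e := fun e he => q2 _ (in_conj.2 he)
    have a2 : ∀ e, In x c e → x • y • y • e = y • y • e := fun e he => by
      have := q1 e he
      rw [mul_smul, mul_smul, ← eq_inv_smul_iff, inv_eq3 hy.y3] at this
      exact this
    have a3 : ∀ e, In x c e → x • y • (y • e - e) = y • (y • e - e) := fun e he => by
      rw [smul_sub, smul_sub, a1 e he, a2 e he]
    have a4 : ∀ e, In x c e → e ≠ 0 → y • (y • e - e) ≠ 0 := fun e he e0 h0 => by
      have h1 : y • e = e := sub_eq_zero.1 ((smul_eq_zero_iff_eq y).1 h0)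
      have := a1 e he
      rw [h1] at this
      exact e0 (hx.fix he this)
    have a5 : y • (y • c - c) ≠ y • (y • x • c - x • c) := fun e => by
      refine a4 _ In.sum hx.s0 ?_
      have : y • (c + x • c) - (c + x • c) = (y • c - c) + (y • x • c - x • c) := by
        rw [smul_add]; abel
      rw [this, smul_add, e, hx.two]
    have a6 := hy.gen (P := fun w => x • w = w) (smul_zero x)
      (fun u v hu hv => by rw [smul_add, hu, hv]) (hy.smul (hy.mem c)) (hy.smul (hy.mem (x • c)))
      (a4 _ In.self hx.d0) (a4 _ In.yd hx.yd0) a5 (a3 _ In.self) (a3 _ In.yd) _ (hy.mem c)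
    have a7 : x • (y • c - c) = y • c - c := a6
    rw [smul_sub, a1 c In.self] at a7
    exact hx.ne (by linear_combination (norm := abel) -a7)

theorem allQ [Finite G] {F : Subgroup G} (hF : IsPGroup 3 F)
    (hf : ∀ g : G, (∀ w : W, g • w = w) → g = 1) (hx : TT x c) (xF : x ∈ F) (hy : TT y d)
    (yF : y ∈ F) : Q x c y d := by
  have : Fact (Nat.Prime 3) := ⟨Nat.prime_three⟩
  have := hF.isNilpotent
  have key : ∀ (n : ℕ) (y : F) (d : W), TT (y : G) d →
      y * (⟨x, xF⟩ : F)⁻¹ ∈ Subgroup.upperCentralSeries F n → Q x c (y : G) d := by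
    intro n
    induction n with
    | zero =>
      intro y d hy hm
      rw [Subgroup.upperCentralSeries_zero, mem_bot, mul_inv_eq_one] at hm
      subst hm
      refine Or.inl fun w => ⟨fun h => ?_, fun h => ?_⟩
      · obtain ⟨v, rfl⟩ := hy.surj h; exact hx.mem v
      · obtain ⟨v, rfl⟩ := hx.surj h; exact hy.mem v
    | succ n ih =>
      intro y d hy hm
      have h1 := Subgroup.mem_upperCentralSeries_succ_iff.1 hm ⟨x, xF⟩
      refine step hx hy hf (fun h => ?_) (ih (y * ⟨x, xF⟩ * y⁻¹) _ (hx.conj _) ?_)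
      · obtain ⟨k, hk⟩ := hF (y * ⟨x, xF⟩ * y⁻¹ * (⟨x, xF⟩ : F)⁻¹)
        have hk' : ((y : G) * x * (y : G)⁻¹ * x⁻¹) ^ 3 ^ k = 1 := by
          simpa using congrArg Subtype.val hk
        rw [← pow_two] at h
        have := Nat.dvd_gcd (orderOf_dvd_of_pow_eq_one h) (orderOf_dvd_of_pow_eq_one hk')
        rw [Nat.Coprime.gcd_eq_one (Nat.Coprime.pow_right k (by norm_num)), Nat.dvd_one] at this
        exact orderOf_eq_one_iff.1 this
      · convert h1 using 1
        rw [commutatorElement_def]; group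
  obtain ⟨n, hn⟩ := Group.IsNilpotent.nilpotent (G := F)
  exact key n ⟨y, yF⟩ d hy (hn ▸ mem_top _)

theorem TT.pow (h : TT y d) (n : ℕ) (w : W) : In y d ((y ^ n) • w - w) := by
  induction n with
  | zero => rw [pow_zero, one_smul, sub_self]; exact In.zero
  | succ n ih =>
    have := h.add (h.mem ((y ^ n) • w)) ih
    rw [pow_succ', mul_smul]
    convert this using 1
    abel

theorem main [Finite G] {F : Subgroup G} (hF : IsPGroup 3 F)
    (hf : ∀ g : G, (∀ w : W, g • w = w) → g = 1) (hx : TT x c) (xF : x ∈ F) (bF : b ∈ F)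
    (b3 : b ^ 3 = 1) : ((b • c = c ∨ b • c = x • c ∨ b • c = c + x • c) ∧
      (b • x • c = c ∨ b • x • c = x • c ∨ b • x • c = c + x • c)) ∨
    ((b * x * b⁻¹) • c = c ∧ (b⁻¹ * x * b) • c = c ∧ b⁻¹ * x * b ∉ zpowers (b * x * b⁻¹)) := by
  by_cases N : ∀ e, In x c e → In x c (b • e)
  · exact Or.inl ⟨(N c In.self).resolve_left fun e => hx.d0 ((smul_eq_zero_iff_eq b).1 e),
      (N _ In.yd).resolve_left fun e => hx.yd0 ((smul_eq_zero_iff_eq b).1 e)⟩
  refine Or.inr ⟨?_, ?_, fun hm => N fun e he => ?_⟩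
  · rcases allQ hF hf hx xF (hx.conj b) (mul_mem (mul_mem bF xF) (inv_mem bF)) with h | h
    · exact absurd (fun e he => (h _).1 (in_conj.2 he)) N
    · exact h.1 c In.self
  · rcases allQ hF hf hx xF (hx.conj b⁻¹)
      (mul_mem (mul_mem (inv_mem bF) xF) (inv_mem (inv_mem bF))) with h | h
    · refine absurd (fun e he => ?_) N
      have b3' : b⁻¹ ^ 3 = 1 := by rw [inv_pow, b3, inv_one]
      have := inv_eq3 b3' e
      rw [inv_inv] at this
      rw [this]
      exact (h _).1 (in_conj.2 ((h _).1 (in_conj.2 he)))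
    · have := h.1 c In.self
      rwa [inv_inv] at this
  · obtain ⟨n, hn⟩ := (Submonoid.mem_powers_iff _ _).1 (mem_powers_iff_mem_zpowers.2 hm)
    obtain ⟨v, hv⟩ := (hx.conj b⁻¹).surj (in_conj.2 he)
    have := (hx.conj b).pow n v
    rw [inv_inv, ← hn] at hv
    rw [← hv, inv_eq3 b3, in_conj] at this
    exact this

end gen

theorem ta : TA.{u} := by
  intro W _ _ F x b c h2 hF xF bF x3 b3 ht
  refine main hF (fun g hg => ?_) ⟨h2, by rw [← x3, pow_orderOf_eq_one], ht.1, fun w => ?_⟩ xF bF b3
  · exact LinearEquiv.ext hg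
  · have := ht.2 w
    rwa [dl_apply] at this

end H77.DpvTA
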