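/- Tower KU (S2196): job Ar1, the subfield case. -/
import Cfsg.Agent.H53.KUSpec

set_option autoImplicit false

namespace H77.KUAr1

open H53.KU

/-- `b ∈ {± a, ± q a}` -/
def R {e : ℕ} (q : ℕ) (a b : ZMod e) : Prop := b = a ∨ b = -a ∨ b = q * a ∨ b = -(q * a)

instance {e : ℕ} (q : ℕ) (a b : ZMod e) : Decidable (R q a b) := by unfold R; infer_instance

theorem ar {q e : ℕ} (hq : 3 ≤ q) (he : q + 1 ≤ e) (hd : e ∣ q ^ 2 - 1)
    (H : ∀ a b c : ZMod e, a ≠ 0 → b ≠ 0 → c ≠ 0 → R q a b ∨ R q a c ∨ R q b c) : e = q + 1 := by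
  classical
  have h9 : e ≤ 9 := by
    by_contra h
    have : NeZero e := ⟨by omega⟩
    have : Fact (1 < e) := ⟨by omega⟩
    have hc : (Finset.univ : Finset (ZMod e)).card = e := by rw [Finset.card_univ, ZMod.card]
    let S : ZMod e → Finset (ZMod e) := fun a => {a, -a, q * a, -(q * a)}
    have hS : ∀ a, (S a).card ≤ 4 := fun a => Finset.card_le_four
    have hm : ∀ a b, R q a b → b ∈ S a := fun a b h => by
      simp only [S, Finset.mem_insert, Finset.mem_singleton]; exact h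
    obtain ⟨b, -, hb⟩ := Finset.exists_mem_notMem_of_card_lt_card (s := insert 0 (S 1)) (t := Finset.univ)
      (by have := Finset.card_insert_le 0 (S 1); have := hS 1; omega)
    obtain ⟨c, -, hc'⟩ := Finset.exists_mem_notMem_of_card_lt_card (s := insert 0 (S 1 ∪ S b))
      (t := Finset.univ) (by
        have := Finset.card_insert_le 0 (S 1 ∪ S b)
        have := Finset.card_union_le (S 1) (S b)
        have := hS 1; have := hS b; omega)
    rw [Finset.mem_insert, not_or] at hb hc'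
    rw [Finset.mem_union, not_or] at hc'
    rcases H 1 b c one_ne_zero hb.1 hc'.1 with h | h | h
    · exact hb.2 (hm _ _ h)
    · exact hc'.2.1 (hm _ _ h)
    · exact hc'.2.2 (hm _ _ h)
  have h8 : e = q + 1 ∨ (e = 8 ∧ (q = 3 ∨ q = 5)) := by
    have : q ≤ 8 := by omega
    interval_cases q <;> interval_cases e <;> simp_all
  rcases h8 with h | ⟨rfl, rfl | rfl⟩
  · exact h
  · exact absurd (H 1 2 4 (by decide) (by decide) (by decide)) (by decide)
  · exact absurd (H 1 2 4 (by decide) (by decide) (by decide)) (by decide)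

/-- a reducible multiplication lies in a proper subfield -/
theorem card_le {F : Type} [Field F] [Fintype F] {q : ℕ} (hF : Fintype.card F = q ^ 2) (x : Fˣ)
    (hx : ¬ Gn (x : F)) : orderOf x ≤ q - 1 := by
  classical
  unfold Gn at hx
  push Not at hx
  obtain ⟨M, hM, h0, h1⟩ := hx
  let E0 : Subring F :=
    { carrier := {c | ∀ y ∈ M, c * y ∈ M}
      mul_mem' := fun {a b} ha hb y hy => by rw [mul_assoc]; exact ha _ (hb y hy)
      one_mem' := fun y hy => by rwa [one_mul]
      add_mem' := fun {a b} ha hb y hy => by rw [add_mul]; exact M.add_mem (ha y hy) (hb y hy)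
      zero_mem' := fun y _ => by rw [zero_mul]; exact M.zero_mem
      neg_mem' := fun {a} ha y hy => by rw [neg_mul]; exact M.neg_mem (ha y hy) }
  let E : Subfield F :=
    { E0 with
      inv_mem' := fun a ha => by
        by_cases h : a = 0
        · rw [h, inv_zero]; exact E0.zero_mem
        · have h2 := FiniteField.pow_card_sub_one_eq_one a h
          have h3 : 1 < Fintype.card F := Fintype.one_lt_card
          have h4 : a⁻¹ = a ^ (Fintype.card F - 2) := by
            refine (eq_inv_of_mul_eq_one_left ?_).symm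
            rw [← pow_succ, show Fintype.card F - 2 + 1 = Fintype.card F - 1 by omega, h2]
          rw [h4]; exact E0.pow_mem ha _ }
  have hE : ∀ c, c ∈ E ↔ ∀ y ∈ M, c * y ∈ M := fun c => Iff.rfl
  have hne : E ≠ ⊤ := fun h => by
    obtain ⟨y, hy, hy0⟩ : ∃ y ∈ M, y ≠ 0 := by
      by_contra hh
      push Not at hh
      exact h0 ((AddSubgroup.eq_bot_iff_forall _).2 hh)
    refine h1 (eq_top_iff.2 fun w _ => ?_)
    have := (hE (w * y⁻¹)).1 (h ▸ Subfield.mem_top _) y hy
    rwa [inv_mul_cancel_right₀ hy0] at this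
  have hc : Fintype.card F = Fintype.card E ^ Module.finrank E F := Module.card_eq_pow_finrank
  have hk : 2 ≤ Module.finrank E F := by
    have h2 : 0 < Module.finrank E F := Module.finrank_pos
    by_contra h3
    have h4 : Module.finrank E F = 1 := by omega
    rw [h4, pow_one] at hc
    refine hne (eq_top_iff.2 fun w _ => ?_)
    have hb : Function.Bijective E.subtype :=
      (Fintype.bijective_iff_injective_and_card _).2 ⟨Subtype.val_injective, hc.symm⟩
    obtain ⟨v, rfl⟩ := hb.2 w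
    exact v.2
  have hEq : Fintype.card E ≤ q := by
    have h2 : Fintype.card E ^ 2 ≤ q ^ 2 := by
      rw [← hF, hc]; exact Nat.pow_le_pow_right Fintype.card_pos hk
    exact (Nat.pow_le_pow_iff_left (by norm_num)).1 h2
  have hx0 : (⟨x, hM⟩ : E) ≠ 0 := fun h => x.ne_zero (congrArg Subtype.val h)
  have h2 := FiniteField.pow_card_sub_one_eq_one _ hx0
  have h3 : x ^ (Fintype.card E - 1) = 1 := Units.ext (by simpa using congrArg Subtype.val h2)
  have h4 : 1 < Fintype.card E := Fintype.one_lt_card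
  have := orderOf_le_of_pow_eq_one (by omega) h3
  omega

theorem dual {A : Type} [CommGroup A] [Finite A] (D : Subgroup A) {s : A} (hs : s ∉ D) :
    ∃ l : A →* ℂˣ, l s ≠ 1 ∧ ∀ a ∈ D, l a = 1 := by
  have : NeZero (Monoid.exponent (A ⧸ D)) := ⟨Monoid.exponent_ne_zero_of_finite⟩
  have : NeZero ((Monoid.exponent (A ⧸ D) : ℕ) : ℂ) := ⟨Nat.cast_ne_zero.2 (NeZero.ne _)⟩
  obtain ⟨φ, hφ⟩ := CommGroup.exists_apply_ne_one_of_hasEnoughRootsOfUnity (A ⧸ D) ℂ
    (a := (s : A ⧸ D)) (fun h => hs ((QuotientGroup.eq_one_iff s).1 h))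
  refine ⟨φ.comp (QuotientGroup.mk' D), hφ, fun a ha => ?_⟩
  rw [MonoidHom.comp_apply, QuotientGroup.mk'_apply, (QuotientGroup.eq_one_iff a).2 ha, map_one]

theorem al_top {F : Type} [Field F] (r q : ℕ) (o : Prop) :
    (Tor F (r + 3) q o).map al = ⊤ := by
  refine eq_top_iff.2 fun g _ => ⟨Pi.mulSingle 0 g * Pi.mulSingle 2 g⁻¹, Or.inr ?_, ?_⟩
  · simp only [Pi.mul_apply, Finset.prod_mul_distrib, Finset.prod_pi_mulSingle', Finset.mem_univ, if_true,
      mul_inv_cancel, one_pow]
  · have h1 : (1 : Fin (r + 3)) ≠ 0 := by simp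
    have h2 : (0 : Fin (r + 3)) ≠ 2 := by
      intro h; have := congrArg Fin.val h; simp [Nat.mod_eq_of_lt] at this
    have h3 : (1 : Fin (r + 3)) ≠ 2 := by
      intro h; have := congrArg Fin.val h; simp [Nat.mod_eq_of_lt] at this
    rw [al_apply]
    simp only [Pi.mul_apply, Pi.mulSingle_eq_same, Pi.mulSingle_eq_of_ne h1, Pi.mulSingle_eq_of_ne h2,
      Pi.mulSingle_eq_of_ne h3, mul_one, div_one]

theorem jobAr1 (k1 : JobK1) (k2 : JobK2) : JobAr1 := by
  intro F _ _ r q o hF hq D hD h3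
  classical
  by_cases hG : ∃ d ∈ D, Gn ((d 0 / d 1 : Fˣ) : F)
  · exact Or.inl hG
  right
  set A : Subgroup Fˣ := D.map al with hA
  have hcF : Nat.card Fˣ = q ^ 2 - 1 := by rw [Nat.card_units, Nat.card_eq_fintype_card, hF]
  have hAc : Nat.card A ≤ q - 1 := by
    obtain ⟨x, hx⟩ := IsCyclic.exists_ofOrder_eq_natCard (α := A)
    obtain ⟨d, hd, hd'⟩ := x.2
    rw [← hx, ← Subgroup.orderOf_coe]
    exact card_le hF _ fun h => hG ⟨d, hd, by rwa [← hd', al_apply] at h⟩
  set e := A.index with he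
  have hm : Nat.card A * e = q ^ 2 - 1 := by rw [he, Subgroup.card_mul_index, hcF]
  have hqq : q ^ 2 - 1 = (q - 1) * (q + 1) := by
    obtain ⟨p, rfl⟩ : ∃ p, q = p + 1 := ⟨q - 1, by omega⟩
    rw [Nat.add_sub_cancel]
    exact Nat.sub_eq_of_eq_add (by ring)
  have hge : q + 1 ≤ e := by
    by_contra h
    have h1 : Nat.card A * e ≤ (q - 1) * e := Nat.mul_le_mul_right _ hAc
    have h2 : (q - 1) * e < (q - 1) * (q + 1) := Nat.mul_lt_mul_of_pos_left (by omega) (by omega)
    omega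
  obtain ⟨φ, hφ, hod⟩ := k1 F _ q o D hD al e (by omega)
    (by rw [al_top, Subgroup.relIndex_top_right])
  obtain ⟨g, hg⟩ := IsCyclic.exists_generator (α := Fˣ)
  have hζ : orderOf (φ g) = e := by
    rw [← hod, od, ← Subgroup.map_map, al_top, ← Nat.card_zpowers, ← MonoidHom.map_zpowers,
      (Subgroup.eq_top_iff' _).2 hg]
  have : NeZero e := ⟨by omega⟩
  have hIn : ∀ j : ℕ, (j : ZMod e) ≠ 0 → In q o D ((φ ^ j).comp al) := fun j hj => by
    refine ⟨?_, fun a ha => ?_⟩
    · obtain ⟨a, ha, ha'⟩ : g ∈ (Tor F (r + 3) q o).map al := by rw [al_top]; exact Subgroup.mem_top _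
      refine ⟨a, ha, fun h => hj ?_⟩
      rw [MonoidHom.comp_apply, ha', MonoidHom.pow_apply, ← orderOf_dvd_iff_pow_eq_one, hζ] at h
      exact (ZMod.natCast_eq_zero_iff _ _).2 h
    · have := hφ.2 a ha
      rw [MonoidHom.comp_apply] at this
      rw [MonoidHom.comp_apply, MonoidHom.pow_apply, this, one_pow]
  have e1 : ∀ j k : ℕ, φ g ^ k = φ g ^ j → (k : ZMod e) = j := fun j k h => by
    rw [pow_eq_pow_iff_modEq, hζ] at h
    exact (ZMod.natCast_eq_natCast_iff _ _ _).2 h
  have e2 : ∀ j k : ℕ, φ g ^ k = (φ g ^ j)⁻¹ → (k : ZMod e) = -j := fun j k h => by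
    rw [eq_inv_iff_mul_eq_one, ← pow_add, ← orderOf_dvd_iff_pow_eq_one, hζ] at h
    have := (ZMod.natCast_eq_zero_iff _ _).2 h
    rw [Nat.cast_add] at this
    exact eq_neg_of_add_eq_zero_left this
  have hR : ∀ j k : ℕ, (k : ZMod e) ≠ 0 → Cj q o ((φ ^ j).comp (al (r := r))) ((φ ^ k).comp al) →
      R q (j : ZMod e) k := fun j k hk h => by
    rcases k2 F r q o _ _ h with h | h | h | h | h <;> have h' := DFunLike.congr_fun h g
    · rw [MonoidHom.pow_apply, MonoidHom.one_apply, ← pow_zero (φ g)] at h'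
      exact absurd (by simpa using e1 _ _ h') hk
    · rw [MonoidHom.pow_apply, MonoidHom.pow_apply] at h'
      exact Or.inl (e1 _ _ h')
    · rw [MonoidHom.inv_apply, MonoidHom.pow_apply, MonoidHom.pow_apply] at h'
      exact Or.inr (Or.inl (e2 _ _ h'))
    · rw [MonoidHom.pow_apply, MonoidHom.pow_apply, MonoidHom.pow_apply, ← pow_mul'] at h'
      exact Or.inr (Or.inr (Or.inl (by rw [e1 _ _ h', Nat.cast_mul])))
    · rw [MonoidHom.inv_apply, MonoidHom.pow_apply, MonoidHom.pow_apply, MonoidHom.pow_apply,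
        ← pow_mul'] at h'
      exact Or.inr (Or.inr (Or.inr (by rw [e2 _ _ h', Nat.cast_mul])))
  have hee : e = q + 1 := by
    refine ar hq hge (Dvd.intro_left _ hm) fun a b c ha hb hc => ?_
    rw [← ZMod.natCast_zmod_val a] at ha ⊢
    rw [← ZMod.natCast_zmod_val b] at hb ⊢
    rw [← ZMod.natCast_zmod_val c] at hc ⊢
    rcases h3 _ _ _ (hIn _ ha) (hIn _ hb) (hIn _ hc) with h | h | h
    · exact Or.inl (hR _ _ hb h)
    · exact Or.inr (Or.inl (hR _ _ hc h))
    · exact Or.inr (Or.inr (hR _ _ hc h))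
  have nz : ∀ j : ℕ, 0 < j → j ≤ 3 → (j : ZMod e) ≠ 0 := fun j h1 h2 h => by
    have := Nat.le_of_dvd h1 ((ZMod.natCast_eq_zero_iff _ _).1 h)
    omega
  have hq1 : (q : ZMod e) = -1 := by
    have : ((q + 1 : ℕ) : ZMod e) = 0 := by rw [← hee]; exact ZMod.natCast_self e
    rw [Nat.cast_add, Nat.cast_one] at this
    exact eq_neg_of_add_eq_zero_left this
  have n12 : ¬ Cj q o ((φ ^ 1).comp (al (r := r))) ((φ ^ 2).comp al) := fun h => by
    have h1 := nz 1 (by omega) (by omega)
    have h2 := nz 3 (by omega) (by omega)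
    rcases hR 1 2 (nz 2 (by omega) (by omega)) h with h | h | h | h <;>
      simp only [hq1, Nat.cast_ofNat, Nat.cast_one] at h h1 h2
    · exact h1 (by linear_combination h)
    · exact h2 (by linear_combination h)
    · exact h2 (by linear_combination h)
    · exact h1 (by linear_combination h)
  have i1 := hIn 1 (nz 1 (by omega) (by omega))
  have i2 := hIn 2 (nz 2 (by omega) (by omega))
  refine ⟨⟨_, _, i1, i2, n12⟩, fun i c hc => ?_⟩
  have hk : ∀ y : Fˣ, y ^ (q - 1) = 1 → φ y = 1 := fun y hy => by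
    obtain ⟨n, rfl⟩ := (mem_powers_iff_mem_zpowers.2 (hg y))
    simp only at hy ⊢
    rw [← pow_mul, ← orderOf_dvd_iff_pow_eq_one, orderOf_eq_card_of_forall_mem_zpowers hg, hcF, hqq,
      mul_comm n] at hy
    have := Nat.dvd_of_mul_dvd_mul_left (by omega) hy
    rw [map_pow, ← orderOf_dvd_iff_pow_eq_one, hζ, hee]
    exact this
  by_contra hs
  obtain ⟨l, hl, hl'⟩ := dual D hs
  have hT : (Pi.mulSingle i c : Fin (r + 3) → Fˣ) ∈ Tor F (r + 3) q o := Or.inr (by
    simp only [Finset.prod_pi_mulSingle', Finset.mem_univ, if_true, hc])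
  have hs1 : ∀ k, (Pi.mulSingle i c : Fin (r + 3) → Fˣ) k ^ (q - 1) = 1 := fun k => by
    by_cases h : k = i
    · rw [h, Pi.mulSingle_eq_same, hc]
    · rw [Pi.mulSingle_eq_of_ne h, one_pow]
  have hs2 : ∀ k s, φ (eig q (Pi.mulSingle i c : Fin (r + 3) → Fˣ) k s) = 1 := fun k s => by
    unfold eig
    split_ifs
    · rw [map_inv, map_pow, hk _ (hs1 k), one_pow, inv_one]
    · exact hk _ (hs1 k)
  have fin : ∀ j : ℕ, ¬ Cj q o ((φ ^ j).comp (al (r := r))) l := fun j ⟨π, ε, h⟩ => hl (by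
    rw [h _ hT, MonoidHom.comp_apply, MonoidHom.pow_apply, al_apply, map_div, sw_apply, sw_apply, hs2, hs2,
      div_one, one_pow])
  rcases h3 _ _ l i1 i2 ⟨⟨_, hT, hl⟩, hl'⟩ with h | h | h
  · exact n12 h
  · exact fin _ h
  · exact fin _ h

end H77.KUAr1
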