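/- A8S (S3152): `W` and `W ⟨t⟩` are characteristic in `S` (Higman-Sims case). -/
import Cfsg.Agent.H63.A8Def

set_option autoImplicit false

namespace H77.A8HC

open H63.A8 H32.HS
open H64.SG (Ns)

universe u

theorem f0 : ∀ s : U, s ∈ A ∨ s * s = 1 ∨ s * (el 4 * s * (el 4)⁻¹) ≠ el 4 * s * (el 4)⁻¹ * s ∨
    s * (el 16 * s * (el 16)⁻¹) ≠ el 16 * s * (el 16)⁻¹ * s := by decide +kernel
theorem f1 : ∀ s : U, s * tau s = 1 ∨
    s * tau (el 4 * s * tau (el 4)⁻¹) ≠ el 4 * s * tau (el 4)⁻¹ * tau s ∨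
    s * tau (el 16 * s * tau (el 16)⁻¹) ≠ el 16 * s * tau (el 16)⁻¹ * tau s := by decide +kernel
theorem f2 : ∀ s : U, s * (el 4 * el 4) = el 4 * el 4 * s → s * (el 16 * el 16) = el 16 * el 16 * s →
    s ∈ A := by decide +kernel
theorem f3 : ∀ s : U, s ∈ A → tau s ∈ A ∧ tau (s * s) = s * s ∧
    (s * s ≠ 1 ∨ (s * el 4) * (s * el 4) ≠ 1) ∧ ∀ r : U, r ∈ A → s * r = r * s := by decide +kernel
theorem f4 : ∀ s : U, s ∈ A → ∀ k : U, k * s * k⁻¹ ∈ A := by decide +kernel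
theorem f5 : el 4 ∈ A ∧ el 16 ∈ A ∧ el 4 * el 4 ≠ 1 := by decide +kernel

theorem main {G : Type u} [Group G] (t : G) (φ : U →* G) (ht : t * t = 1)
    (inj : Function.Injective φ) (ta : ∀ s, t * φ s * t⁻¹ = φ (tau s)) :
    Ns (φ.range ⊔ Subgroup.zpowers t) ≤ Ns (A.map φ) ⊓ Ns (A.map φ ⊔ Subgroup.zpowers t) := by
  have ti : t⁻¹ = t := inv_eq_of_mul_eq_one_right ht
  have tb : ∀ s, t * φ s = φ (tau s) * t := fun s => by rw [← ta, inv_mul_cancel_right]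
  have tc : ∀ s g, t * (φ s * g) = φ (tau s) * (t * g) := fun s g => by rw [← mul_assoc, tb, mul_assoc]
  have tt : ∀ g, t * (t * g) = g := fun g => by rw [← mul_assoc, ht, one_mul]
  set S := φ.range ⊔ Subgroup.zpowers t with hS
  set W := A.map φ with hW
  have tS : t ∈ S := Subgroup.mem_sup_right (Subgroup.mem_zpowers t)
  have pS : ∀ s, φ s ∈ S := fun s => Subgroup.mem_sup_left ⟨s, rfl⟩
  have mS : ∀ g ∈ S, ∃ s, g = φ s ∨ g = φ s * t := by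
    let S' : Subgroup G :=
      { carrier := {g | ∃ s, g = φ s ∨ g = φ s * t}
        one_mem' := ⟨1, Or.inl (map_one φ).symm⟩
        mul_mem' := by
          rintro _ _ ⟨a, rfl | rfl⟩ ⟨b, rfl | rfl⟩
          · exact ⟨a * b, Or.inl (map_mul φ a b).symm⟩
          · exact ⟨a * b, Or.inr (by rw [map_mul, mul_assoc])⟩
          · exact ⟨a * tau b, Or.inr (by rw [map_mul, mul_assoc, tb, mul_assoc])⟩
          · exact ⟨a * tau b, Or.inl (by rw [map_mul, mul_assoc, tc, ht, mul_one])⟩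
        inv_mem' := by
          rintro _ ⟨a, rfl | rfl⟩
          · exact ⟨a⁻¹, Or.inl (map_inv φ a).symm⟩
          · exact ⟨tau a⁻¹, Or.inr (by rw [mul_inv_rev, ti, ← map_inv, tb])⟩ }
    have : S ≤ S' := sup_le (by rintro _ ⟨s, rfl⟩; exact ⟨s, Or.inl rfl⟩)
      (Subgroup.zpowers_le.2 ⟨1, Or.inr (by rw [map_one, one_mul])⟩)
    exact fun g hg => this hg
  have WS : W ≤ S := by rintro _ ⟨s, -, rfl⟩; exact pS s
  have Wab : ∀ a ∈ W, ∀ b ∈ W, a * b = b * a := by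
    rintro _ ⟨a, ha, rfl⟩ _ ⟨b, hb, rfl⟩
    rw [← map_mul, ← map_mul, (f3 a ha).2.2.2 b hb]
  have Wn : ∀ k ∈ S, ∀ a ∈ W, k * a * k⁻¹ ∈ W := by
    rintro k hk _ ⟨a, ha, rfl⟩
    obtain ⟨s, rfl | rfl⟩ := mS k hk
    · exact ⟨_, f4 a ha s, by rw [map_mul, map_mul, map_inv]⟩
    · refine ⟨_, f4 _ (f3 a ha).1 s, ?_⟩
      rw [map_mul, map_mul, map_inv, ← ta]; group
  have P1 : ∀ h ∈ S, h * h ≠ 1 → (∀ k ∈ S, h * (k * h * k⁻¹) = k * h * k⁻¹ * h) → h ∈ W := by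
    intro h hh h2 hc
    obtain ⟨s, rfl | rfl⟩ := mS h hh
    · have c : ∀ k, s * (k * s * k⁻¹) = k * s * k⁻¹ * s := fun k => inj (by
        simp only [map_mul, map_inv]; exact hc _ (pS k))
      rcases f0 s with h | h | h | h
      · exact ⟨s, h, rfl⟩
      · exact absurd (by rw [← map_mul, h, map_one]) h2
      · exact absurd (c _) h
      · exact absurd (c _) h
    · have c : ∀ k, s * tau (k * s * tau k⁻¹) = k * s * tau k⁻¹ * tau s := fun k => inj (by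
        have e : φ k * (φ s * t) * (φ k)⁻¹ = φ (k * s * tau k⁻¹) * t := by
          rw [← map_inv, mul_assoc, mul_assoc, tb, map_mul, map_mul, mul_assoc, mul_assoc]
        have := hc _ (pS k)
        rw [e, mul_assoc, tc, ht, mul_one, mul_assoc (φ _) t, tc, ht, mul_one] at this
        rw [map_mul, this, ← map_mul])
      rcases f1 s with h | h | h
      · exact absurd (by rw [mul_assoc, tc, ht, mul_one, ← map_mul, h, map_one]) h2
      · exact absurd (c _) h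
      · exact absurd (c _) h
  have nS : ∀ y ∈ Ns S, ∀ g ∈ S, y * g * y⁻¹ ∈ S := fun y hy g hg => (hy g).1 hg
  have Q1 : ∀ y ∈ Ns S, ∀ a ∈ W, a * a ≠ 1 → y * a * y⁻¹ ∈ W := by
    intro y hy a ha h2
    refine P1 _ (nS y hy a (WS ha)) (fun h => h2 ?_) fun k hk => ?_
    · have : a * a = y⁻¹ * (y * a * y⁻¹ * (y * a * y⁻¹)) * y := by group
      rw [this, h]; group
    · have h3 := Wab a ha _ (Wn _ (nS _ (inv_mem hy) k hk) a ha)
      calc _ = y * (a * (y⁻¹ * k * y⁻¹⁻¹ * a * (y⁻¹ * k * y⁻¹⁻¹)⁻¹)) * y⁻¹ := by group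
        _ = _ := by rw [h3]; group
  have w4 : φ (el 4) ∈ W := ⟨_, f5.1, rfl⟩
  have w16 : φ (el 16) ∈ W := ⟨_, f5.2.1, rfl⟩
  have Q2 : ∀ y ∈ Ns S, ∀ a ∈ W, y * a * y⁻¹ ∈ W := by
    rintro y hy _ ⟨a, ha, rfl⟩
    have n1 : ∀ s : U, s * s ≠ 1 → φ s * φ s ≠ 1 := fun s h h' =>
      h (inj (by rw [map_mul, h', map_one]))
    rcases (f3 a ha).2.2.1 with h | h
    · exact Q1 y hy _ ⟨a, ha, rfl⟩ (n1 _ h)
    · have h1 := Q1 y hy _ ⟨_, A.mul_mem ha f5.1, rfl⟩ (n1 _ h)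
      have h2 := Q1 y hy _ w4 (n1 _ f5.2.2)
      have := W.mul_mem h1 (W.inv_mem h2)
      rw [map_mul] at this
      convert this using 1
      group
  have C1 : ∀ g ∈ W ⊔ Subgroup.zpowers t, g ∈ S ∧ ∀ a ∈ W, g * (a * a) = a * a * g := by
    intro g hg
    have h1 : W ⊔ Subgroup.zpowers t ≤ S ⊓ Subgroup.centralizer {b | ∃ a ∈ W, b = a * a} := by
      refine sup_le (fun w hw => ⟨WS hw, ?_⟩) (Subgroup.zpowers_le.2 ⟨tS, ?_⟩)
      · rintro _ ⟨a, ha, rfl⟩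
        exact Wab _ (W.mul_mem ha ha) _ hw
      · rintro _ ⟨_, ⟨a, ha, rfl⟩, rfl⟩
        rw [← map_mul, tb, (f3 a ha).2.1]
    exact ⟨(h1 hg).1, fun a ha => ((h1 hg).2 _ ⟨a, ha, rfl⟩).symm⟩
  have C2 : ∀ g ∈ S, (∀ a ∈ W, g * (a * a) = a * a * g) → g ∈ W ⊔ Subgroup.zpowers t := by
    intro g hg hc
    have tW : t ∈ W ⊔ Subgroup.zpowers t := Subgroup.mem_sup_right (Subgroup.mem_zpowers t)
    have key : ∀ s, (∀ a ∈ W, φ s * (a * a) = a * a * φ s) → φ s ∈ W ⊔ Subgroup.zpowers t :=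
      fun s h => Subgroup.mem_sup_left ⟨s, f2 s (inj (by simp only [map_mul]; exact h _ w4))
        (inj (by simp only [map_mul]; exact h _ w16)), rfl⟩
    obtain ⟨s, rfl | rfl⟩ := mS g hg
    · exact key s hc
    · refine Subgroup.mul_mem _ (key s fun a ha => ?_) tW
      have h1 := hc a ha
      rw [mul_assoc, (C1 t tW).2 a ha, ← mul_assoc (φ s) (a * a), ← mul_assoc (a * a)] at h1
      exact mul_right_cancel h1
  have Q3 : ∀ y ∈ Ns S, ∀ g ∈ W ⊔ Subgroup.zpowers t, y * g * y⁻¹ ∈ W ⊔ Subgroup.zpowers t := by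
    intro y hy g hg
    refine C2 _ (nS y hy g (C1 g hg).1) fun a ha => ?_
    have h3 := (C1 g hg).2 _ (Q2 _ (inv_mem hy) a ha)
    calc _ = y * (g * (y⁻¹ * a * y⁻¹⁻¹ * (y⁻¹ * a * y⁻¹⁻¹))) * y⁻¹ := by group
      _ = _ := by rw [h3]; group
  have fin : ∀ H : Subgroup G, (∀ y ∈ Ns S, ∀ g ∈ H, y * g * y⁻¹ ∈ H) → Ns S ≤ Ns H :=
    fun H h y hy g => ⟨h y hy g, fun hg => by
      have := h _ (inv_mem hy) _ hg
      rwa [show y⁻¹ * (y * g * y⁻¹) * y⁻¹⁻¹ = g by group] at this⟩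
  exact le_inf (fin _ Q2) (fin _ Q3)

theorem jobHC : J8HC.{u} := by
  intro n F _ _ _ _ G _ _ e t w₁ w₂ w₃ φ hE _ hM
  have := main t φ hE.inv.1 hM.inj hM.ta
  rwa [hM.mA] at this

end H77.A8HC
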