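import Cfsg.Agent.H67.SWDef

/-! Slot CZ of the blueprint `STDSPW.md`. -/

set_option autoImplicit false
set_option linter.unusedSectionVars false

namespace H77.SWCZ
open H67 H67.SW H67.SP H67.UA Subgroup
open H64.SG (Cz Cs mem_Cz)

variable {n : ℕ} {F : Type} [Field F] [StarRing F] [TrivialStar F] [CharP F 2] [Finite F] [SP.Base n F]

theorem wk_ev {i : Fin (n + 1)} {j : ℕ} (h : i.val < j) (a : F) : Wk j (a • ev i : Vn n F) := fun k hk => by
  rw [Pi.smul_apply, ev_apply, if_neg (by rintro rfl; omega), smul_zero]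

theorem hf0 {i j : Fin (n + 1)} (h : i.val + j.val ≠ n) : hf (ev i : Vn n F) (ev j) = 0 := by
  rw [hf_ev, if_neg]
  rintro rfl
  rw [Fin.val_rev] at h; omega

theorem Q_le {j : ℕ} (hj : 2 * j ≤ n + 1) : SP.Qk n F j ≤ SP.UU n F := fun g hg => by
  obtain ⟨h1, h2⟩ := (FV.mem_Qk j hj g).1 hg
  refine (FV.mem_U g).2 fun i v hv k hk => ?_
  by_cases a : i + 1 ≤ j
  · rw [h1 v fun l hl => hv l (by omega), v_add_self]; rfl
  by_cases b : i + 1 ≤ n + 1 - j
  · exact h2 v (fun l hl => hv l (by omega)) k (by omega)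
  refine (FV.wk_perp j (by omega) _).2 (fun w hw => ?_) k (by omega)
  rw [hf_add_left, ← hf_ac g v w, h1 w hw, CharTwo.add_self_eq_zero]

/-- A transvection is not a square. -/
theorem nsq {v : Vn n F} {c : F} (hv : v ≠ 0) (hc : c ≠ 0) (g : XU n F) : g * g ≠ Tc c v := fun e => by
  have h1 : ac g v = v := by
    have : g ∈ Cz (Tc c v) := mem_Cz.2 (by rw [← e, mul_assoc])
    rwa [FR.cz v c hv hc] at this
  obtain ⟨i, hi⟩ := Function.ne_iff.1 hv
  obtain ⟨f, hf1⟩ : ∃ z, hf z v = 1 := ⟨(star (v i))⁻¹ • ev i.rev, by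
    rw [hf_smul_left, hf_ev_left, Fin.rev_rev, inv_mul_cancel₀ (by simpa using hi)]⟩
  have h2 : ac g (ac g f) = f + c • v := by
    rw [← ac_mul, e, ac_Tc (FV.iso v) (star_trivial c), hf1, mul_one]
  have h3 := hf_ac g (ac g f) f
  have h4 := hf_ac g v f
  have h5 : hf v f = 1 := by rw [← star_hf, hf1, star_one]
  rw [h1, h5] at h4
  rw [h2, hf_add_left, hf_smul_left, h4, ← star_hf, star_trivial, mul_one, add_eq_left] at h3
  exact hc h3

theorem sq_of {s : XU n F} (h2 : s * s = 1) (h0 : ac s (ev 0) = ev 0) {y : Vn n F} (hy : hf y (ev 0) = 0) :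
    EE (ev 0) y 0 * s * (EE (ev 0) y 0 * s) = EE (ev 0) (y + ac s y) (hf (ac s y) y) := by
  have o := FV.ok (ev 0) y 0 hy
  have e := EE_conj o s
  have o' := o.ac s
  rw [h0] at e o'
  rw [inv_eq_of_mul_eq_one_right h2] at e
  rw [mul_assoc, ← mul_assoc s, e, EE_mul o o', zero_add, zero_add]

/-- The other elements of the centre of `U` are squares. -/
theorem zu_sq [p : SP.Par n F] (a : F) {b : F} (hb : b ≠ 0) : ∃ w ∈ SP.UU n F, w * w = zu a b := by
  have n5 := p.five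
  have v0 : ((0 : Fin (n + 1)) : ℕ) = 0 := rfl
  have v1 : ((1 : Fin (n + 1)) : ℕ) = 1 := show 1 % (n + 1) = 1 from Nat.mod_eq_of_lt (by omega)
  have v2 : ((2 : Fin (n + 1)) : ℕ) = 2 := show 2 % (n + 1) = 2 from Nat.mod_eq_of_lt (by omega)
  have r1 : ((1 : Fin (n + 1)).rev : ℕ) = n - 1 := by rw [Fin.val_rev, v1]; omega
  have r2 : ((2 : Fin (n + 1)).rev : ℕ) = n - 2 := by rw [Fin.val_rev, v2]; omega
  have hz : zu a b = EE (ev 0 : Vn n F) (b • ev 1) a := by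
    rw [zu, EE_mul (FV.ok _ _ _ (by simp)) (FV.ok _ _ _ (by rw [hf_smul_left, hf0 (by omega), mul_zero]))]
    simp
  have key : ∀ (x : Vn n F) c β (i : Fin (n + 1)), Wk (n + 1 - 2) x → hf x (ev 1) = 0 → hf (ev 0) x = 0 →
      i.val < n → ac (EE (ev 1) x c) (β • ev i) = β • ev i + b • ev 1 → hf (b • ev 1) (β • ev i : Vn n F) = a →
      ∃ w ∈ SP.UU n F, w * w = zu a b := fun x c β i w1 h1 h0 hi e1 e2 => by
    have o := FV.ok (ev 1) x c h1
    refine ⟨EE (ev 0) (β • ev i) 0 * EE (ev 1) x c, mul_mem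
      (Q_le (j := 1) (by omega) (FV.EE_Q 1 (by omega) _ _ _ (one_smul F (ev 0 : Vn n F) ▸ wk_ev (by omega) 1)
        (wk_ev (by omega) _)))
      (Q_le (j := 2) (by omega) (FV.EE_Q 2 (by omega) _ _ _ (one_smul F (ev 1 : Vn n F) ▸ wk_ev (by omega) 1) w1)),
      ?_⟩
    rw [sq_of (by rw [EE_mul o o, v_add_self, FV.iso x, CharTwo.add_self_eq_zero, add_zero, EE_zero])
      (ac_EE_fix o (hf0 (by omega)) h0) (by rw [hf_smul_left, hf0 (by omega), mul_zero]), e1, ← add_assoc,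
      v_add_self, zero_add, hf_add_left, FV.iso, zero_add, e2, hz]
  rcases eq_or_ne a 0 with rfl | ha
  · refine key (ev 2) 0 b (2 : Fin (n + 1)).rev (one_smul F (ev 2 : Vn n F) ▸ wk_ev (by omega) 1) (hf0 (by omega))
      (hf0 (by omega)) (by omega) ?_ (by rw [hf_smul_left, hf_smul_right, hf0 (by omega)]; simp)
    rw [ac_EE_perp (FV.ok _ _ _ (hf0 (by omega))) (by rw [hf_smul_left, hf0 (by omega), mul_zero]), hf_smul_left,
      hf_ev, Fin.rev_rev, if_pos rfl, mul_one]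
  · refine key 0 (b * b / a) (a / b) (1 : Fin (n + 1)).rev (fun _ _ => rfl) (by simp) (by simp) (by omega) ?_ ?_
    · rw [ac_Tc (FV.iso _) (star_trivial _), hf_smul_left, hf_ev, Fin.rev_rev, if_pos rfl]
      congr 2; field_simp
    · rw [hf_smul_left, hf_smul_right, hf_ev, if_pos rfl, star_trivial]; field_simp

theorem jobCZ : JobCZ := fun n F _ _ _ _ _ p _ _ _ θ t u hu => by
  have zc : u ∈ Cs (SP.UU n F) := FR.zU (n := n) (F := F) ▸ mem_sup_left hu
  obtain ⟨c, rfl⟩ := (FV.mem_Zl _ _).1 hu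
  have n5 := p.five
  have uU : Tc c (ev 0) ∈ SP.UU n F := Q_le (j := 1) (by omega) (FV.EE_Q 1 (by omega) _ _ _
    (one_smul F (ev 0 : Vn n F) ▸ wk_ev Nat.zero_lt_one 1) fun _ _ => rfl)
  obtain ⟨a, b, e⟩ := (FV.mem_ZU (θ (Tc c (ev 0)))).1 (FR.zU (n := n) (F := F) ▸ fun x hx => by
    obtain ⟨y, hy, rfl⟩ := t.bij.surjOn hx
    rw [← t.mul _ hy _ uU, ← t.mul _ uU _ hy, zc y hy])
  rcases eq_or_ne b 0 with rfl | hb
  · exact (FV.mem_Zl _ _).2 ⟨a, by rw [e, zu, zero_smul, qq, EE_zero, mul_one]⟩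
  rcases eq_or_ne c 0 with rfl | hc
  · have := t.mul 1 (one_mem _) 1 (one_mem _)
    rw [mul_one, left_eq_mul] at this
    rw [Tc, EE_zero, this]
    exact one_mem _
  obtain ⟨w, hw, e'⟩ := zu_sq (n := n) a hb
  obtain ⟨y, hy, rfl⟩ := t.bij.surjOn hw
  exact absurd (t.bij.injOn (mul_mem hy hy) uU (by rw [t.mul _ hy _ hy, e', e])) (nsq (ev_ne 0) hc y)

end H77.SWCZ
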