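import Cfsg.Agent.H78.YUDef

/-! Slot AL of the blueprint `STDSP_YU.md`. -/

set_option autoImplicit false

namespace H77.YUAL
open H67 H67.UA H64.YE Matrix H78.YU
open H67.SP (kk)

theorem blk {K : Type} [Field K] {n : ℕ} (k : ℕ) {A B : Matrix (Fin n) (Fin n) K}
    (hA : ∀ i j : Fin n, j.val < k → A i j = 0) (hB : ∀ i j : Fin n, k ≤ i.val → B i j = 0) : A * B = 0 :=
  Matrix.ext fun i j => by
    rw [mul_apply]
    refine Finset.sum_eq_zero fun l _ => ?_
    rcases lt_or_ge l.val k with h | h
    exacts [by rw [hA i l h, zero_mul], by rw [hB l j h, mul_zero]]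

theorem jobAL : JobAL := fun n F _ _ _ _ _ p _ _ _ K _ _ _ _ x h _ u hu al => by
  have := hfK x h
  obtain ⟨η, hη⟩ := H59.UM.exists_tr (K := K) (star_one K)
  obtain ⟨k, hk⟩ := p.odd
  have ek : kk n = k + 1 := by rw [kk]; omega
  have a1 : ∀ j, mt u j.rev j = 0 := fun j => by rw [← ac_ev, ← hf_ev_right (ac u (ev j)) j, al]
  have a2 : ∀ i j, mt u i j = mt u j.rev i.rev := fun i j => by
    have := al (ev j + ev i.rev)
    rw [ac_add, hf_add_left, hf_add_right, hf_add_right, al, al, zero_add, add_zero, hf_ev_right, hf_ev_right,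
      ac_ev, ac_ev, Fin.rev_rev] at this
    exact (CharTwo.add_eq_zero).1 this
  obtain ⟨N, hN⟩ : ∃ N : Matrix (Fin (n + 1)) (Fin (n + 1)) K, N = (mt u + 1).map x.φ := ⟨_, rfl⟩
  have n0 : ∀ i j, N i j = x.φ (mt u i j + if i = j then 1 else 0) := fun i j => by rw [hN]; rfl
  have n1 : ∀ i j : Fin (n + 1), kk n ≤ i.val → N i j = 0 := fun i j hi => by
    have := hu (ev j) i hi
    rw [Pi.add_apply, ac_ev, ev_apply] at this
    rw [n0, this, map_zero]
  have n2 : ∀ i j, N j.rev i.rev = N i j := fun i j => by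
    rw [n0, n0, ← a2]; simp only [Fin.rev_inj, eq_comm]
  have n3 : ∀ i j : Fin (n + 1), j.val < kk n → N i j = 0 := fun i j hj => by
    rw [← n2, n1 _ _ (by rw [Fin.val_rev]; omega)]
  have n4 : ∀ i j : Fin (n + 1), i.val + j.val = n → N i j = 0 := fun i j e => by
    rw [show i = j.rev from Fin.ext (by rw [Fin.val_rev]; omega), n0, a1,
      if_neg fun e' => by have := congrArg Fin.val e'; rw [Fin.val_rev] at this; omega, add_zero, map_zero]
  have n5 : ∀ i j, star (N i j) = N i j := fun i j => by rw [n0, x.st (.inr h), star_trivial]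
  have s0 : star η = η + 1 := by rw [← hη, ← add_assoc, CharTwo.add_self_eq_zero, zero_add]
  have s1 : star (η + 1) = η := by rw [star_add, s0, star_one, add_assoc, CharTwo.add_self_eq_zero, add_zero]
  obtain ⟨M, m0⟩ : ∃ M : Matrix (Fin (n + 1)) (Fin (n + 1)) K,
    ∀ i j, M i j = N i j * if i.val + j.val < n then η else η + 1 := ⟨of fun i j => _, fun _ _ => rfl⟩
  have m1 : ∀ i j : Fin (n + 1), kk n ≤ i.val → M i j = 0 := fun i j hi => by rw [m0, n1 i j hi, zero_mul]
  have aa : ∀ A : Matrix (Fin (n + 1)) (Fin (n + 1)) K, A + A = 0 := fun A =>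
    Matrix.ext fun _ _ => CharTwo.add_self_eq_zero _
  have sq : (1 + M) * (1 + M) = 1 := by
    rw [mul_add, mul_one, add_mul, one_mul, blk (kk n) (fun i j hj => by rw [m0, n3 i j hj, zero_mul]) m1,
      add_zero, add_assoc, aa, add_zero]
  have d : (1 + M).det = 1 := by
    have := congrArg det sq
    rw [det_mul, det_one, mul_self_eq_one_iff, CharTwo.neg_eq, or_self] at this
    exact this
  refine ⟨⟨⟨1 + M, d⟩, mem_XU_iff.2 (.trans (congrArg _ (Matrix.ext fun i j => ?_)) sq)⟩, fun w i hi => ?_,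
    eq_mul_inv_of_mul_eq (X_ext ?_)⟩
  · show star ((1 + M) j.rev i.rev) = (1 + M) i j
    rw [Matrix.add_apply, Matrix.add_apply, star_add, m0, m0, star_mul', n2, n5, one_apply, one_apply]
    congr 1
    · simp only [Fin.rev_inj, eq_comm]; split_ifs <;> simp
    rcases eq_or_ne (i.val + j.val) n with e | e
    · rw [n4 i j e, zero_mul, zero_mul]
    simp only [Fin.val_rev]
    split_ifs
    exacts [by omega, congrArg _ s0, congrArg _ s1, by omega]
  · show ((1 + M) *ᵥ w) i + w i = 0
    rw [add_mulVec, one_mulVec, Pi.add_apply, add_right_comm, CharTwo.add_self_eq_zero, zero_add]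
    show ∑ j, M i j * w j = 0
    exact Finset.sum_eq_zero fun j _ => by rw [m1 i j hi, zero_mul]
  · show (mt u).map x.φ * (1 + M).map star = 1 + M
    have e1 : (mt u).map x.φ = 1 + N := by
      rw [hN, Matrix.map_add _ (map_add _), Matrix.map_one _ (map_zero _) (map_one _), add_left_comm, aa,
        add_zero]
    rw [e1, Matrix.map_add _ star_add, Matrix.map_one _ (star_zero _) (star_one _), mul_add, mul_one, add_mul,
      one_mul, blk (kk n) n3 fun i j hi => by rw [map_apply, m1 i j hi, star_zero], add_zero, add_assoc]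
    refine congrArg _ (Matrix.ext fun i j => ?_)
    rw [Matrix.add_apply, map_apply, m0, star_mul', n5]
    split_ifs
    · rw [s0, mul_add, mul_one, add_comm, add_assoc, CharTwo.add_self_eq_zero, add_zero]
    · rw [s1, mul_add, mul_one, add_comm]

end H77.YUAL
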