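import Cfsg.Agent.H74.RESpec

/-! # Job RE-TR: transport of `Rs0` to the subgroup `Q T` -/

set_option autoImplicit false

namespace H77.ReTR

open Cfsg Subgroup H14 H98 H1.Gold H31.S2 H14.GC H14.FE H14.NF H74.RE
open scoped commutatorElement

universe u

theorem jobTR : TR.{u} := by
  intro G _ _ Q R T h
  have hQ : Q ≤ Q ⊔ T := le_sup_left
  have hT : T ≤ Q ⊔ T := le_sup_right
  have hR : R ≤ Q ⊔ T := h.syl.le.trans hQ
  have hc : ∀ r : ↥(Q ⊔ T), r ∈ centralizer (T.subgroupOf (Q ⊔ T) : Set ↥(Q ⊔ T)) ↔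
      (r : G) ∈ centralizer (T : Set G) := fun r => by
    rw [centralizer_subgroupOf hT, mem_subgroupOf]
  refine { nQ := fun t ht => ?_, syl := h.syl.subgroupOf hQ
           elR := fun a ha => Subtype.ext (h.elR _ ha), elT := fun a ha => Subtype.ext (h.elT _ ha)
           four := ?_, nR := fun t ht => ?_
           disj := fun t ht hq => Subtype.ext (h.disj _ ht hq)
           c1 := fun t ht t1 r hr e => (hc r).2 (h.c1 _ ht (fun e' => t1 (Subtype.ext e')) _ hr
             (congrArg Subtype.val e))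
           onto := ?_
           normal := (normal_subgroupOf_iff_le_normalizer hQ).2 (sup_le le_normalizer h.nQ)
           top := fun x => ?_ }
  · change t ∈ normalizer (Q.subgroupOf (Q ⊔ T) : Set ↥(Q ⊔ T))
    rw [← subgroupOf_normalizer_eq hQ]
    exact h.nQ ht
  · obtain ⟨s, hs, t, ht, is, it, st, c⟩ := h.four
    exact ⟨⟨s, hT hs⟩, hs, ⟨t, hT ht⟩, ht,
      ⟨fun e => is.1 (congrArg Subtype.val e), Subtype.ext is.2⟩,
      ⟨fun e => it.1 (congrArg Subtype.val e), Subtype.ext it.2⟩,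
      fun e => st (congrArg Subtype.val e), Subtype.ext c⟩
  · change t ∈ normalizer (R.subgroupOf (Q ⊔ T) : Set ↥(Q ⊔ T))
    rw [← subgroupOf_normalizer_eq hR]
    exact h.nR ht
  · obtain ⟨y, hy, yc, hon⟩ := h.onto
    refine ⟨⟨y, hR hy⟩, hy, fun e => yc ((hc _).1 e), fun r hr rc => ?_⟩
    obtain ⟨t, ht, e⟩ := hon r hr ((hc r).1 rc)
    exact ⟨⟨t, hT ht⟩, ht, Subtype.ext e⟩
  · obtain ⟨q, hq, t, ht, e⟩ := (mem_sup_right_norm h.nQ).1 x.2
    exact ⟨⟨q, hQ hq⟩, hq, ⟨t, hT ht⟩, ht, Subtype.ext e⟩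

end H77.ReTR
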