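/- A8S (S3152): an almost simple group with `|Out| = 2` that is not simple is the full automorphism group. -/
import Cfsg.Agent.H63.A8Wr
import Cfsg.Agent.S2079
import Cfsg.Agent.S2072

set_option autoImplicit false

namespace H77.A8Aut

open Cfsg H63.A8
open H64.SG (Cs)

universe u v

theorem aut_of_out_two {G : Type u} [Group G] (N : Subgroup G) [hN : N.Normal] (hc : Cs N = ⊥)
    (ht : N ≠ ⊤) {S : Type v} [Group S] (e : N ≃* S) (h2 : Nat.card (Out S) = 2) :
    Nonempty (G ≃* MulAut S) := by
  let f : G →* MulAut S := (MulAut.congr e).toMonoidHom.comp (MulAut.conjNormal (H := N))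
  have fa : ∀ g s, f g s = e (MulAut.conjNormal g (e.symm s)) := fun g s => rfl
  have hinj : Function.Injective f := by
    rw [injective_iff_map_eq_one]
    intro g hg
    have : g ∈ Cs N := by
      rw [Subgroup.mem_centralizer_iff]
      intro n hn
      have h1 := DFunLike.congr_fun hg (e ⟨n, hn⟩)
      rw [fa, e.symm_apply_apply, MulAut.one_apply] at h1
      have h3 := congrArg Subtype.val (e.injective h1)
      rw [MulAut.conjNormal_apply] at h3
      exact (mul_inv_eq_iff_eq_mul.1 h3).symm
    rwa [hc, Subgroup.mem_bot] at this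
  have hn : ∀ n : N, f n = MulAut.conj (e n) := fun n => by
    ext s
    rw [fa, MulAut.conj_apply]
    have : MulAut.conjNormal (n : G) (e.symm s) = n * e.symm s * n⁻¹ :=
      Subtype.ext (by rw [MulAut.conjNormal_apply]; rfl)
    rw [this, map_mul, map_mul, map_inv, e.apply_symm_apply]
  have hle : Inn S ≤ f.range := by
    rintro _ ⟨s, rfl⟩
    exact ⟨e.symm s, by rw [hn, e.apply_symm_apply]⟩
  have hi : (Inn S).index = 2 := h2
  have hd : f.range.index ∣ 2 := hi ▸ Subgroup.index_dvd_of_le hle
  have hs : f.range = ⊤ := by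
    rcases (Nat.dvd_prime Nat.prime_two).1 hd with h | h
    · exact Subgroup.index_eq_one.1 h
    · exfalso
      have h3 := Subgroup.relIndex_mul_index hle
      rw [h, hi] at h3
      have h4 : f.range ≤ Inn S := Subgroup.relIndex_eq_one.1 (by omega)
      refine ht (eq_top_iff.2 fun g _ => ?_)
      obtain ⟨s, hs⟩ := h4 ⟨g, rfl⟩
      have : f (e.symm s : N) = f g := by rw [hn, e.apply_symm_apply]; exact hs
      rw [← hinj this]; exact (e.symm s).2
  exact ⟨MulEquiv.ofBijective f ⟨hinj, MonoidHom.range_eq_top.1 hs⟩⟩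

theorem jobFiA : JFiA.{u} := fun _ _ _ F₀ hN hc ht ⟨e⟩ =>
  aut_of_out_two F₀ (hN := hN) hc ht e Cfsg.Agent.S2079.result

theorem jobHSA : JHSA.{u} := fun _ _ _ F₀ hN hc ht ⟨e⟩ =>
  aut_of_out_two F₀ (hN := hN) hc ht e Cfsg.Agent.S2072.result

end H77.A8Aut
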