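import Cfsg.Agent.H24.CxKit

/-! `JobChC` of the blueprint `CX.md`. -/

set_option autoImplicit false
open Subgroup Cfsg H98 H24.Cx

namespace H77.CxChC

universe u
variable {p : ℕ} {G A : Type u} [Group G] [CommGroup A] {j : A →* G} {P : Subgroup G}

theorem conj_j (h : Ctr p j) (g : G) (a : A) : g * j a * g⁻¹ = j a := by
  rw [← h.cen, mul_inv_cancel_right]

theorem normal (h : Ctr p j) : j.range.Normal :=
  ⟨by rintro _ ⟨a, rfl⟩ g; exact ⟨a, (conj_j h g a).symm⟩⟩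

theorem hU_one {w : HW G A} (hw : w ∈ hU j P) : w 1 = 0 := by simpa using hw.2 1

theorem V_le_U (hZ : j.range ≤ P) : hV A P ≤ hU j P := fun w hw =>
  ⟨fun x hx y hy => by rw [hw x hx, hw y hy, hw _ (mul_mem hx hy), add_zero],
    fun a => hw _ (hZ ⟨a, rfl⟩)⟩

theorem V_le_K (h : Ctr p j) : hV A P ≤ kU h P := fun w hw =>
  ⟨1, fun x hx => by rw [hw x hx]; simp⟩

theorem K_le_U (h : Ctr p j) (hZ : j.range ≤ P) : kU h P ≤ hU j P := by
  rintro w ⟨k, hk⟩
  refine ⟨fun x hx y hy => Additive.toMul.injective (h.inj ?_),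
    fun a => Additive.toMul.injective (h.inj ?_)⟩
  · rw [toMul_add, map_mul, hk _ (mul_mem hx hy), hk x hx, mul_assoc _ x⁻¹, ← h.cen, hk y hy]
    group
  · rw [hk _ (hZ ⟨a, rfl⟩), conj_j h]; simp

theorem sysUV (h : Ctr p j) : Sys p ⊤ j.range (hU j) (hV A) where
  le P hP := V_le_U hP.ge
  antiU P Q _ _ e w hw := ⟨fun x hx y hy => hw.1 x (e hx) y (e hy), hw.2⟩
  antiV P Q _ _ e w hw x hx := hw x (e hx)
  eqU g _ P _ w hw := ⟨fun x hx y hy => by
    simp only [HW.smul_apply]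
    rw [← hw.1 _ (mem_cj.1 hx) _ (mem_cj.1 hy)]
    congr 1; group, fun a => by
    rw [HW.smul_apply, ← h.cen, inv_mul_cancel_right, hw.2]⟩
  eqV g _ P _ w hw x hx := hw _ (mem_cj.1 hx)
  triv P _ g hg w hw x hx := by
    have := hw.1 _ (inv_mem hg) _ hg
    rw [inv_mul_cancel, hU_one hw] at this
    rw [HW.sub_apply, HW.smul_apply, hw.1 _ (mul_mem (inv_mem hg) hx) _ hg,
      hw.1 _ (inv_mem hg) _ hx, add_right_comm, ← this]
    simp

theorem sysUK (h : Ctr p j) : Sys p ⊤ j.range (hU j) (kU h) where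
  le P hP := K_le_U h hP.ge
  antiU := (sysUV h).antiU
  antiV P Q _ _ e w := fun ⟨k, hk⟩ => ⟨k, fun x hx => hk x (e hx)⟩
  eqU := (sysUV h).eqU
  eqV g _ P _ w := fun ⟨k, hk⟩ => ⟨g * k * g⁻¹, fun x hx => by
    rw [HW.smul_apply, ← conj_j h g, hk _ (mem_cj.1 hx)]; group⟩
  triv P hP g hg w hw := V_le_K h ((sysUV h).triv P hP g hg w hw)

/-- a preimage under `j` -/
noncomputable def pre (j : A →* G) (y : G) : Additive A := Additive.ofMul (Function.invFun j y)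

theorem j_pre {y : G} (hy : y ∈ j.range) : j (pre j y).toMul = y := Function.invFun_eq hy

theorem pre_conj (h : Ctr p j) (g y : G) : pre j (g * y * g⁻¹) = pre j y := by
  by_cases hy : y ∈ j.range
  · obtain ⟨a, rfl⟩ := hy
    rw [conj_j h]
  · have h2 : ¬ ∃ a, j a = g * y * g⁻¹ := fun ⟨a, e⟩ => hy ⟨a, by
      rw [← conj_j h g⁻¹, e]; group⟩
    rw [pre, pre, Function.invFun_neg h2, Function.invFun_neg hy]

/-- the commutator map -/
noncomputable def θ (j : A →* G) : ZG G →+ HW G A :=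
  ZG.lift fun k => fun x => pre j (k * x * k⁻¹ * x⁻¹)

theorem θ_of (k x : G) : θ j (ZG.of k) x = pre j (k * x * k⁻¹ * x⁻¹) :=
  congrFun (ZG.lift_of (W := HW G A) (fun k => fun x => pre j (k * x * k⁻¹ * x⁻¹)) k) x

theorem θ_smul (h : Ctr p j) (g : G) (w : ZG G) : θ j (g • w) = g • θ j w := by
  refine DFunLike.congr_fun (ZG.hom_ext (f := (θ j).comp (DistribSMul.toAddMonoidHom _ g))
    (g := (DistribSMul.toAddMonoidHom _ g).comp (θ j)) fun k => ?_) w
  funext x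
  show θ j (g • ZG.of k) x = (g • θ j (ZG.of k)) x
  rw [ZG.smul_of, HW.smul_apply, θ_of, θ_of, ← pre_conj h g (k * _ * _ * _)]
  congr 1; group

theorem com_mul (h : Ctr p j) {b x : G} (a : G) (hb : b * x * b⁻¹ * x⁻¹ ∈ j.range) :
    a * b * x * (a * b)⁻¹ * x⁻¹ = a * x * a⁻¹ * x⁻¹ * (b * x * b⁻¹ * x⁻¹) := by
  obtain ⟨c, hc⟩ := hb
  rw [← hc, ← h.cen, ← conj_j h a c, hc]
  group

theorem com_pow (h : Ctr p j) {b x : G} (hb : b * x * b⁻¹ * x⁻¹ ∈ j.range) (n : ℕ) :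
    b ^ n * x * (b ^ n)⁻¹ * x⁻¹ = (b * x * b⁻¹ * x⁻¹) ^ n := by
  induction n with
  | zero => simp
  | succ n ih => rw [pow_succ, com_mul h _ hb, ih, ← pow_succ]

variable [Finite G] [Fact p.Prime]

theorem expA (h : Ctr p j) : ∃ e : ℕ, ∀ a : A, a ^ p ^ e = 1 := by
  have := Finite.of_injective _ h.inj
  obtain ⟨e, he⟩ := IsPGroup.iff_card.1 h.isP
  exact ⟨e, fun a => he ▸ pow_card_eq_one'⟩

theorem atom (h : Ctr p j) [j.range.Normal] (hP : Rel p ⊤ j.range P) (hC : ¬ CB p j.range P) :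
    Atom p ⊤ P (kU h P) (hV A P) := by
  have h1 : KK j.range P ≤ normalizer (P : Set G) := fun k hk => mem_normalizer_of_cj_le (by
    rintro _ ⟨x, hx, rfl⟩
    simpa using mul_mem (hP.ge (hk x hx)) hx)
  refine ⟨KK j.range P, le_inf le_top h1, fun g hg => mem_normalizer_of_cj_le ?_, ?_,
    fun k hk w hw _ x hx => ?_, ?_⟩
  · rintro _ ⟨k, hk, rfl⟩ x hx
    have := ‹j.range.Normal›.conj_mem _ (hk _ (conj_mem_of_mem_normalizer' hg.2 hx)) g
    simpa [mul_assoc] using this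
  · by_contra hn
    exact hC fun g hg hp => mem_of_not_dvd (le_normalizer_inf h1 le_normalizer) hn hg hp
  · obtain ⟨a, ha⟩ := inv_mem hk x hx
    have hw' := K_le_U h hP.ge hw
    rw [HW.sub_apply, HW.smul_apply, show k⁻¹ * x * k = j a * x by rw [ha]; group,
      hw'.1 _ (hP.ge ⟨a, rfl⟩) _ hx, hw'.2]
    simp
  · obtain ⟨e, he⟩ := expA h
    exact ⟨e, fun w _ x _ => Additive.toMul.injective (he (w x).toMul)⟩

theorem onto (h : Ctr p j) [j.range.Normal] (hC : CB p j.range P) {k : G}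
    (hk : k ∈ KK j.range P) :
    ∃ k' ∈ ZB j.range P, ∀ x ∈ P, k' * x * k'⁻¹ * x⁻¹ = k * x * k⁻¹ * x⁻¹ := by
  obtain ⟨e, he⟩ := expA h
  have hp : p.Prime := Fact.out
  obtain ⟨a, m, hm, hn⟩ := Nat.exists_eq_pow_mul_and_not_dvd (orderOf_pos k).ne' p hp.ne_one
  have hc : (p ^ e).Coprime m := ((Nat.Prime.coprime_iff_not_dvd hp).2 hm).pow_left e
  obtain ⟨c, h1, h2⟩ := Nat.chineseRemainder hc 1 0
  refine ⟨k ^ c, ⟨hC _ (pow_mem hk c) ?_, pow_mem hk c⟩, fun x hx => ?_⟩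
  · refine IsPGroup.of_card_dvd_pow (n := a) ?_
    rw [Nat.card_zpowers, orderOf_dvd_iff_pow_eq_one, ← pow_mul, ← orderOf_dvd_iff_pow_eq_one, hn,
      mul_comm]
    exact Nat.mul_dvd_mul_right ((Nat.modEq_zero_iff_dvd).1 h2) _
  · obtain ⟨b, hb⟩ := hk x hx
    rw [com_pow h ⟨b, hb⟩, ← hb, ← map_pow, pow_eq_pow_of_modEq h1 (he b), pow_one]

theorem matchC (sk : SecK.{u}) (h : Ctr p j) [j.range.Normal] (hC : CB p j.range P) :
    Match (θ j) (SU (ZB j.range P)) (SV (ZB j.range P) (ZZ P)) (kU h P) (hV A P) := by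
  have hV' : ∀ w ∈ SV (ZB j.range P) (ZZ P), θ j w ∈ hV A P := fun w hw => by
    refine (AddSubgroup.closure_le ((hV A P).comap (θ j))).2 ?_ hw
    rintro _ (⟨a, ha, b, hb, rfl⟩ | ⟨b, hb, rfl⟩) x hx
    · rw [map_sub, map_sub, HW.sub_apply, HW.sub_apply, θ_of, θ_of, θ_of, sub_sub, sub_eq_zero]
      refine Additive.toMul.injective (h.inj ?_)
      rw [toMul_add, map_mul, j_pre ((mul_mem ha hb).2 x hx), j_pre (ha.2 x hx), j_pre (hb.2 x hx),
        com_mul h _ (hb.2 x hx)]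
    · refine Additive.toMul.injective (h.inj ?_)
      rw [θ_of, ← hb.2 x hx, j_pre (by simp)]
      simp
  refine Or.inr ⟨fun w hw => ?_, ?_, fun w hw => ⟨fun h1 => ?_, hV' w⟩⟩
  · refine (AddSubgroup.closure_le ((kU h P).comap (θ j))).2 ?_ hw
    rintro _ ⟨a, ha, rfl⟩
    exact ⟨a, fun x hx => by rw [θ_of, j_pre (ha.2 x hx)]⟩
  · rintro w ⟨k, hk⟩
    obtain ⟨k', hk', e⟩ := onto h hC (k := k) fun x hx => ⟨_, hk x hx⟩
    refine ⟨ZG.of k', AddSubgroup.subset_closure ⟨k', hk', rfl⟩, fun x hx => ?_⟩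
    rw [HW.sub_apply, sub_eq_zero, θ_of]
    refine Additive.toMul.injective (h.inj ?_)
    rw [hk x hx, j_pre (hk'.2 x hx), e x hx]
  · obtain ⟨a, ha, h2⟩ := (sk G (ZB j.range P) (ZZ P)).1 w hw
    have h3 := sub_mem h1 (hV' _ h2)
    rw [map_sub, sub_sub_cancel] at h3
    have h4 : a ∈ ZZ P := ⟨ha.1, fun x hx => by
      have := j_pre (ha.2 x hx)
      rw [← θ_of, h3 x hx, toMul_zero, map_one, eq_mul_inv_iff_mul_eq, eq_mul_inv_iff_mul_eq,
        one_mul] at this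
      exact this⟩
    simpa using add_mem h2 (AddSubgroup.subset_closure (Or.inr ⟨a, h4, rfl⟩))

theorem jobChC : JobChC.{u} := fun av sk sl cha chb h1 p _ G X A _ _ _ _ j h hX hj => by
  have := normal h
  have hZ : IsPGroup p j.range := h.isP.of_surjective _ j.rangeRestrict_surjective
  have hc : j.range ≤ center G := by
    rintro _ ⟨a, rfl⟩
    exact mem_center_iff.2 fun g => (h.cen a g).symm
  have hf : ∀ z ∈ j.range, ∀ x : X, z • x = x := by
    rintro _ ⟨a, rfl⟩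
    exact hj a
  have hp : Pair p ⊤ j.range := ⟨hZ, le_top, le_normalizer_of_normal⟩
  obtain ⟨sa, va⟩ := cha p G X j.range hX hZ hc hf
  obtain ⟨sb, vb⟩ := chb p G X j.range hX hZ hc hf
  have sc : SecH p ⊤ j.range (CB p j.range) (ZB j.range) ZZ :=
    ⟨sa.up, fun P _ _ a ha => ⟨ha.1, fun x hx => by rw [← ha.2 x hx]; simp⟩, sa.le2,
      fun P hP hC g hg a ha => sb.le1 P hP hC (sa.com P hP hC g hg a ha),
      sa.antiA, sb.antiA, sa.eqA, sb.eqA⟩
  have s3 : Sys p ⊤ j.range (kU h) (hV A) := (sysUV h).mid (sysUK h) fun P _ => V_le_K h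
  refine van_quot hX hp (sysUV h) (sysUK h) (fun P _ => V_le_K h) (h1 p G X A j hX h)
    (van_ext hX hp s3 (s3.cutR hp sa.up) (fun P hP => s3.le_cut hP) ?_ ?_)
  · refine av p G X _ _ _ _ _ hX hp (s3.cutL hp sa.up) (fun P hP hn => ?_) 2
    have hC : ¬ CB p j.range P := fun hC => hn (cut_pos hC).le
    rw [cut_neg hC]
    exact atom h hP hC
  · refine (van_iso hX hp ((sk G ⊥ ⊥).2.2.2.2 p _ _ _ _ _ hp sc) (s3.cutR hp sa.up) (θ j)
      (fun g _ => θ_smul h g) fun P _ => ?_).1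
      ((sl p G X ⊤ j.range hX hp).1 _ _ _ _ 2 sa sb sc va vb)
    by_cases hC : CB p j.range P
    · rw [secU, secV, cut_pos hC, cut_pos hC, cut_pos hC]
      exact matchC sk h hC
    · rw [secU, secV, cut_neg hC, cut_neg hC, cut_neg hC]
      exact Or.inl ⟨le_rfl, le_rfl⟩

end H77.CxChC
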