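import Cfsg.Agent.H96.U2CenSpec

/-!
# DPW-Z (S3275): the point `z` and the line `⟨z, z^y⟩`
-/

set_option autoImplicit false

namespace H77.DpwZ

open Subgroup Cfsg H98 H48.DP H96.U2I H96.Cen
open scoped commutatorElement

universe u

variable {G : Type u} [Group G]

theorem exists_z [Finite G] {T : Subgroup G} (hT : IsPGroup 2 T) (h1 : T ≠ ⊥) :
    ∃ z ∈ T, z ∈ Ce T ∧ z ≠ 1 ∧ z * z = 1 := by
  have : Fact (Nat.Prime 2) := ⟨Nat.prime_two⟩
  have := (nontrivial_iff_ne_bot T).2 h1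
  have := hT.center_nontrivial
  obtain ⟨n, n0, hn⟩ := (hT.to_subgroup (center T)).nontrivial_iff_card.1 this
  obtain ⟨z, hz⟩ := exists_prime_orderOf_dvd_card' (G := center T) 2
    (hn ▸ dvd_pow_self 2 n0.ne')
  have ho : orderOf ((z : T) : G) = 2 := by rw [orderOf_coe, orderOf_coe, hz]
  refine ⟨(z : T), (z : T).2, mem_centralizer_iff.2 fun t ht =>
    congrArg Subtype.val (mem_center_iff.1 z.2 ⟨t, ht⟩), fun e => ?_, ?_⟩
  · rw [e, orderOf_one] at ho
    omega
  · rw [← pow_two, ← ho, pow_orderOf_eq_one]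

theorem pow_coset {R : Subgroup G} {y ρ : G} (hy : y ∈ No R) (hρ : ρ ∈ R) (n : ℕ) :
    (ρ * y) ^ n * (y ^ n)⁻¹ ∈ R := by
  induction n with
  | zero => simp
  | succ n ih =>
    have e : (ρ * y) ^ (n + 1) * (y ^ (n + 1))⁻¹ = ρ * (y * ((ρ * y) ^ n * (y ^ n)⁻¹) * y⁻¹) := by
      rw [pow_succ' (ρ * y), pow_succ' y]
      group
    rw [e]
    exact mul_mem hρ (conj_mem_of_mem_normalizer hy ih)

theorem mem_of_pow [Finite G] {M : Subgroup G} {y : G} (y3 : orderOf y = 3) {k : ℕ}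
    (h : y ^ 2 ^ k ∈ M) : y ∈ M := by
  have c : (2 ^ k).Coprime (orderOf y) := by
    rw [y3]
    exact Nat.Coprime.pow_left k (by decide)
  exact zpowers_le.2 h (mem_zpowers_pow_iff.2 c)

theorem jobZ : JobZ.{u} := by
  intro hh G _ _ M Q T R Q0 F y c
  have : Fact (Nat.Prime 3) := ⟨Nat.prime_three⟩
  have y3 : y ^ 3 = 1 := c.y3 ▸ pow_orderOf_eq_one y
  have yy : y * y = y⁻¹ := eq_inv_of_mul_eq_one_left (by rw [← y3, pow_succ, pow_two])
  have QT : Q ≤ T := c.QQ.trans c.QT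
  obtain ⟨q, qQ, qR⟩ := c.nQ
  obtain ⟨B, BF, eB, cB⟩ := c.e27
  have star : ∀ w ∈ T, w ∈ Ce T → w * w = 1 → w ≠ 1 → C1 w ≤ M := fun w h1 h2 h3 h4 => by
    have cn : C1 w ≤ No (zpowers w) := le_normalizer_of_le_centralizer fun g hg => by
      rintro _ ⟨i, rfl⟩
      exact ((show Commute w g from (mem_centralizer_singleton_iff.1 hg).symm).zpow_left i).eq
    refine cn.trans (c.eq9 _ B (isPGroup_zpowers (k := 1) (by rw [pow_one, pow_two, h3]))
      (fun e => h4 (zpowers_eq_bot.1 e)) (BF.trans c.FM) eB (by omega) (le_trans (fun b hb => ?_) cn))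
    exact mem_centralizer_singleton_iff.2 (mem_centralizer_iff.1 (c.cen w h1 h2 h3) b (BF hb))
  obtain ⟨z, zT, zc, z1, zz⟩ := exists_z c.syl.isPGroup
    (fun e => qR (c.RT.trans_eq e |> fun _ => (bot_le : (⊥ : Subgroup G) ≤ R) (e ▸ QT qQ)))
  have zi : z⁻¹ = z := inv_eq_of_mul_eq_one_right zz
  have zt : ∀ t ∈ T, t * z = z * t := fun t ht => mem_centralizer_iff.1 zc t ht
  have conjc : ∀ g ∈ No R, ∀ r ∈ R, r * (g * z * g⁻¹) = g * z * g⁻¹ * r := fun g hg r hr => by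
    have := zt _ (c.RT (conj_mem_of_mem_normalizer' hg hr))
    calc r * (g * z * g⁻¹) = g * (g⁻¹ * r * g * z) * g⁻¹ := by group
      _ = g * z * g⁻¹ * r := by rw [this]; group
  have zR : z ∈ R := by
    by_contra zR
    have hρ := c.inv z zT zR
    have es : z * y * z⁻¹ * y * y = z * (y * z * y⁻¹) := by
      rw [mul_assoc (z * y * z⁻¹), yy, zi]
      group
    have pc := pow_coset c.yR hρ
    rw [es] at pc
    set s := z * (y * z * y⁻¹) with hs
    have sR : ∀ r ∈ R, Commute r s := fun r hr =>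
      (show Commute r z from zt r (c.RT hr)).mul_right (conjc y c.yR r hr)
    have zs : z * s * z⁻¹ = s⁻¹ := by
      calc z * s * z⁻¹ = (z * z) * (y * z * y⁻¹) * z⁻¹ := by rw [hs]; group
        _ = y * z⁻¹ * y⁻¹ * z⁻¹ := by rw [zz, one_mul, zi]
        _ = s⁻¹ := by rw [hs]; group
    have s3 := pc 3
    rw [y3, inv_one, mul_one] at s3
    obtain ⟨k, hk⟩ := isPGroup_iff_forall.1 (c.syl.isPGroup.to_le c.RT) _ s3
    have out : s ^ 2 ^ k ∉ M := fun h => c.yM (mem_of_pow c.y3 (k := k) (by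
      have := mul_mem (inv_mem (c.TM (c.RT (pc (2 ^ k))))) h
      simpa using this))
    have x3 : orderOf (s ^ 2 ^ k) = 3 := orderOf_eq_prime (by rw [← pow_mul, mul_comm, pow_mul, hk])
      fun e => out (e ▸ one_mem M)
    obtain ⟨e, eB', e1⟩ := (B.bot_or_exists_ne_one).resolve_left fun h => by
      rw [h, card_bot] at cB
      omega
    obtain ⟨h, -, hx⟩ := hh G M ⊤ e _ c.ti (c.FM (BF eB')) (mem_top _)
      (orderOf_eq_prime (eB.2 e eB') e1) (mem_top _) x3
    have x3' : orderOf (h * s ^ 2 ^ k * h⁻¹) = 3 := by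
      rw [← x3]
      exact (MulAut.conj h).orderOf_eq _
    have hR : ∀ r ∈ R, h * r * h⁻¹ ∈ M := fun r hr => c.ti _ _ x3' hx (by
      have := ((sR r hr).pow_right (2 ^ k)).eq
      have e : h * r * h⁻¹ * (h * s ^ 2 ^ k * h⁻¹) * (h * r * h⁻¹)⁻¹ = h * s ^ 2 ^ k * h⁻¹ := by
        calc h * r * h⁻¹ * (h * s ^ 2 ^ k * h⁻¹) * (h * r * h⁻¹)⁻¹
            = h * (r * s ^ 2 ^ k) * r⁻¹ * h⁻¹ := by group
          _ = h * s ^ 2 ^ k * h⁻¹ := by rw [this]; group
      rw [e]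
      exact hx)
    have hz : h * z * h⁻¹ ∈ M := c.ti _ _ x3' hx (by
      have : z * s ^ 2 ^ k * z⁻¹ = (s ^ 2 ^ k)⁻¹ := by rw [← conj_pow, zs, inv_pow]
      have e : h * z * h⁻¹ * (h * s ^ 2 ^ k * h⁻¹) * (h * z * h⁻¹)⁻¹ = (h * s ^ 2 ^ k * h⁻¹)⁻¹ := by
        calc h * z * h⁻¹ * (h * s ^ 2 ^ k * h⁻¹) * (h * z * h⁻¹)⁻¹
            = h * (z * s ^ 2 ^ k * z⁻¹) * h⁻¹ := by group
          _ = (h * s ^ 2 ^ k * h⁻¹)⁻¹ := by rw [this]; group
      rw [e]
      exact inv_mem hx)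
    have hM : h⁻¹ ∈ M := c.fix _ fun t ht => mem_cj.2 (by
      rw [inv_inv]
      by_cases tR : t ∈ R
      · exact hR t tR
      · have := mul_mem (hR _ (c.mul t (QT ht) z zT tR zR)) (inv_mem hz)
        convert this using 1
        group)
    refine out ?_
    have := mul_mem (mul_mem hM hx) (inv_mem hM)
    convert this using 1
    group
  have vR : y * z * y⁻¹ ∈ R := conj_mem_of_mem_normalizer c.yR zR
  have wR : y⁻¹ * z * y⁻¹⁻¹ ∈ R := conj_mem_of_mem_normalizer (inv_mem c.yR) zR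
  have vc := conjc y c.yR
  have wc := conjc y⁻¹ (inv_mem c.yR)
  set v := y * z * y⁻¹ with hv
  set w := y⁻¹ * z * y⁻¹⁻¹ with hw
  have vv : v * v = 1 := by
    calc v * v = y * (z * z) * y⁻¹ := by rw [hv]; group
      _ = 1 := by rw [zz]; group
  have ww : w * w = 1 := by
    calc w * w = y⁻¹ * (z * z) * y := by rw [hw]; group
      _ = 1 := by rw [zz]; group
  have zv : z * v = v * z := vc z zR
  have zw : z * w = w * z := wc z zR
  have vw : v * w = w * v := wc v vR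
  have sw : ∀ t ∈ T, t ∉ R → t * v * t⁻¹ = w ∧ t * w * t⁻¹ = v := fun t ht tR => by
    have hρ := c.inv t ht tR
    have h1 := wc _ hρ
    have h2 := zt _ (c.RT hρ)
    have h3 := zt t ht
    constructor
    · calc t * v * t⁻¹ = t * y * t⁻¹ * (t * z) * y⁻¹ * t⁻¹ := by rw [hv]; group
        _ = (t * y * t⁻¹ * y) * w * (t * y * t⁻¹ * y)⁻¹ := by rw [h3, hw]; group
        _ = w := by rw [h1]; group
    · calc t * w * t⁻¹ = t * y⁻¹ * t⁻¹ * (t * z) * y * t⁻¹ := by rw [hw]; group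
        _ = y * ((t * y * t⁻¹ * y)⁻¹ * (z * (t * y * t⁻¹ * y))) * y⁻¹ := by rw [h3]; group
        _ = v := by rw [← h2, hv]; group
  have u1 : z * v * w = 1 := by
    by_contra u1
    refine c.yM (star (z * v * w) (c.RT (mul_mem (mul_mem zR vR) wR))
      (mem_centralizer_iff.2 fun t ht => ?_) ?_ u1 (mem_centralizer_singleton_iff.2 ?_))
    · by_cases tR : t ∈ R
      · exact (((show Commute t z from zt t ht).mul_right (vc t tR)).mul_right (wc t tR)).eq
      · obtain ⟨e1, e2⟩ := sw t ht tR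
        calc t * (z * v * w) = (t * z) * t⁻¹ * ((t * v * t⁻¹) * (t * w * t⁻¹)) * t := by group
          _ = z * v * w * t := by rw [e1, e2, zt t ht, ← vw]; group
    · have c1 : Commute z v := zv
      have c2 : Commute (z * v) w := (show Commute z w from zw).mul_left vw
      rw [← pow_two, c2.mul_pow, c1.mul_pow, pow_two, pow_two, pow_two, zz, vv, ww]
      group
    · have e1 : y * v * y⁻¹ = w := by
        calc y * v * y⁻¹ = (y * y) * z * (y * y)⁻¹ := by rw [hv]; group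
          _ = w := by rw [yy]
      have e2 : y * w * y⁻¹ = z := by rw [hw]; group
      calc y * (z * v * w) = (y * z * y⁻¹) * (y * v * y⁻¹) * (y * w * y⁻¹) * y := by group
        _ = v * (w * z) * y := by rw [e1, e2, ← hv]; group
        _ = z * v * w * y := by rw [← zw, ← mul_assoc v, ← zv]
  refine ⟨z, z1, zz, zR, zc, star z zT zc zz z1, vR, mem_centralizer_iff.2 vc, fun t ht tR => ?_⟩
  rw [commutatorElement_def, ← hv, (sw t ht tR).1, inv_eq_of_mul_eq_one_right vv, ← vw, ← zi]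
  exact eq_inv_of_mul_eq_one_right (by rw [← mul_assoc, u1])

end H77.DpwZ
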