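import Cfsg.Agent.H73.GSSpec
import Cfsg.Agent.H92.DP0BSpec

/-!
# DP0-GS-BG (S3275): centralisers of bad elements
-/

set_option autoImplicit false

namespace H77.GsBG

open Subgroup Cfsg H98 H48.DP H57.DPC H48.DP2 H98.DP0C H73.GS

universe u

variable {G : Type u} [Group G] [Finite G] {M Q R : Subgroup G} {c z u : G}

omit [Finite G] in
theorem comm_sup {a b r e : G} (ha : Commute r a) (hb : Commute r b)
    (he : e ∈ zpowers a ⊔ zpowers b) : Commute r e := by
  have : zpowers a ⊔ zpowers b ≤ C1 r := sup_le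
    (zpowers_le.2 (mem_centralizer_singleton_iff.2 ha.symm.eq))
    (zpowers_le.2 (mem_centralizer_singleton_iff.2 hb.symm.eq))
  exact (mem_centralizer_singleton_iff.1 (this he)).symm

/-- the elements of order dividing 3 that centralise `c` and `z` -/
theorem om (h : Bd M Q c z u) {r : G} (hc : Commute r c) (hz : Commute r z) (r3 : r ^ 3 = 1) :
    r ∈ zpowers c ⊔ zpowers z := by
  by_contra hn
  obtain ⟨e1, e2⟩ := H92.DPB.e9 h.y3 h.z3 (Bd.comm h).1 (Bd.ny h)
  exact h.bad ⟨_, H92.DPB.e27_sup e1 e2.ge r3 (fun a ha => (comm_sup hc hz ha).symm) hn,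
    mem_sup_left (mem_sup_left (mem_zpowers c))⟩

/-- a 3-subgroup of `C(c)` has a conjugate that centralises `c` and `z` -/
theorem move (h : Bd M Q c z u) (hR : IsPGroup 3 R) (Rc : R ≤ C1 c) :
    ∃ g : G, ∀ r ∈ R, Commute (g * r * g⁻¹) c ∧ Commute (g * r * g⁻¹) z := by
  have : Fact (Nat.Prime 3) := ⟨Nat.prime_three⟩
  obtain ⟨P, -, -, -, -, Pz, -, mx⟩ := h.syl
  have s : IsSyl 3 ((P : Subgroup G) ⊓ C1 c) (C1 c) :=
    ⟨inf_le_right, P.isPGroup'.to_inf_left, fun T hT h1 h2 =>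
      le_antisymm (le_inf (mx T hT h1 h2) h2) h1⟩
  obtain ⟨g, -, hg⟩ := s.exists_cj_le hR Rc
  refine ⟨g, fun r hr => ?_⟩
  have := hg (conj_mem_cj hr)
  exact ⟨mem_centralizer_singleton_iff.1 this.2, mem_centralizer_singleton_iff.1 (Pz this.1)⟩

theorem jobBG : JobBG.{u} := by
  intro c0
  have : Fact (Nat.Prime 3) := ⟨Nat.prime_three⟩
  refine ⟨fun G _ _ M Q R c x ub cM c3 bad hR Rc xR x3 r hr => ?_,
    fun G _ _ M Q a b c ub aM bM a3 b3 ab nb ga gb hc c1 => ?_⟩
  · obtain ⟨z, u, h⟩ := c0 G M Q c ub cM c3 bad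
    obtain ⟨g, hg⟩ := move h hR Rc
    have m := om h (hg x xR).1 (hg x xR).2 (by rw [conj_pow, ← x3, pow_orderOf_eq_one]; group)
    have e := (comm_sup (hg r hr).1 (hg r hr).2 m).eq
    refine mem_centralizer_singleton_iff.2 ?_
    calc r * x = g⁻¹ * (g * r * g⁻¹ * (g * x * g⁻¹)) * g := by group
      _ = x * r := by rw [e]; group
  · by_contra bad
    have na : a ∉ zpowers b := fun h => nb (by
      have : zpowers a = zpowers b :=
        eq_of_le_of_card_ge (zpowers_le.2 h) (by rw [Nat.card_zpowers, Nat.card_zpowers, a3, b3])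
      rw [this]
      exact mem_zpowers b)
    obtain ⟨e1, -⟩ := H92.DPB.e9 a3 b3 ab na
    have c3 : orderOf c = 3 := orderOf_eq_prime (e1.2 c hc) c1
    obtain ⟨z, u, h⟩ := c0 G M Q c ub (sup_le (zpowers_le.2 aM) (zpowers_le.2 bM) hc) c3 bad
    obtain ⟨g, hg⟩ := move h (H92.DPB.el_pg e1) fun r hr =>
      mem_centralizer_singleton_iff.2 (H92.DPB.el_comm e1 hr hc).eq
    have key : ∀ r ∈ zpowers a ⊔ zpowers b, Good r → g * r * g⁻¹ ∈ zpowers z := fun r hr gr =>
      Bd.good_mem h (om h (hg r hr).1 (hg r hr).2 (by rw [conj_pow, e1.2 r hr]; group))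
        (good_cj gr g)
    have ka := key a (mem_sup_left (mem_zpowers a)) ga
    have kb := key b (mem_sup_right (mem_zpowers b)) gb
    have oa : orderOf (g * a * g⁻¹) = 3 := by
      rw [← a3]
      exact (MulAut.conj g).orderOf_eq a
    have e : zpowers (g * a * g⁻¹) = zpowers z :=
      eq_of_le_of_card_ge (zpowers_le.2 ka) (by rw [Nat.card_zpowers, Nat.card_zpowers, oa, h.z3])
    rw [← e] at kb
    obtain ⟨k, hk⟩ := kb
    refine nb ⟨k, ?_⟩
    have hk' : g * a ^ k * g⁻¹ = g * b * g⁻¹ := by rw [← conj_zpow]; exact hk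
    exact mul_left_cancel (mul_right_cancel hk')

end H77.GsBG
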