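import Cfsg.Agent.H77.HPMB1

/-! HP tower, slot MB: the parabolic subgroups of `PSL₃(2^m)`. -/

set_option autoImplicit false

namespace H77.HP

open Subgroup H89.K H98 H82.HR H82.HP Matrix H57

variable {F : Type} [Field F]

theorem tv_congr {v v' ψ ψ' : V3 F} (h : ψ ⬝ᵥ v = 0) (h' : ψ' ⬝ᵥ v' = 0) (e : v = v') (e' : ψ = ψ') :
    tv v ψ h = tv v' ψ' h' := by subst e; subst e'; rfl

theorem irr : ∀ p ∈ PP F, ∀ y ∈ p, ∀ z ∈ p, y ≠ 1 → z ≠ 1 → ∃ g ∈ MM (LL F) p, g * y * g⁻¹ = z := by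
  rintro _ ⟨v, hv, rfl⟩ y hy z hz hy1 hz1
  obtain ⟨ψ, h, rfl⟩ := (mem_Ep hv).1 hy
  obtain ⟨ψ', h', rfl⟩ := (mem_Ep hv).1 hz
  obtain ⟨k, k1, k2⟩ := exists_flag hv (ne_of_pr_tv hy1) h
  obtain ⟨l, l1, l2⟩ := exists_flag hv (ne_of_pr_tv hz1) h'
  have e : act (l * k⁻¹) v = v := by rw [act_mul]; nth_rewrite 1 [← k1]; rw [act_inv, l1]
  refine ⟨pr (l * k⁻¹), (mem_MMP hv).2 ⟨_, e, rfl⟩, ?_⟩
  rw [← map_inv, ← map_mul, ← map_mul, conj_tv]
  congr 1
  refine tv_congr _ _ e ?_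
  rw [_root_.mul_inv_rev, inv_inv, co_mul, k2, ← l2, co_inv]

theorem cyc [Finite F] : ∀ p ∈ PP F, ∃ h ∈ ⊤ ⊓ nor p, ∀ g ∈ ⊤ ⊓ nor p, ∃ k : ℕ,
    (h ^ k)⁻¹ * g ∈ MM (LL F) p := by
  rintro _ ⟨v, hv, rfl⟩
  obtain ⟨ζ, hζ⟩ := IsCyclic.exists_monoid_generator (α := Fˣ)
  obtain ⟨φ, hφ, h1, -⟩ := exists_perp v v
  obtain ⟨k, k1, -⟩ := exists_flag hv hφ h1
  let h0 : SL3 F := k * dg (ζ : F) (ζ : F)⁻¹ 1 (by simp) * k⁻¹
  have e0 : act h0 v = (ζ : F) • v := by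
    rw [act_mul, act_mul, ← k1, act_inv, ← act_smul, act_dg]
    congr 1; funext i; fin_cases i <;> simp
  have en : ∀ n : ℕ, act (h0 ^ n) v = ((ζ ^ n : Fˣ) : F) • v := by
    intro n
    induction n with
    | zero => simp [act_one]
    | succ n ih => rw [pow_succ, act_mul, e0, act_smul, ih, smul_smul, pow_succ']; simp
  refine ⟨pr h0, ⟨mem_top _, (mem_nor_Ep hv).2 ⟨_, e0⟩⟩, fun y hy => ?_⟩
  obtain ⟨g, rfl⟩ := pr_surj y
  obtain ⟨c, hc⟩ := (mem_nor_Ep hv).1 hy.2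
  have hc0 : c ≠ 0 := fun e => act_ne g hv (by rw [hc, e, zero_smul])
  obtain ⟨n, hn⟩ := hζ (Units.mk0 c hc0)
  have hn' : ζ ^ n = Units.mk0 c hc0 := hn
  refine ⟨n, (mem_MMP hv).2 ⟨(h0 ^ n)⁻¹ * g, ?_, by rw [map_mul, map_inv, map_pow]⟩⟩
  have := en n
  rw [hn', Units.val_mk0, ← hc] at this
  rw [act_mul, ← this, act_inv]

/-- the stabiliser of a covector -/
def SS (φ : V3 F) : Subgroup (SL3 F) where
  carrier := {g | co φ g = φ}
  one_mem' := co_one φ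
  mul_mem' := fun {a b} ha hb => by
    have ha' : co φ a = φ := ha
    show co φ (a * b) = φ
    rw [co_mul, ha']; exact hb
  inv_mem' := fun {a} ha => by
    have ha' : co φ a = φ := ha
    show co φ a⁻¹ = φ
    nth_rewrite 1 [← ha']; rw [co_inv]

theorem blk_mul (g h : SL3 F) (hg : co e2 g = e2) (hh : co e2 h = e2) (k : co e2 (g * h) = e2) :
    blk (g * h) k = blk g hg * blk h hh := Subtype.ext (by
  obtain ⟨h0, h1, -⟩ := row_of hh
  show !![(g.1 * h.1) 0 0, (g.1 * h.1) 0 1; (g.1 * h.1) 1 0, (g.1 * h.1) 1 1] =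
    (blk g hg).1 * (blk h hh).1
  ext i j; fin_cases i <;> fin_cases j <;>
    simp [blk, Matrix.mul_apply, Fin.sum_univ_three, Fin.sum_univ_two, h0, h1])

theorem blk_emb (A : Matrix.SpecialLinearGroup (Fin 2) F) : blk (emb A) (co_emb A) = A :=
  Subtype.ext (by ext i j; fin_cases i <;> fin_cases j <;> simp [blk, emb])

theorem blk_congr {g h : SL3 F} (hg : co e2 g = e2) (hh : co e2 h = e2) (e : g = h) :
    blk g hg = blk h hh := by subst e; rfl

theorem blk_tv (w : V3 F) (h : (e2 : V3 F) ⬝ᵥ w = 0) (k : co e2 (tv w e2 h) = e2) :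
    blk (tv w e2 h) k = 1 :=
  Subtype.ext (by ext i j; fin_cases i <;> fin_cases j <;> simp [blk, vecMulVec_apply])

theorem conj_SS {φ : V3 F} {k : SL3 F} (hk : co φ k = e2) (g : SS φ) :
    co e2 (k⁻¹ * (g : SL3 F) * k) = e2 := by
  have hg : co φ g = φ := g.2
  rw [co_mul, co_mul, ← hk, co_inv, hg]

/-- the Levi map -/
def rho {φ : V3 F} {k : SL3 F} (hk : co φ k = e2) : SS φ →* Matrix.SpecialLinearGroup (Fin 2) F :=
  MonoidHom.mk' (fun g => blk (k⁻¹ * (g : SL3 F) * k) (conj_SS hk g)) fun a b => by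
    rw [← blk_mul _ _ _ _ (by rw [co_mul, conj_SS hk, conj_SS hk])]
    exact blk_congr _ _ (by simp [mul_assoc])

theorem center_two [CharP F 2] {A : Matrix.SpecialLinearGroup (Fin 2) F}
    (hA : A ∈ center (Matrix.SpecialLinearGroup (Fin 2) F)) : A = 1 := by
  obtain ⟨r, hr, e⟩ := Matrix.SpecialLinearGroup.mem_center_iff.1 hA
  have : r = 1 := CharTwo.sq_injective (by simpa using hr)
  subst this
  exact Subtype.ext (by rw [← e]; simp)

theorem levi [Fintype F] [CharP F 2] : ∀ l ∈ LL F,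
    ∃ φ : MM (PP F) l →* PSL2 F, Function.Surjective φ ∧ ∀ x, φ x = 1 ↔ (x : PSL3 F) ∈ l := by
  rintro _ ⟨φ, hφ, rfl⟩
  change ∃ ψ : MM (PP F) (El φ) →* PSL2 F, Function.Surjective ψ ∧ ∀ x, ψ x = 1 ↔ (x : PSL3 F) ∈ El φ
  obtain ⟨v, hv, h1, -⟩ := exists_perp φ φ
  obtain ⟨k, -, hk⟩ := exists_flag hv hφ (by rw [dotProduct_comm, h1])
  let f : SS φ →* MM (PP F) (El φ) :=
    (pr.comp (SS φ).subtype).codRestrict _ fun g => (mem_MML hφ).2 ⟨g, g.2, rfl⟩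
  have hf : Function.Surjective f := fun y => by
    obtain ⟨g, hg, e⟩ := (mem_MML hφ).1 y.2
    exact ⟨⟨g, hg⟩, Subtype.ext e⟩
  let r : SS φ →* PSL2 F := (QuotientGroup.mk' _).comp (rho hk)
  have hker : f.ker ≤ r.ker := fun g hg => by
    have e : pr (g : SL3 F) = pr 1 := by rw [map_one]; exact congrArg Subtype.val hg
    have : g = 1 := Subtype.ext (pr_inj hφ e g.2 (co_one φ))
    rw [this]; exact one_mem _
  refine ⟨f.liftOfSurjective hf ⟨r, hker⟩, fun y => ?_, fun x => ?_⟩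
  · obtain ⟨A, rfl⟩ := QuotientGroup.mk'_surjective _ y
    have hm : k * emb A * k⁻¹ ∈ SS φ := by
      show co φ _ = φ
      rw [co_mul, co_mul, hk, co_emb, ← hk, co_inv]
    refine ⟨f ⟨_, hm⟩, ?_⟩
    rw [MonoidHom.liftOfRightInverse_comp_apply]
    show QuotientGroup.mk' _ (blk _ (conj_SS hk ⟨_, hm⟩)) = _
    congr 1
    exact (blk_congr _ _ (by simp [mul_assoc])).trans (blk_emb A)
  · obtain ⟨g, rfl⟩ := hf x
    rw [MonoidHom.liftOfRightInverse_comp_apply]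
    show QuotientGroup.mk' _ (blk _ (conj_SS hk g)) = 1 ↔ pr (g : SL3 F) ∈ El φ
    constructor
    · intro e
      have e1 := center_two ((QuotientGroup.eq_one_iff _).1 e)
      have e2 := decomp _ (conj_SS hk g)
      rw [e1, emb_one, mul_one] at e2
      have e3 : (g : SL3 F) = k * (k⁻¹ * (g : SL3 F) * k) * k⁻¹ := by group
      rw [e3, e2, conj_tv]
      exact (mem_El hφ).2 ⟨_, _, congrArg pr (tv_congr _ (by
        rw [← co_dot, hk]; simp) rfl (by rw [← hk, co_inv]))⟩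
    · intro e
      obtain ⟨w, h, e⟩ := (mem_El hφ).1 e
      have e1 := pr_inj hφ e g.2 (by rw [co_tv, h, zero_smul, add_zero])
      have e2 := conj_tv k⁻¹ w φ h
      have h3 : (H77.HP.e2 : V3 F) ⬝ᵥ act k⁻¹ w = 0 := by rw [← hk, co_dot, act_inv', h]
      have e3 : k⁻¹ * (g : SL3 F) * k = tv (act k⁻¹ w) H77.HP.e2 h3 :=
        (by rw [e1, inv_inv] : _ = k⁻¹ * tv w φ h * k⁻¹⁻¹).trans
          (e2.trans (tv_congr _ _ rfl (by rw [inv_inv, hk])))
      rw [blk_congr _ (e3 ▸ conj_SS hk g) e3, blk_tv, map_one]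

theorem exists_frame {v v' u φ : V3 F} (hv : v ≠ 0) (hv' : v' ≠ 0) (hne : Ep v ≠ Ep v')
    (h1 : φ ⬝ᵥ v = 0) (h2 : φ ⬝ᵥ v' = 0) (h3 : φ ⬝ᵥ u ≠ 0) :
    ∃ (k : SL3 F) (c : F), c ≠ 0 ∧ act k e0 = v ∧ act k e1 = v' ∧ act k e2 = c • u := by
  classical
  let M : Matrix (Fin 3) (Fin 3) F := (Matrix.of ![v, v', u])ᵀ
  have hM : ∀ x : V3 F, M *ᵥ x = x 0 • v + x 1 • v' + x 2 • u := fun x => by
    funext i; simp [M, mulVec, dotProduct, Fin.sum_univ_three]; ring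
  have hd : M.det ≠ 0 := fun e => by
    obtain ⟨x, hx, e⟩ := Matrix.exists_mulVec_eq_zero_iff.2 e
    rw [hM] at e
    have e2 := congrArg (fun y => φ ⬝ᵥ y) e
    simp only [dotProduct_add, dotProduct_smul, h1, h2, mul_zero, zero_add, dotProduct_zero,
      smul_eq_mul] at e2
    have x2 : x 2 = 0 := (mul_eq_zero.1 e2).resolve_right h3
    rw [x2, zero_smul, add_zero] at e
    by_cases x0 : x 0 = 0
    · rw [x0, zero_smul, zero_add] at e
      have x1 : x 1 = 0 := (smul_eq_zero.1 e).resolve_right hv'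
      exact hx (by funext i; fin_cases i <;> assumption)
    · refine hne ((Ep_eq_iff hv hv').2 ⟨-((x 0)⁻¹ * x 1), ?_⟩)
      have : x 0 • v = -(x 1 • v') := eq_neg_of_add_eq_zero_left e
      rw [neg_smul, mul_smul, ← smul_neg, ← this, inv_smul_smul₀ x0]
  let k : SL3 F := ⟨M * diagonal ![1, 1, M.det⁻¹], by simp [Fin.prod_univ_three, hd]⟩
  have hk : ∀ x : V3 F, act k x = x 0 • v + x 1 • v' + (M.det⁻¹ * x 2) • u := fun x => by
    show (M * diagonal ![1, 1, M.det⁻¹]) *ᵥ x = _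
    rw [← mulVec_mulVec, hM]
    simp [mulVec_diagonal]
  exact ⟨k, M.det⁻¹, inv_ne_zero hd, by rw [hk]; simp, by rw [hk]; simp, by rw [hk]; simp⟩

/-- the torus -/
def del (k : SL3 F) : Fˣ →* SL3 F :=
  MonoidHom.mk' (fun t => k * dg (t : F) (t : F)⁻¹ 1 (by simp) * k⁻¹) fun a b => ext_act fun x => by
    simp only [act_mul, act_inv, act_dg]
    congr 1; funext i; fin_cases i <;> simp <;> ring

theorem act_del (k : SL3 F) (t : Fˣ) (x : V3 F) :
    act (del k t) (act k x) = act k ![t * x 0, (t : F)⁻¹ * x 1, 1 * x 2] := by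
  show act (k * dg (t : F) (t : F)⁻¹ 1 (by simp) * k⁻¹) _ = _
  rw [act_mul, act_mul, act_inv, act_dg]

theorem e_ne (i : Fin 3) : (Pi.single i 1 : V3 F) ≠ 0 := fun h => by simpa using congrFun h i

section Tor

variable {φ : V3 F} {k : SL3 F} {c : F} (hc : c ≠ 0) (hk : co φ k = c • e2)
include hc hk

theorem phi_ne : φ ≠ 0 := fun h => by
  rw [h] at hk
  have := congrFun hk 2
  simp [co] at this
  exact hc this.symm

omit hc in
theorem co_conj {d : SL3 F} (hd : co e2 d = e2) : co φ (k * d * k⁻¹) = φ := by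
  rw [co_mul, co_mul, hk, co_smul, hd, ← hk, co_inv]

omit hc in
theorem co_del (t : Fˣ) : co φ (del k t) = φ :=
  co_conj hk (by rw [co_dg]; funext i; fin_cases i <;> simp)

theorem mem_DT {y : PSL3 F} :
    y ∈ DT (PP F) (El φ) (Ep (act k e0)) (Ep (act k e1)) (Ep (act k e2)) ↔ ∃ t, pr (del k t) = y := by
  constructor
  · rintro ⟨⟨⟨h1, h2⟩, h3⟩, h4⟩
    obtain ⟨g, hg, rfl⟩ := (mem_MML (phi_ne hc hk)).1 h1
    obtain ⟨a, ha⟩ := (mem_nor_Ep (act_ne k (e_ne 0))).1 h2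
    obtain ⟨b, hb⟩ := (mem_nor_Ep (act_ne k (e_ne 1))).1 h3
    obtain ⟨d, hd⟩ := (mem_nor_Ep (act_ne k (e_ne 2))).1 h4
    have hd1 : d = 1 := by
      have := congrArg (fun x => φ ⬝ᵥ x) hd
      simp only [dotProduct_smul, ← co_dot, hg, hk] at this
      simp at this
      exact mul_right_cancel₀ hc (by rw [one_mul]; exact this.symm)
    have hx : ∀ x : V3 F, act (k⁻¹ * g * k) x = ![a * x 0, b * x 1, 1 * x 2] := fun x => by
      have hx : x = x 0 • e0 + x 1 • e1 + x 2 • e2 := by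
        funext i; fin_cases i <;> simp
      conv_lhs => rw [hx]
      simp only [act_mul, act_add', act_smul, ha, hb, hd, act_inv, hd1]
      funext i; fin_cases i <;> simp <;> ring
    have hm : (k⁻¹ * g * k).1 = diagonal ![a, b, 1] :=
      Matrix.toLin'.injective (LinearMap.ext fun x => (hx x).trans (by
        funext i; fin_cases i <;> simp [mulVec_diagonal]))
    have hdet := (k⁻¹ * g * k).2
    rw [hm] at hdet
    simp [Fin.prod_univ_three] at hdet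
    have ha0 : a ≠ 0 := left_ne_zero_of_mul_eq_one hdet
    refine ⟨Units.mk0 a ha0, congrArg pr (ext_act fun x => ?_)⟩
    rw [← act_inv' k x, act_del, ← act_mul g, ← act_inv' k (act (g * k) _), ← act_mul k⁻¹,
      ← mul_assoc, hx, eq_inv_of_mul_eq_one_right hdet]
    rfl
  · rintro ⟨t, rfl⟩
    refine ⟨⟨⟨(mem_MML (phi_ne hc hk)).2 ⟨_, co_del hk t, rfl⟩,
      (mem_nor_Ep (act_ne k (e_ne 0))).2 ⟨t, ?_⟩⟩,
      (mem_nor_Ep (act_ne k (e_ne 1))).2 ⟨(t : F)⁻¹, ?_⟩⟩, (mem_nor_Ep (act_ne k (e_ne 2))).2 ⟨1, ?_⟩⟩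
    all_goals
      rw [act_del, ← act_smul]
      congr 1; funext i; fin_cases i <;> simp

theorem on_line {s : Subgroup (PSL3 F)} (hs : s ∈ PP F) (hi : Inc s (El φ))
    (h0 : s ≠ Ep (act k e0)) (h1 : s ≠ Ep (act k e1)) :
    ∃ a b : F, a ≠ 0 ∧ b ≠ 0 ∧ s = Ep (act k ![a, b, 0]) := by
  obtain ⟨x, hx, rfl⟩ := hs
  have h2 := (inc_iff hx (phi_ne hc hk)).1 hi
  obtain ⟨y, rfl⟩ : ∃ y, x = act k y := ⟨_, (act_inv' k x).symm⟩
  rw [← co_dot, hk] at h2
  have y2 : y 2 = 0 := by simpa [hc] using h2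
  refine ⟨y 0, y 1, fun e => h1 ((Ep_eq_iff hx (act_ne k (e_ne 1))).2 ⟨y 1, ?_⟩),
    fun e => h0 ((Ep_eq_iff hx (act_ne k (e_ne 0))).2 ⟨y 0, ?_⟩), ?_⟩
  · rw [← act_smul]; congr 1; funext i; fin_cases i <;> simp [e, y2]
  · rw [← act_smul]; congr 1; funext i; fin_cases i <;> simp [e, y2]
  · show Ep _ = _
    congr 2; funext i; fin_cases i <;> simp [y2]

end Tor

theorem vec_ne {a b : F} (ha : a ≠ 0) : (![a, b, 0] : V3 F) ≠ 0 := fun h => ha (congrFun h 0)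

theorem cj_del (k : SL3 F) (t : Fˣ) {a b a' b' : F} (ha : a ≠ 0) (ha' : a' ≠ 0) :
    cj (pr (del k t)) (Ep (act k ![a, b, 0])) = Ep (act k ![a', b', 0]) ↔
      (t : F) ^ 2 * (a * b') = a' * b := by
  rw [cj_Ep _ (act_ne k (vec_ne ha)), Ep_eq_iff (act_ne _ (act_ne k (vec_ne ha))) (act_ne k (vec_ne ha')),
    act_del]
  have ht : (t : F) ≠ 0 := t.ne_zero
  constructor
  · rintro ⟨c, hc⟩
    rw [← act_smul] at hc
    have e := act_injective k hc
    have e0 : (t : F) * a = c * a' := by simpa using congrFun e 0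
    have e1 : (t : F)⁻¹ * b = c * b' := by simpa using congrFun e 1
    have e2 : b = t * (c * b') := by rw [← e1]; field_simp
    rw [e2]
    linear_combination (t * b') * e0
  · intro e
    refine ⟨t * a * a'⁻¹, ?_⟩
    rw [← act_smul]
    congr 1; funext i; fin_cases i
    · simp; field_simp
    · simp; field_simp; linear_combination -e
    · simp

theorem tor [Fintype F] [CharP F 2] {m : ℕ} (hF : Fintype.card F = 2 ^ m) :
    ∀ l ∈ LL F, ∀ p ∈ PP F, ∀ p' ∈ PP F, ∀ r ∈ PP F, p ≠ p' → Inc p l → Inc p' l → ¬ Inc r l →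
    IsCyclic (DT (PP F) l p p' r) ∧
    (∀ s ∈ PP F, ∀ s' ∈ PP F, Inc s l → Inc s' l → s ≠ p → s ≠ p' → s' ≠ p → s' ≠ p' →
      ∃! d, d ∈ DT (PP F) l p p' r ∧ cj d s = s') ∧
    (∃ w ∈ MM (PP F) l, cj w p = p' ∧ cj w p' = p ∧ cj w r = r) ∧
    (Even m → DT (PP F) l p p' r ⊓ MM (LL F) p ≠ ⊥) := by
  classical
  rintro _ ⟨φ, hφ, rfl⟩ _ ⟨v, hv, rfl⟩ _ ⟨v', hv', rfl⟩ _ ⟨u, hu, rfl⟩ hne i1 i2 i3
  have h1 := (inc_iff hv hφ).1 i1
  have h2 := (inc_iff hv' hφ).1 i2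
  have h3 : φ ⬝ᵥ u ≠ 0 := fun e => i3 ((inc_iff hu hφ).2 e)
  obtain ⟨k, c, hc, rfl, rfl, k2⟩ := exists_frame hv hv' hne h1 h2 h3
  have hc' : c * (φ ⬝ᵥ u) ≠ 0 := mul_ne_zero hc h3
  have hk : co φ k = (c * (φ ⬝ᵥ u)) • e2 := by
    have h4 : φ ⬝ᵥ act k e2 = c * (φ ⬝ᵥ u) := by rw [k2, dotProduct_smul, smul_eq_mul]
    rw [← co_dot] at h1 h2 h4
    funext i; fin_cases i
    · simpa using h1
    · simpa using h2
    · simpa using h4
  have hr : Subgroup.map (QuotientGroup.mk' _) (cP u) = Ep (act k e2) := by rw [k2, Ep_smul hu hc]; rfl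
  rw [hr]
  change IsCyclic (DT (PP F) (El φ) (Ep (act k e0)) (Ep (act k e1)) (Ep (act k e2))) ∧
    (∀ s ∈ PP F, ∀ s' ∈ PP F, Inc s (El φ) → Inc s' (El φ) → s ≠ Ep (act k e0) → s ≠ Ep (act k e1) →
      s' ≠ Ep (act k e0) → s' ≠ Ep (act k e1) → ∃! d,
      d ∈ DT (PP F) (El φ) (Ep (act k e0)) (Ep (act k e1)) (Ep (act k e2)) ∧ cj d s = s') ∧
    (∃ w ∈ MM (PP F) (El φ), cj w (Ep (act k e0)) = Ep (act k e1) ∧
      cj w (Ep (act k e1)) = Ep (act k e0) ∧ cj w (Ep (act k e2)) = Ep (act k e2)) ∧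
    (Even m → DT (PP F) (El φ) (Ep (act k e0)) (Ep (act k e1)) (Ep (act k e2)) ⊓
      MM (LL F) (Ep (act k e0)) ≠ ⊥)
  refine ⟨?_, ?_, ?_, fun hm => ?_⟩
  · refine isCyclic_of_surjective ((pr.comp (del k)).codRestrict _
      fun t => (mem_DT hc' hk).2 ⟨t, rfl⟩) fun y => ?_
    obtain ⟨t, e⟩ := (mem_DT hc' hk).1 y.2
    exact ⟨t, Subtype.ext e⟩
  · intro s hs s' hs' j1 j2 n1 n2 n3 n4
    obtain ⟨a, b, ha, hb, rfl⟩ := on_line hc' hk hs j1 n1 n2
    obtain ⟨a', b', ha', hb', rfl⟩ := on_line hc' hk hs' j2 n3 n4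
    obtain ⟨t, ht⟩ := FiniteField.isSquare_of_char_two (ringChar.eq F 2) (a' * b * (a * b')⁻¹)
    have ht0 : t ≠ 0 := by
      rintro rfl
      rw [mul_zero] at ht
      exact mul_ne_zero (mul_ne_zero ha' hb) (inv_ne_zero (mul_ne_zero ha hb')) ht
    have ht2 : t ^ 2 * (a * b') = a' * b := by rw [sq, ← ht]; field_simp
    refine ⟨pr (del k (Units.mk0 t ht0)), ⟨(mem_DT hc' hk).2 ⟨_, rfl⟩, (cj_del k _ ha ha').2 ht2⟩, ?_⟩
    rintro d ⟨hd, e⟩
    obtain ⟨t', rfl⟩ := (mem_DT hc' hk).1 hd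
    have e' := (cj_del k _ ha ha').1 e
    have : (t' : F) = t :=
      CharTwo.sq_injective (mul_right_cancel₀ (mul_ne_zero ha hb') (e'.trans ht2.symm))
    congr 2
    exact Units.ext this
  · let W : SL3 F := ⟨!![0, -1, 0; 1, 0, 0; 0, 0, 1], by simp [det_fin_three]⟩
    have hW : ∀ x : V3 F, act (k * W * k⁻¹) (act k x) = act k ![-x 1, x 0, x 2] := fun x => by
      rw [act_mul, act_mul, act_inv]
      congr 1; funext i; fin_cases i <;> simp [act, W, mulVec, dotProduct, Fin.sum_univ_three]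
    refine ⟨pr (k * W * k⁻¹), (mem_MML hφ).2 ⟨_, co_conj hk ?_, rfl⟩, ?_, ?_, ?_⟩
    · funext i; fin_cases i <;> simp [co, W, vecMul, dotProduct, Fin.sum_univ_three]
    · rw [cj_Ep _ (act_ne k (e_ne 0)), hW]
      congr 2; funext i; fin_cases i <;> simp
    · rw [cj_Ep _ (act_ne k (e_ne 1)), hW, ← Ep_smul (act_ne k (e_ne 0)) (neg_ne_zero.2 one_ne_zero),
        ← act_smul]
      congr 2; funext i; fin_cases i <;> simp
    · rw [cj_Ep _ (act_ne k (e_ne 2)), hW]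
      congr 2; funext i; fin_cases i <;> simp
  · have : Fact (Nat.Prime 3) := ⟨by norm_num⟩
    obtain ⟨ω, hω⟩ := exists_prime_orderOf_dvd_card (G := Fˣ) 3 (by
      rw [Fintype.card_units, hF]
      obtain ⟨n, rfl⟩ := hm
      rw [← two_mul, pow_mul]
      simpa using Nat.sub_dvd_pow_sub_pow 4 1 n)
    have h3 : (ω : F) ^ 3 = 1 := by
      rw [← Units.val_pow_eq_pow_val, ← hω, pow_orderOf_eq_one, Units.val_one]
    intro e
    have hm : pr (del k ω) ∈ DT (PP F) (El φ) (Ep (act k e0)) (Ep (act k e1)) (Ep (act k e2)) ⊓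
        MM (LL F) (Ep (act k e0)) := by
      refine ⟨(mem_DT hc' hk).2 ⟨_, rfl⟩, (mem_MMP (act_ne k (e_ne 0))).2
        ⟨k * dg 1 (ω : F) (ω ^ 2) (by linear_combination h3) * k⁻¹, ?_, pr_eq_of (c := ω) fun x => ?_⟩⟩
      · rw [act_mul, act_mul, act_inv, act_dg]
        congr 1; funext i; fin_cases i <;> simp
      · rw [← act_inv' k x, act_del, act_mul, act_mul, act_inv, act_dg, ← act_smul]
        have hi : (ω : F)⁻¹ = ω * ω := (eq_inv_of_mul_eq_one_right (by linear_combination h3)).symm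
        congr 1; funext i; fin_cases i
        · simp
        · simp only [hi]; simp [mul_assoc]
        · simp; linear_combination (-act k⁻¹ x 2) * h3
    rw [e, mem_bot, ← map_one pr] at hm
    have e1 := pr_inj hφ hm (co_del hk ω) (co_one φ)
    have e2 := act_del k ω e0
    rw [e1, act_one] at e2
    have e3 : (ω : F) = 1 := by simpa using (congrFun (act_injective k e2) 0).symm
    have e4 : ω = 1 := Units.ext e3
    rw [e4, orderOf_one] at hω
    omega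

theorem jobMB : JobMB := by
  intro F _ _ m _ hF
  have : Fact (Nat.Prime 2) := ⟨by norm_num⟩
  have : CharP F 2 := charP_of_card_eq_prime_pow hF
  exact ⟨irr, cyc, fun l hl => ⟨F, inferInstance, inferInstance, hF, levi l hl⟩, tor hF⟩

end H77.HP
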