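import Cfsg.Agent.H82.HPSpec
import Cfsg.Agent.H57.SLGen

/-! HP tower, slot MB, part 1: elation groups of `PSL₃(F)` and the groups `MM`. -/

set_option autoImplicit false

namespace H77.HP

open Subgroup H89.K H98 H82.HR H82.HP Matrix H57

variable {F : Type} [Field F]

abbrev V3 (F : Type) := Fin 3 → F
abbrev PSL3 (F : Type) [Field F] := ProjectiveSpecialLinearGroup (Fin 3) F
abbrev pr : SL3 F →* PSL3 F := QuotientGroup.mk' _
def Ep (v : V3 F) : Subgroup (PSL3 F) := (cP v).map pr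
def El (φ : V3 F) : Subgroup (PSL3 F) := (cL φ).map pr
/-- the action on covectors, from the right -/
def co (φ : V3 F) (g : SL3 F) : V3 F := φ ᵥ* (g : Matrix (Fin 3) (Fin 3) F)

theorem pr_surj (x : PSL3 F) : ∃ g, pr g = x := QuotientGroup.mk'_surjective _ x

theorem co_mul (φ : V3 F) (g h : SL3 F) : co φ (g * h) = co (co φ g) h := (vecMul_vecMul _ _ _).symm
theorem co_one (φ : V3 F) : co φ 1 = φ := vecMul_one φ
theorem co_dot (φ x : V3 F) (g : SL3 F) : co φ g ⬝ᵥ x = φ ⬝ᵥ act g x := (dotProduct_mulVec _ _ _).symm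
theorem co_smul (c : F) (φ : V3 F) (g : SL3 F) : co (c • φ) g = c • co φ g := smul_vecMul _ _ _
theorem act_smul (g : SL3 F) (c : F) (x : V3 F) : act g (c • x) = c • act g x := mulVec_smul _ _ _
theorem act_add' (g : SL3 F) (x y : V3 F) : act g (x + y) = act g x + act g y := mulVec_add _ _ _
theorem act_inv (g : SL3 F) (x : V3 F) : act g⁻¹ (act g x) = x := by
  rw [← act_mul, inv_mul_cancel, act_one]
theorem act_inv' (g : SL3 F) (x : V3 F) : act g (act g⁻¹ x) = x := by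
  rw [← act_mul, mul_inv_cancel, act_one]
theorem act_ne (g : SL3 F) {x : V3 F} (hx : x ≠ 0) : act g x ≠ 0 := fun h => hx (by
  rw [← act_inv g x, h]; exact mulVec_zero _)
theorem act_injective (g : SL3 F) {x y : V3 F} (h : act g x = act g y) : x = y := by
  rw [← act_inv g x, h, act_inv]
theorem co_inv (φ : V3 F) (g : SL3 F) : co (co φ g) g⁻¹ = φ := by
  rw [← co_mul, mul_inv_cancel, co_one]
theorem co_inv' (φ : V3 F) (g : SL3 F) : co (co φ g⁻¹) g = φ := by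
  rw [← co_mul, inv_mul_cancel, co_one]
theorem co_ne {φ : V3 F} (g : SL3 F) (hx : φ ≠ 0) : co φ g ≠ 0 := fun h => hx (by
  rw [← co_inv φ g, h]; exact zero_vecMul _)
theorem act_invT (g : SL3 F) (φ : V3 F) : act (invT g) φ = co φ g⁻¹ := mulVec_transpose _ _
theorem invT_invT (g : SL3 F) : invT (invT g) = g := by
  have : invT g * (g.transpose) = 1 := by
    apply Subtype.ext
    show ((g⁻¹ : SL3 F) : Matrix (Fin 3) (Fin 3) F)ᵀ * (g : Matrix (Fin 3) (Fin 3) F)ᵀ = 1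
    rw [← transpose_mul, sl_mul_inv_coe, transpose_one]
  have h2 : (invT g)⁻¹ = g.transpose := inv_eq_of_mul_eq_one_right this
  apply Subtype.ext
  show (((invT g)⁻¹ : SL3 F) : Matrix (Fin 3) (Fin 3) F)ᵀ = g
  rw [h2]; exact transpose_transpose _
theorem co_invT (v : V3 F) (g : SL3 F) : co v (invT g) = act g⁻¹ v := by
  have := act_invT (invT g)⁻¹ v
  rw [inv_inv, ← map_inv, invT_invT] at this
  exact this.symm

theorem act_tv (v φ : V3 F) (h : φ ⬝ᵥ v = 0) (x : V3 F) : act (tv v φ h) x = x + (φ ⬝ᵥ x) • v :=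
  tv_mulVec _ _ _ _
theorem co_tv (v φ : V3 F) (h : φ ⬝ᵥ v = 0) (x : V3 F) : co x (tv v φ h) = x + (x ⬝ᵥ v) • φ :=
  vecMul_tv _ _ _ _
theorem ext_act {g h : SL3 F} (e : ∀ x, act g x = act h x) : g = h :=
  Subtype.ext (Matrix.toLin'.injective (LinearMap.ext e))
theorem conj_tv (g : SL3 F) (v φ : V3 F) (h : φ ⬝ᵥ v = 0) :
    g * tv v φ h * g⁻¹ = tv (act g v) (co φ g⁻¹) (by rw [co_dot, act_inv, h]) := sl_conj_tv _ _ _ _
theorem invT_tv (v φ : V3 F) (h : φ ⬝ᵥ v = 0) :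
    invT (tv v φ h) = tv φ (-v) (by rw [neg_dotProduct, dotProduct_comm, h, neg_zero]) :=
  ext_act fun x => by
    rw [act_invT, tv_inv, co_tv, act_tv, dotProduct_comm]

theorem tv_mem_cP (v ψ : V3 F) (h : ψ ⬝ᵥ v = 0) : tv v ψ h ∈ cP v :=
  ⟨by rw [act_tv, h, zero_smul, add_zero], fun x => ⟨_, act_tv _ _ _ _⟩⟩

theorem mem_cP {v : V3 F} (hv : v ≠ 0) {g : SL3 F} (hg : g ∈ cP v) :
    ∃ ψ h, g = tv v ψ h := by
  choose c hc using hg.2
  have key : ∀ x, act g x = x + ((fun j => c (Pi.single j 1)) ⬝ᵥ x) • v := by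
    intro x
    have hx : x = x 0 • Pi.single 0 1 + x 1 • Pi.single 1 1 + x 2 • Pi.single 2 1 := by
      funext i; fin_cases i <;> simp
    conv_lhs => rw [hx]
    rw [act_add', act_add', act_smul, act_smul, act_smul, hc, hc, hc]
    funext i
    fin_cases i <;> simp [dotProduct, Fin.sum_univ_three] <;> ring
  have h0 : (fun j => c (Pi.single j 1)) ⬝ᵥ v = 0 := by
    have := key v
    rw [hg.1, left_eq_add] at this
    exact (smul_eq_zero.1 this).resolve_right hv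
  exact ⟨_, h0, ext_act fun x => by rw [key, act_tv]⟩

theorem tv_mem_cL (w φ : V3 F) (h : φ ⬝ᵥ w = 0) : tv w φ h ∈ cL φ := by
  show invT _ ∈ cP φ
  rw [invT_tv]; exact tv_mem_cP _ _ _

theorem mem_cL {φ : V3 F} (hφ : φ ≠ 0) {g : SL3 F} (hg : g ∈ cL φ) : ∃ w h, g = tv w φ h := by
  obtain ⟨ψ, h, e⟩ := mem_cP hφ (show invT g ∈ cP φ from hg)
  refine ⟨-ψ, by rw [dotProduct_neg, dotProduct_comm, h, neg_zero], ?_⟩
  rw [← invT_invT g, e, invT_tv]
  exact ext_act fun x => by rw [act_tv, act_tv]; simp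

theorem pr_eq {g h : SL3 F} (e : pr g = pr h) : ∃ c : F, ∀ x, act h x = c • act g x := by
  obtain ⟨z, hz, rfl⟩ := (QuotientGroup.mk'_eq_mk' _).1 e
  obtain ⟨r, -, hr⟩ := Matrix.SpecialLinearGroup.mem_center_iff.1 hz
  refine ⟨r, fun x => ?_⟩
  rw [act_mul, ← act_smul]
  congr 1
  rw [act, ← hr]
  funext i; simp [mulVec_diagonal]

theorem pr_eq_of {g h : SL3 F} {c : F} (e : ∀ x, act h x = c • act g x) : pr g = pr h := by
  refine (QuotientGroup.mk'_eq_mk' _).2 ⟨g⁻¹ * h, ?_, by group⟩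
  refine Subgroup.mem_center_iff.2 fun k => ext_act fun x => ?_
  simp only [act_mul, e, act_smul, act_inv]

/-- `pr` is injective on the stabiliser of a covector -/
theorem pr_inj {g h : SL3 F} {φ : V3 F} (hφ : φ ≠ 0) (e : pr g = pr h) (hg : co φ g = φ)
    (hh : co φ h = φ) : g = h := by
  obtain ⟨c, hc⟩ := pr_eq e
  obtain ⟨w, hw⟩ := exists_dot_eq_one hφ
  have h1 : φ ⬝ᵥ act h w = 1 := by rw [← co_dot, hh, hw]
  rw [hc, dotProduct_smul, ← co_dot, hg, hw, smul_eq_mul, mul_one] at h1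
  exact ext_act fun x => by rw [hc, h1, one_smul]

theorem exists_perp (v v' : V3 F) : ∃ φ : V3 F, φ ≠ 0 ∧ φ ⬝ᵥ v = 0 ∧ φ ⬝ᵥ v' = 0 := by
  classical
  obtain ⟨φ, h0, h⟩ := (Matrix.exists_mulVec_eq_zero_iff (M := Matrix.of ![v, v', 0])).2
    (det_eq_zero_of_row_eq_zero 2 fun j => rfl)
  exact ⟨φ, h0, by rw [dotProduct_comm]; exact congrFun h 0,
    by rw [dotProduct_comm]; exact congrFun h 1⟩

theorem tv_inj {v ψ v' ψ' : V3 F} {h : ψ ⬝ᵥ v = 0} {h' : ψ' ⬝ᵥ v' = 0}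
    (e : pr (tv v ψ h) = pr (tv v' ψ' h')) (x : V3 F) : (ψ ⬝ᵥ x) • v = (ψ' ⬝ᵥ x) • v' := by
  obtain ⟨φ, h0, h1, h2⟩ := exists_perp v v'
  have := pr_inj h0 e (by rw [co_tv, h1, zero_smul, add_zero]) (by rw [co_tv, h2, zero_smul, add_zero])
  have e2 := congrArg (fun g => act g x) this
  simpa only [act_tv, add_right_inj] using e2

theorem mem_Ep {v : V3 F} (hv : v ≠ 0) {y : PSL3 F} : y ∈ Ep v ↔ ∃ ψ h, y = pr (tv v ψ h) :=
  ⟨fun ⟨_, hg, e⟩ => by obtain ⟨ψ, h, rfl⟩ := mem_cP hv hg; exact ⟨ψ, h, e.symm⟩,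
    fun ⟨ψ, h, e⟩ => ⟨_, tv_mem_cP v ψ h, e.symm⟩⟩

theorem mem_El {φ : V3 F} (hφ : φ ≠ 0) {y : PSL3 F} : y ∈ El φ ↔ ∃ w h, y = pr (tv w φ h) :=
  ⟨fun ⟨_, hg, e⟩ => by obtain ⟨w, h, rfl⟩ := mem_cL hφ hg; exact ⟨w, h, e.symm⟩,
    fun ⟨w, h, e⟩ => ⟨_, tv_mem_cL w φ h, e.symm⟩⟩

theorem pr_tv_ne {v ψ : V3 F} (h : ψ ⬝ᵥ v = 0) (hv : v ≠ 0) (hψ : ψ ≠ 0) : pr (tv v ψ h) ≠ 1 := by
  intro e
  rw [← map_one pr, ← tv_zero_right v (zero_dotProduct v)] at e
  obtain ⟨w, hw⟩ := exists_dot_eq_one hψ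
  have := tv_inj e w
  rw [hw, one_smul, zero_dotProduct, zero_smul] at this
  exact hv this

theorem ne_of_pr_tv {v ψ : V3 F} {h : ψ ⬝ᵥ v = 0} (e : pr (tv v ψ h) ≠ 1) : ψ ≠ 0 := by
  rintro rfl
  exact e (by rw [tv_zero_right, map_one])

theorem inc_iff {v φ : V3 F} (hv : v ≠ 0) (hφ : φ ≠ 0) : Inc (Ep v) (El φ) ↔ φ ⬝ᵥ v = 0 := by
  constructor
  · intro h
    obtain ⟨⟨y, h1, h2⟩, hy⟩ := (Subgroup.ne_bot_iff_exists_ne_one).1 h
    have hy' : y ≠ 1 := fun e => hy (Subtype.ext e)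
    obtain ⟨ψ, k, rfl⟩ := (mem_Ep hv).1 h1
    obtain ⟨w, k', e⟩ := (mem_El hφ).1 h2
    obtain ⟨x, hx⟩ := exists_dot_eq_one (ne_of_pr_tv hy')
    have := tv_inj e x
    rw [hx, one_smul] at this
    rw [this, dotProduct_smul, k', smul_zero]
  · intro h e
    have : pr (tv v φ h) ∈ Ep v ⊓ El φ := ⟨(mem_Ep hv).2 ⟨_, _, rfl⟩, (mem_El hφ).2 ⟨_, _, rfl⟩⟩
    rw [e, mem_bot] at this
    exact pr_tv_ne h hv hφ this

theorem Ep_smul {v : V3 F} (hv : v ≠ 0) {c : F} (hc : c ≠ 0) : Ep (c • v) = Ep v := by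
  have key : ∀ (v : V3 F) (c : F), v ≠ 0 → c ≠ 0 → Ep (c • v) ≤ Ep v := by
    intro v c hv hc y hy
    obtain ⟨ψ, h, rfl⟩ := (mem_Ep (smul_ne_zero hc hv)).1 hy
    exact (mem_Ep hv).2 ⟨c • ψ, by rw [smul_dotProduct, ← dotProduct_smul, h], by rw [tv_smul]⟩
  refine le_antisymm (key v c hv hc) ?_
  have := key (c • v) c⁻¹ (smul_ne_zero hc hv) (inv_ne_zero hc)
  rwa [inv_smul_smul₀ hc] at this

theorem Ep_eq_iff {v v' : V3 F} (hv : v ≠ 0) (hv' : v' ≠ 0) : Ep v = Ep v' ↔ ∃ c : F, v = c • v' := by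
  constructor
  · intro e
    obtain ⟨ψ, h0, h, -⟩ := exists_perp v v
    obtain ⟨ψ', h', e'⟩ := (mem_Ep hv').1 (e ▸ (mem_Ep hv).2 ⟨ψ, h, rfl⟩)
    obtain ⟨x, hx⟩ := exists_dot_eq_one h0
    have := tv_inj e' x
    rw [hx, one_smul] at this
    exact ⟨_, this⟩
  · rintro ⟨c, rfl⟩
    exact Ep_smul hv' (fun h => hv (by rw [h, zero_smul]))

theorem cj_Ep (g : SL3 F) {v : V3 F} (hv : v ≠ 0) : cj (pr g) (Ep v) = Ep (act g v) := by
  ext y
  rw [mem_cj, mem_Ep hv, mem_Ep (act_ne g hv)]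
  constructor
  · rintro ⟨ψ, h, e⟩
    exact ⟨_, _, by rw [← conj_tv g v ψ h, map_mul, map_mul, ← e, map_inv]; group⟩
  · rintro ⟨ψ, h, rfl⟩
    have := conj_tv g⁻¹ _ ψ h
    simp only [act_inv, inv_inv] at this
    exact ⟨_, _, by rw [← this, map_mul, map_mul, map_inv]⟩

theorem mem_nor_Ep {g : SL3 F} {v : V3 F} (hv : v ≠ 0) :
    pr g ∈ nor (Ep v) ↔ ∃ c : F, act g v = c • v := by
  rw [← cj_eq_self_iff, cj_Ep g hv, Ep_eq_iff (act_ne g hv) hv]

/-! ### generation -/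

/-- the block embedding -/
def emb (A : SpecialLinearGroup (Fin 2) F) : SL3 F :=
  ⟨!![A.1 0 0, A.1 0 1, 0; A.1 1 0, A.1 1 1, 0; 0, 0, 1], by
    have := A.2
    rw [det_fin_two] at this
    simp [det_fin_three, this]⟩

theorem emb_one : emb (1 : SpecialLinearGroup (Fin 2) F) = 1 := Subtype.ext (by
  ext i j; fin_cases i <;> fin_cases j <;> simp [emb])

theorem emb_mul (A B : SpecialLinearGroup (Fin 2) F) : emb (A * B) = emb A * emb B := Subtype.ext (by
  show _ = (emb A).1 * (emb B).1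
  ext i j; fin_cases i <;> fin_cases j <;>
    simp [emb, Matrix.mul_apply, Fin.sum_univ_three, Fin.sum_univ_two])

abbrev e0 : V3 F := Pi.single 0 1
abbrev e1 : V3 F := Pi.single 1 1
abbrev e2 : V3 F := Pi.single 2 1

theorem co_emb (A : SpecialLinearGroup (Fin 2) F) : co e2 (emb A) = e2 := by
  funext i; fin_cases i <;> simp [co, emb, vecMul, dotProduct, Fin.sum_univ_three]

theorem row_of {g : SL3 F} (h : co e2 g = e2) : g.1 2 0 = 0 ∧ g.1 2 1 = 0 ∧ g.1 2 2 = 1 := by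
  have h0 := congrFun h 0
  have h1 := congrFun h 1
  have h2 := congrFun h 2
  simp [co] at h0 h1 h2
  exact ⟨h0, h1, h2⟩

/-- the upper left block -/
def blk (g : SL3 F) (h : co e2 g = e2) : SpecialLinearGroup (Fin 2) F :=
  ⟨!![g.1 0 0, g.1 0 1; g.1 1 0, g.1 1 1], by
    obtain ⟨h0, h1, h2⟩ := row_of h
    have := g.2
    rw [det_fin_three, h0, h1, h2] at this
    rw [det_fin_two]
    simpa using this⟩

theorem decomp (g : SL3 F) (h : co e2 g = e2) :
    g = tv ![g.1 0 2, g.1 1 2, 0] e2 (by simp) * emb (blk g h) := ext_act fun x => by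
  obtain ⟨h0, h1, h2⟩ := row_of h
  rw [act_mul, act_tv]
  funext i; fin_cases i <;>
    simp [act, emb, blk, mulVec, dotProduct, Fin.sum_univ_three, h0, h1, h2] <;> ring

theorem gen0 (H : Subgroup (SL3 F)) (hH : ∀ v ψ h, (e2 : V3 F) ⬝ᵥ v = 0 → tv v ψ h ∈ H)
    (g : SL3 F) (h : co e2 g = e2) : g ∈ H := by
  rw [decomp g h]
  refine mul_mem (hH _ _ _ (by simp)) ?_
  refine sl_transvection_induction (fun A => emb A ∈ H) (by rw [emb_one]; exact one_mem _) ?_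
    (fun A B hA hB => by rw [emb_mul]; exact mul_mem hA hB) _
  intro i j hij c
  have : emb (SpecialLinearGroup.transvection hij c) =
      tv (Pi.single i.castSucc c) (Pi.single j.castSucc 1) (by
        simp [hij.symm]) := Subtype.ext (by
    ext a b
    fin_cases i <;> fin_cases j <;> first | exact absurd rfl hij | skip
    all_goals fin_cases a <;> fin_cases b <;>
      simp [emb, vecMulVec_apply, SpecialLinearGroup.transvection, Matrix.transvection])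
  rw [this]
  exact hH _ _ _ (by fin_cases i <;> simp)

/-- the diagonal matrices -/
def dg (a b c : F) (h : a * b * c = 1) : SL3 F :=
  ⟨diagonal ![a, b, c], by simp [Fin.prod_univ_three, h]⟩

theorem act_dg (a b c : F) (h : a * b * c = 1) (x : V3 F) :
    act (dg a b c h) x = ![a * x 0, b * x 1, c * x 2] := by
  funext i; fin_cases i <;> simp [act, dg, mulVec_diagonal]

theorem co_dg (a b c : F) (h : a * b * c = 1) (x : V3 F) :
    co x (dg a b c h) = ![x 0 * a, x 1 * b, x 2 * c] := by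
  funext i; fin_cases i <;> simp [co, dg, vecMul_diagonal]

theorem exists_flag {v φ : V3 F} (hv : v ≠ 0) (hφ : φ ≠ 0) (h : φ ⬝ᵥ v = 0) :
    ∃ g : SL3 F, act g e0 = v ∧ co φ g = e2 := by
  obtain ⟨g, c, hc, h1, h2⟩ := exists_sl_flag hv hφ h (show (0 : Fin 3) ≠ 2 by decide)
  refine ⟨g * dg c c⁻¹ 1 (by simp [hc]), ?_, ?_⟩
  · rw [act_mul, act_dg, ← h1, act]
    congr 1; funext i; fin_cases i <;> simp
  · rw [co_mul, co, co, h2]
    exact (co_dg _ _ _ _ _).trans (by funext i; fin_cases i <;> simp)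

theorem genL {φ : V3 F} (hφ : φ ≠ 0) (H : Subgroup (SL3 F))
    (hH : ∀ v ψ h, φ ⬝ᵥ v = 0 → tv v ψ h ∈ H) (g : SL3 F) (h : co φ g = φ) : g ∈ H := by
  obtain ⟨v, hv, h1, -⟩ := exists_perp φ φ
  obtain ⟨k, -, hk⟩ := exists_flag hv hφ (by rw [dotProduct_comm, h1])
  have := gen0 (H.comap (MulAut.conj k).toMonoidHom) (fun w ψ h' hw => by
    show k * _ * k⁻¹ ∈ H
    rw [conj_tv]
    exact hH _ _ _ (by rw [← co_dot, hk, hw])) (k⁻¹ * g * k) (by
      rw [co_mul, co_mul, ← hk, co_inv, h])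
  have h2 : k * (k⁻¹ * g * k) * k⁻¹ ∈ H := this
  simpa [mul_assoc] using h2

theorem genP {v : V3 F} (hv : v ≠ 0) (H : Subgroup (SL3 F))
    (hH : ∀ w φ h, φ ⬝ᵥ v = 0 → tv w φ h ∈ H) (g : SL3 F) (h : act g v = v) : g ∈ H := by
  have := genL hv (H.comap invT) (fun w ψ h' hw => by
    show invT _ ∈ H
    have e : invT (tv w ψ h') = tv (-ψ) w (by rw [dotProduct_neg, dotProduct_comm, h', neg_zero]) := by
      rw [invT_tv]
      exact ext_act fun x => by rw [act_tv, act_tv]; simp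
    rw [e]
    exact hH _ _ _ (by rw [dotProduct_comm, hw])) (invT g) (by
      rw [co_invT]; nth_rewrite 1 [← h]; rw [act_inv])
  have h2 : invT (invT g) ∈ H := this
  rwa [invT_invT] at h2

theorem mem_MML {φ : V3 F} (hφ : φ ≠ 0) {y : PSL3 F} :
    y ∈ MM (PP F) (El φ) ↔ ∃ g, co φ g = φ ∧ pr g = y := by
  constructor
  · intro hy
    let S : Subgroup (SL3 F) :=
      { carrier := {g | co φ g = φ}
        one_mem' := co_one φ
        mul_mem' := fun {a b} ha hb => by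
          have ha' : co φ a = φ := ha
          show co φ (a * b) = φ
          rw [co_mul, ha']; exact hb
        inv_mem' := fun {a} ha => by
          have ha' : co φ a = φ := ha
          show co φ a⁻¹ = φ
          nth_rewrite 1 [← ha']; rw [co_inv] }
    have : MM (PP F) (El φ) ≤ S.map pr := by
      refine sSup_le ?_
      rintro _ ⟨⟨v, hv, rfl⟩, hi⟩ z hz
      have h0 := (inc_iff hv hφ).1 fun e => hi (by rw [inf_comm]; exact e)
      obtain ⟨ψ, h, rfl⟩ := (mem_Ep hv).1 hz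
      exact ⟨_, show co φ _ = φ by rw [co_tv, h0, zero_smul, add_zero], rfl⟩
    exact this hy
  · rintro ⟨g, hg, rfl⟩
    refine genL hφ ((MM (PP F) (El φ)).comap pr) (fun v ψ h h0 => ?_) g hg
    by_cases hv : v = 0
    · subst hv; rw [tv_zero_left]; exact one_mem _
    have : Ep v ≤ MM (PP F) (El φ) := le_sSup ⟨⟨v, hv, rfl⟩, fun e =>
      (inc_iff hv hφ).2 h0 (by rw [inf_comm]; exact e)⟩
    exact this ((mem_Ep hv).2 ⟨ψ, h, rfl⟩)

theorem mem_MMP {v : V3 F} (hv : v ≠ 0) {y : PSL3 F} :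
    y ∈ MM (LL F) (Ep v) ↔ ∃ g, act g v = v ∧ pr g = y := by
  constructor
  · intro hy
    let S : Subgroup (SL3 F) :=
      { carrier := {g | act g v = v}
        one_mem' := act_one v
        mul_mem' := fun {a b} ha hb => by
          have hb' : act b v = v := hb
          show act (a * b) v = v
          rw [act_mul, hb']; exact ha
        inv_mem' := fun {a} ha => by
          have ha' : act a v = v := ha
          show act a⁻¹ v = v
          nth_rewrite 1 [← ha']; rw [act_inv] }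
    have : MM (LL F) (Ep v) ≤ S.map pr := by
      refine sSup_le ?_
      rintro _ ⟨⟨φ, hφ, rfl⟩, hi⟩ z hz
      have h0 := (inc_iff hv hφ).1 hi
      obtain ⟨w, h, rfl⟩ := (mem_El hφ).1 hz
      exact ⟨_, show act _ v = v by rw [act_tv, h0, zero_smul, add_zero], rfl⟩
    exact this hy
  · rintro ⟨g, hg, rfl⟩
    refine genP hv ((MM (LL F) (Ep v)).comap pr) (fun w φ h h0 => ?_) g hg
    by_cases hφ : φ = 0
    · subst hφ; rw [tv_zero_right]; exact one_mem _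
    have : El φ ≤ MM (LL F) (Ep v) := le_sSup ⟨⟨φ, hφ, rfl⟩, (inc_iff hv hφ).2 h0⟩
    exact this ((mem_El hφ).2 ⟨w, h, rfl⟩)

end H77.HP
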