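/- One-number codes for the elements of the subgroup `2^11 : M24` of a group of Janko-four type. -/
import Cfsg.Agent.H80.J4K
import Cfsg.Agent.H80.J4N
import Cfsg.Agent.H77.NC

set_option autoImplicit false
set_option maxRecDepth 100000
set_option Elab.async false

open Cfsg H72 H50 H80 H80.J4

namespace H77.Cl

def lT0 : ℕ := nat_lit 0xdcbbd56aac5d8bb557aae52464ce89d0320644e99d2306408a0141202400a11432fe9f91e23d4fa9f11f23f4a2b41492935a6b494829155a6b0f71ef35e6b8f61ed3784f4bf97e27c4fcbe97c28090501a0248490d00a004d33a2554ab9d73aa544a992be53eb7d7f2fe5bea7d5f09c17a3f46e0dc1fa2f44ef11e61dc3a8f51ee1cc388ad35e4ac949a93564bc96955eaff4fe8f51ea7f5feaf77cebbc779e73ce3bd77be8f11a0240588b112034078d3ba3556abdd7bab546a9d2b652eb5d7b2f65aea5d5b09416a3d46a0d41ea2d44af19e71de3acf59ef1ce38cadb5f4ae94da9b574be96d556aef4de8b516a6f5deab774eabc579a734e2bd57ba8f91b02605c8b91303607cdc3bc568ac1d83b4578ae124e4de8bd0720e45e9bd2706c09a0341602c01a13436fe1f81e03d0fa1f01f03f0a2340490931a63484809115aeb1f73ef75eeb9f63ed778cf5bfb7e67ccfdbeb7c6801040180208410c008000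
def lT1 : ℕ := nat_lit 0x8b23a4de50c3074ce330d69d016086dbd26560a6b8679d416887dbf2616026a8658b63acdf50e3034c6320d4d52865a67fc6e7f0f4b226c30aa1fef4d785dcb13a97c34aa9fff4f781dc312a95d5686da77fe6e3f074a224765c0b2bae7cd0b61c6f3d607ecf73256db29a59e78c603ec772254db69ad9f78e761c032aae5cd4b69c7f3f2857ca538179300a0bedcd3e750e0b0a6852264e657c3e35060a0a485626ce757e2817c2528159340a8bfdcf32d49a398c38983f0d4d1924f65e610729fa1348c5a824b656600709fe13c8d5aa329492388c189c3f8d5d1b6cdf5b41a33d78831acfe97afd9f19282c1aaf5f47587abd9718280c1eafdf575a6c9f5340a31d7c839adfebcfab35cc72874fc5f212f2d989f194f9962de9b79a43d9c9f995f9b629e9378a41cfeb3dcd72a74bc57202f091a0f4b45d82af79e59002878230ecd693cd55a018b387c238edd6b3c9552008b191e0fcb55da2ab79658000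
def lT2 : ℕ := nat_lit 0x5791d6b0ba841d31ee9b1ad9801488fd8cfc2dcd1f6a69961648a587fd4de11aeae787d470e28f1c51c29e9a5910068abdc4f52ced3b6ed701c4b2facc1430cebf1e6717c672a2c71550e2ba9ee906044ae5cff44cc13eee8a4a6dc7d469c08a59edf4045bafff936121967a6984b44dad3fcb6a20f6566c043a5c6f078c62c1ea75e87484cbbdfdd32928975a4d800ada7fc59421c98b79c9f0bacc7d05cc2ac8eb55cc7034ddbf3d8b2229f77648005791d6b0ba841d31ee9b1ad9801488fd8cfc2dcd1f6a69961648a587fd4de11aeae787d470e28f1c51c29e9a5910068abdc4f52ced3b6ed701c4b2facc1430cebf1e6717c672a2c71550e2ba9ee906044ae5cff44cc13eee8a4a6dc7d469c08a59edf4045bafff936121967a6984b44dad3fcb6a20f6566c043a5c6f078c62c1ea75e87484cbbdfdd32928975a4d800ada7fc59421c98b79c9f0bacc7d05cc2ac8eb55cc7034ddbf3d8b2229f7764800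
def pT0 : ℕ := nat_lit 0x2408852018852410852000852408452018452410452000450408c50018c50410c50000c5040805001805041005000005a40884a01884a41084a00084a40844a01844a41044a000448408c48018c48410c48000c4840804801804841004800004a40881a01881a41081a00081a40841a01841a41041a000418408c18018c18410c18000c18408018018018410018000012408802018802410802000802408402018402410402000400408c00018c00410c00000c0040800001800041000000000
def pT1 : ℕ := nat_lit 0x982107902105982005902007980127900125980025900027882127802125882025802027880107800105880005800007182100102102182002102000180120100122180022100020082120002122082022002020080100000102080002000000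
def tDl : List (ℕ × ℕ × ℕ) := [(nat_lit 984818244535754528103549039458486304, 1, 0), (nat_lit 984818244535754528103549039458486304, 2, 0), (nat_lit 984818244535754528103549039458486304, 4, 0), (nat_lit 984818244535754528103549039458486304, 8, 0), (nat_lit 984818244535754528103549039458486304, 16, 0), (nat_lit 984818244535754528103549039458486304, 32, 0), (nat_lit 984818244535754528103549039458486304, 0, 1), (nat_lit 773207938499848770619165146141206895, 6, 1), (nat_lit 773207938499848770619165146141206895, 18, 0)]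
def tYl : List ℕ := [nat_lit 128239880518672107343207785601657409537, nat_lit 12265954967183891845053057427203864578, nat_lit 60271147968293074441470660543307233284, nat_lit 230396762856403896460137922736108341256, nat_lit 1968876559618573115637670414902867591184, nat_lit 1991705960673460363085359025290995630112, nat_lit 2016907764809225273556068432810979951616, nat_lit 1210979727661032157416813948360003492160, nat_lit 1251241276661890349981694318869574130304]
def idN : ℕ := nat_lit 2016907764809225273556068432810979950592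

/-- `∀ i < n`, reducing quickly. -/
noncomputable def allR (f : ℕ → Bool) (n : ℕ) : Bool :=
  Nat.rec true (fun i acc => Bool.rec false acc (f i)) n

theorem allR_spec {f : ℕ → Bool} {n : ℕ} (h : allR f n = true) : ∀ i < n, f i = true := by
  induction n with
  | zero => intro i hi; omega
  | succ n ih =>
    have e : allR f (n + 1) = Bool.rec false (allR f n) (f n) := rfl
    rw [e] at h
    cases hf : f n with
    | false => rw [hf] at h; exact absurd h (by simp)
    | true =>
      rw [hf] at h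
      intro i hi
      rcases Nat.lt_succ_iff_lt_or_eq.1 hi with h1 | rfl
      exacts [ih h i h1, hf]

theorem allR_off {f : ℕ → Bool} {a n : ℕ} (h : allR (fun i => force (Nat.add a i) f) n = true) :
    ∀ i, a ≤ i → i < a + n → f i = true := fun i h1 h2 => by
  have := allR_spec h (i - a) (by omega)
  rwa [force_eq, show Nat.add a (i - a) = i from by show a + (i - a) = i; omega] at this

theorem xorSel_append (l l' : List ℕ) (c : ℕ) :
    xorSel (l ++ l') c = Nat.xor (xorSel l c) (xorSel l' (Nat.shiftRight c l.length)) := by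
  induction l generalizing c with
  | nil => simp [xorSel]
  | cons b l ih =>
    rw [List.cons_append, xorSel, ih, xorSel, nxor_assoc, List.length_cons]
    congr 3
    show c >>> 1 >>> l.length = c >>> (l.length + 1)
    rw [← Nat.shiftRight_add, add_comm]

theorem xorSel_mod (l : List ℕ) (c : ℕ) : xorSel l c = xorSel l (c % 2 ^ l.length) := by
  have h1 := xorSel_mmul l (idM l.length) c
  rw [xorSel_idM] at h1
  rw [← h1]
  congr 1
  refine List.ext_getElem (by
    have : ∀ n, (idM n).length = n := fun n => by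
      induction n with
      | zero => rfl
      | succ n ih => simp [idM]
    simp [mmul, this]) fun i h1 h2 => ?_
  have e1 := xorSel_two_pow (mmul l (idM l.length)) i
  rw [xorSel_mmul, xorSel_idM' (Nat.pow_lt_pow_right (by norm_num) h1), xorSel_two_pow,
    List.getD_eq_getElem _ _ h1, List.getD_eq_getElem _ _ h2] at e1
  exact e1

/-- entry of a packed table. -/
def lk (T w M i : ℕ) : ℕ := Nat.land (Nat.shiftRight T (Nat.mul w i)) M

def lamF (c : ℕ) : ℕ :=
  Nat.xor (lk lT0 (nat_lit 11) (nat_lit 2047) (Nat.land c (nat_lit 255)))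
    (Nat.xor (lk lT1 (nat_lit 11) (nat_lit 2047) (Nat.land (Nat.shiftRight c (nat_lit 8)) (nat_lit 255)))
      (lk lT2 (nat_lit 11) (nat_lit 2047) (Nat.land (Nat.shiftRight c (nat_lit 16)) (nat_lit 255))))

def preF (m : ℕ) : ℕ :=
  Nat.xor (lk pT0 (nat_lit 24) (nat_lit 16777215) (Nat.land m (nat_lit 63)))
    (lk pT1 (nat_lit 24) (nat_lit 16777215) (Nat.land (Nat.shiftRight m (nat_lit 6)) (nat_lit 31)))

theorem lk_eq {T w M k : ℕ} {l : List ℕ} (hl : l.length = k)
    (h : allR (fun i => Nat.beq (lk T w M i) (xorSel l i)) (2 ^ k) = true) (c : ℕ) :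
    lk T w M (Nat.land c (2 ^ k - 1)) = xorSel l c := by
  have e : Nat.land c (2 ^ k - 1) = c % 2 ^ k := Nat.and_two_pow_sub_one_eq_mod c k
  rw [e, xorSel_mod l c, hl]
  exact Nat.eq_of_beq_eq_true (allR_spec h _ (Nat.mod_lt _ (by positivity)))

theorem lamF_eq (c : ℕ) : lamF c = xorSel lamL c := by
  rw [show lamL = lamL.take 8 ++ ((lamL.drop 8).take 8 ++ lamL.drop 16) by decide, xorSel_append,
    xorSel_append, ← lk_eq (T := lT0) (w := 11) (M := 2047) (k := 8) rfl (by decide +kernel),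
    ← lk_eq (T := lT1) (w := 11) (M := 2047) (k := 8) rfl (by decide +kernel),
    ← lk_eq (T := lT2) (w := 11) (M := 2047) (k := 8) rfl (by decide +kernel)]
  have : Nat.shiftRight (Nat.shiftRight c 8) 8 = Nat.shiftRight c 16 :=
    (Nat.shiftRight_add c 8 8).symm
  exact this ▸ rfl

theorem preF_eq (m : ℕ) : preF m = xorSel preL m := by
  rw [show preL = preL.take 6 ++ preL.drop 6 by decide, xorSel_append,
    ← lk_eq (T := pT0) (w := 24) (M := 16777215) (k := 6) rfl (by decide +kernel),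
    ← lk_eq (T := pT1) (w := 24) (M := 16777215) (k := 5) rfl (by decide +kernel)]
  rfl

/-- the action on the coordinates of `V`. -/
def avF (g m : ℕ) : ℕ := force (preF m) fun p => force (actM g p) lamF

theorem avF_eq {g : ℕ} (hg : valid g = true) (m : ℕ) : avF g m = aV (toPerm g) m := by
  rw [avF, force_eq, force_eq, lamF_eq, preF_eq, aV, toMask_smul hg]

def lo (c : ℕ) : ℕ := Nat.land c (nat_lit 2047)
def hi (c : ℕ) : ℕ := Nat.shiftRight c (nat_lit 11)
def mk (m g : ℕ) : ℕ := Nat.add m (Nat.shiftLeft g (nat_lit 11))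

theorem lo_eq (c : ℕ) : lo c = c % 2048 := Nat.and_two_pow_sub_one_eq_mod c 11
theorem hi_eq (c : ℕ) : hi c = c / 2048 := Nat.shiftRight_eq_div_pow c 11
theorem mk_eq (m g : ℕ) : mk m g = m + g * 2048 := by
  show m + g <<< 11 = _
  rw [Nat.shiftLeft_eq]
theorem lo_lt (c : ℕ) : lo c < 2048 := by rw [lo_eq]; omega
theorem lo_mk {m : ℕ} (hm : m < 2048) (g : ℕ) : lo (mk m g) = m := by rw [lo_eq, mk_eq]; omega
theorem hi_mk {m : ℕ} (hm : m < 2048) (g : ℕ) : hi (mk m g) = g := by rw [hi_eq, mk_eq]; omega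

/-- product of codes. -/
def mulF (a b : ℕ) : ℕ :=
  force (hi a) fun g => mk (Nat.xor (lo a) (avF g (lo b))) (force (hi b) (mulP g))

/-- well-formed codes. -/
def OkN (c : ℕ) : Prop := Ok (lo c, hi c)

/-- test for well-formed codes. -/
def okN (c : ℕ) : Bool := force (hi c) fun g => inM24 g && Nat.blt g (2 ^ 120)

theorem okN_spec {c : ℕ} (h : okN c = true) : OkN c := by
  rw [okN, force_eq, Bool.and_eq_true, Nat.blt_eq] at h
  exact ⟨lo_lt c, (inM24_spec h.1).1, (inM24_spec h.1).2, h.2⟩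

theorem okN_mk {m g : ℕ} (h : Ok (m, g)) : OkN (mk m g) := by
  rwa [OkN, lo_mk h.1, hi_mk h.1]

theorem mulF_eq {a : ℕ} (ha : OkN a) (b : ℕ) :
    (lo (mulF a b), hi (mulF a b)) = mulC (lo a, hi a) (lo b, hi b) := by
  have h1 := xor_lt11 (lo_lt a) (aV_lt (toPerm (hi a)) (lo b))
  rw [mulF, force_eq, force_eq, avF_eq ha.2.1, lo_mk h1, hi_mk h1, aV_toPerm ha.2.1]
  rfl

theorem OkN.mul {a b : ℕ} (ha : OkN a) (hb : OkN b) : OkN (mulF a b) := by
  rw [OkN, mulF_eq ha]; exact Ok.mul ha hb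

theorem okN_id : OkN idN := okN_spec (by decide +kernel)

/-- powers of a code. -/
def pwF (a n : ℕ) : ℕ := Nat.rec idN (fun _ x => force x (mulF a)) n

theorem pwF_succ (a n : ℕ) : pwF a (n + 1) = mulF a (pwF a n) := force_eq _ _

theorem OkN.pw {a : ℕ} (ha : OkN a) (n : ℕ) : OkN (pwF a n) := by
  induction n with
  | zero => exact okN_id
  | succ n ih => rw [pwF_succ]; exact ha.mul ih

/-- test for `c p c⁻¹ = q`. -/
def cjB (c p q : ℕ) : Bool := okN c && Nat.beq (mulF c p) (mulF q c)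

/-- product of the selected codes. -/
def prF : List ℕ → ℕ → ℕ
  | [], _ => idN
  | b :: l, k => force (prF l (Nat.shiftRight k 1)) fun r => cond (tb k 0) (mulF b r) r

def wB9 : List ℕ := [1, 2, 4, 8, 16, 32, 1024, 320, 640]

/-- a chain of conjugations in `M` and by `t`. -/
def chain (p : ℕ) : List (ℕ × ℕ × ℕ) → ℕ → ℕ → Bool
  | [], b, q => cjB b p q
  | (a, k, g) :: l, b, q => cjB a p (mk (xorSel wB9 k) g) && inTri g && Nat.blt g (2 ^ 120) &&
      force (mulF (prF tYl k) (mk 0 g)) fun y => chain y l b q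

variable {G : Type*} [Group G]

section
variable (S : JSet0 G)

/-- the element with a given code. -/
noncomputable def EC (c : ℕ) : G := elC S (lo c, hi c)

theorem EC_mk {m : ℕ} (hm : m < 2048) (g : ℕ) : EC S (mk m g) = el S m (toPerm g) := by
  rw [EC, lo_mk hm, hi_mk hm, elC]

theorem EC_mul {a b : ℕ} (ha : OkN a) (hb : OkN b) : EC S (mulF a b) = EC S a * EC S b := by
  rw [EC, mulF_eq ha, elC_mul S ha hb, EC, EC]

theorem EC_inj {a b : ℕ} (ha : OkN a) (hb : OkN b) (e : EC S a = EC S b) : a = b := by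
  have := elC_inj S ha hb e
  simp only [Prod.mk.injEq, lo_eq, hi_eq] at this
  omega

theorem EC_v {m : ℕ} (hm : m < 2048) : EC S (mk m idP) = S.v0 m := by
  rw [EC_mk S hm, toPerm_idP, el_one]

theorem EC_ι (g : ℕ) : EC S (mk 0 g) = S.ι (toPerm g) := by rw [EC_mk S (by norm_num), el_zero]

theorem EC_id : EC S idN = 1 := by
  rw [show idN = mk 0 idP by decide +kernel, EC_v S (by norm_num), S.v0_zero]

theorem EC_z : EC S (mk 1024 idP) = S.z := by rw [EC_v S (by norm_num), S.v0_1024]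

theorem EC_w : EC S (mk 16 idP) = S.w := by
  rw [EC_v S (by norm_num), S.w_eq, S.v0_lt64 (by norm_num)]

theorem EC_ρ : EC S (mk 0 qr) = S.ρ := by rw [EC_ι, S.ιr]

theorem EC_pw {a : ℕ} (ha : OkN a) (n : ℕ) : EC S (pwF a n) = EC S a ^ n := by
  induction n with
  | zero => rw [pow_zero]; exact EC_id S
  | succ n ih => rw [pwF_succ, EC_mul S ha (ha.pw n), ih, pow_succ']

theorem EC_pow_eq {a b n : ℕ} (ha : OkN a) (h : Nat.beq (pwF a n) b = true) :
    EC S a ^ n = EC S b := by rw [← EC_pw S ha, Nat.eq_of_beq_eq_true h]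

theorem EC_pow_one {a n : ℕ} (ha : OkN a) (h : Nat.beq (pwF a n) idN = true) : EC S a ^ n = 1 := by
  rw [EC_pow_eq S ha h, EC_id]

theorem EC_ne {a b : ℕ} (ha : OkN a) (hb : OkN b) (h : Nat.beq a b = false) : EC S a ≠ EC S b :=
  fun e => by rw [EC_inj S ha hb e, Nat.beq_refl] at h; exact absurd h (by simp)

theorem EC_pow_ne {a n : ℕ} (ha : OkN a) (h : Nat.beq (pwF a n) idN = false) : EC S a ^ n ≠ 1 := by
  rw [← EC_pw S ha, ← EC_id S]; exact EC_ne S (ha.pw n) okN_id h

theorem EC_comm {a b : ℕ} (ha : OkN a) (hb : OkN b) (h : Nat.beq (mulF a b) (mulF b a) = true) :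
    EC S a * EC S b = EC S b * EC S a := by
  rw [← EC_mul S ha hb, ← EC_mul S hb ha, Nat.eq_of_beq_eq_true h]

theorem EC_order {a p k : ℕ} (hp : p.Prime) (ha : OkN a) (h1 : Nat.beq (pwF a (p ^ k)) idN = false)
    (h2 : Nat.beq (pwF a (p ^ (k + 1))) idN = true) : orderOf (EC S a) = p ^ (k + 1) :=
  have := Fact.mk hp
  orderOf_eq_prime_pow (EC_pow_ne S ha h1) (EC_pow_one S ha h2)

theorem cjB_spec {c p q : ℕ} (hp : OkN p) (hq : OkN q) (h : cjB c p q = true) :
    IsConj (EC S p) (EC S q) := by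
  rw [cjB, Bool.and_eq_true] at h
  have hc := okN_spec h.1
  refine isConj_iff.2 ⟨EC S c, ?_⟩
  rw [← EC_mul S hc hp, Nat.eq_of_beq_eq_true h.2, EC_mul S hq hc, mul_inv_cancel_right]

/-- test for the image under `π`. -/
def piB (c : ℕ) (w : List ℕ) (r : ℕ) : Bool := Nat.beq (hi c) (wdP H74.J4.sxQ w) &&
  Nat.beq r (mulP (dP (lo c / 64 % 16)) (wdP H74.J4.sxP w))

theorem piB_spec {c r : ℕ} {w : List ℕ} (h : piB c w r = true) :
    EC S c * S.z = S.z * EC S c ∧ valid r = true ∧ S.π (EC S c) = toPerm r := by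
  rw [piB, Bool.and_eq_true] at h
  obtain ⟨h1, h2, h3, h4⟩ := H74.J4.π_ι_wd S w
  have v := valid_dP (Nat.mod_lt (lo c / 64) (by norm_num : 0 < 16))
  have c1 := H74.J4.ι_cz S h2
  rw [EC, elC, el, Nat.eq_of_beq_eq_true h.1, Nat.eq_of_beq_eq_true h.2]
  exact ⟨cz_mul (S.v0_cz _) c1, valid_mulP v h3, by
    rw [S.hyp.π_mul _ _ (S.v0_cz _) c1, S.π_v0, h4, toPerm_mulP v h3]⟩

/-- the invariants of a class of elements with a power equal to `z`. -/
theorem nfix_of_conj {x y g : G} {k : ℕ} (hx : x ^ k = S.z) (hy : y ^ k = S.z)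
    (e : g * x * g⁻¹ = y) (n : ℕ) : nfix (S.π x ^ n) = nfix (S.π y ^ n) := by
  have gz : g * S.z = S.z * g := by
    rw [← mul_inv_eq_iff_eq_mul]
    conv_lhs => rw [← hx, ← conj_pow, e, hy]
  have xz : x * S.z = S.z * x := by rw [← hx, ← pow_succ, ← pow_succ']
  rw [← e, S.hyp.π_conj gz xz, conj_pow, nfix_conj]

end

section
variable (S : JSet G)

theorem prF_spec {ws ys : List ℕ}
    (h : List.Forall₂ (fun w y => OkN y ∧ S.t * S.v0 w * S.t⁻¹ = EC S.toJSet0 y) ws ys) (k : ℕ) :
    OkN (prF ys k) ∧ S.t * S.v0 (xorSel ws k) * S.t⁻¹ = EC S.toJSet0 (prF ys k) := by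
  induction h generalizing k with
  | nil => exact ⟨okN_id, by rw [xorSel, prF, EC_id, S.v0_zero]; simp⟩
  | cons h _ ih =>
    obtain ⟨h1, h2⟩ := ih (Nat.shiftRight k 1)
    rw [xorSel, prF, force_eq]
    cases tb k 0
    · exact ⟨h1, by rw [cond_false, cond_false, nzero_xor, h2]⟩
    · exact ⟨h.1.mul h1, by
        rw [cond_true, cond_true, S.v0_xor, EC_mul _ h.1 h1, ← h2, ← h.2]; group⟩

theorem tau_basis :
    List.Forall₂ (fun w y => OkN y ∧ S.t * S.v0 w * S.t⁻¹ = EC S.toJSet0 y) wB9 tYl := by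
  have key : ∀ i < 9, wB9.getD i 0 < 2048 ∧ okN (tYl.getD i 0) = true ∧
      tB (tDl.getD i (0, 0, 0)) (wB9.getD i 0, idP) (lo (tYl.getD i 0), hi (tYl.getD i 0)) = true := by
    decide +kernel
  refine List.forall₂_of_length_eq_of_get rfl fun i h1 h2 => ?_
  obtain ⟨k1, k2, k3⟩ := key i h1
  rw [List.getD_eq_getElem _ _ h2] at k2 k3
  rw [List.getD_eq_getElem _ _ h1] at k1 k3
  have := t_conj_code S (ok_id k1) (okN_spec k2) k3
  rw [elC_id] at this
  exact ⟨okN_spec k2, this⟩

theorem chain_spec {l : List (ℕ × ℕ × ℕ)} {p b q : ℕ} (hp : OkN p) (hq : OkN q)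
    (h : chain p l b q = true) : IsConj (EC S.toJSet0 p) (EC S.toJSet0 q) := by
  induction l generalizing p with
  | nil => exact cjB_spec _ hp hq h
  | cons d l ih =>
    obtain ⟨a, k, g⟩ := d
    simp only [chain, Bool.and_eq_true, Nat.blt_eq, force_eq] at h
    obtain ⟨⟨⟨h1, h2⟩, h3⟩, h4⟩ := h
    obtain ⟨v, hT⟩ := inTri_spec h2
    have hm : xorSel wB9 k < 2048 := xorSel_lt' (k := 11) (by decide) k
    have o1 : OkN (mk (xorSel wB9 k) g) := okN_mk ⟨hm, v, hT.1, h3⟩
    have o2 : OkN (mk 0 g) := okN_mk ⟨by norm_num, v, hT.1, h3⟩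
    obtain ⟨o3, e3⟩ := prF_spec S (tau_basis S) k
    refine (cjB_spec _ hp o1 h1).trans (IsConj.trans (isConj_iff.2 ⟨S.t, ?_⟩) (ih (o3.mul o2) h4))
    rw [EC_mul _ o3 o2, ← e3, EC_mk _ hm, EC_ι, el, mul_inv_eq_iff_eq_mul, mul_assoc _ _ S.t,
      S.t_tri _ hT]
    group

end

/-! ### tables of small subgroups -/

/-- a row of a table. -/
def row (T w i : ℕ) : ℕ := Nat.land (Nat.shiftRight T (Nat.mul w i)) (Nat.sub (Nat.pow 2 w) 1)
/-- a field of a row. -/
def fld (r o M : ℕ) : ℕ := Nat.land (Nat.shiftRight r o) M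
def rCd (r : ℕ) : ℕ := Nat.land r (nat_lit 0x7ffffffffffffffffffffffffffffffff)
def rPj (r : ℕ) : ℕ := fld r (nat_lit 131) (nat_lit 2047)
def rPs (r : ℕ) : ℕ := fld r (nat_lit 142) (nat_lit 7)
def rD1 (r : ℕ) : ℕ := fld r (nat_lit 145) (nat_lit 255)
def rD2 (r : ℕ) : ℕ := fld r (nat_lit 153) (nat_lit 255)
def rLb (r : ℕ) : ℕ := fld r (nat_lit 161) (nat_lit 15)
def rSg (r s : ℕ) : ℕ := fld r (Nat.add (nat_lit 165) (Nat.mul (nat_lit 22) s)) (nat_lit 2047)
def rKp (r s : ℕ) : ℕ := fld r (Nat.add (nat_lit 176) (Nat.mul (nat_lit 22) s)) (nat_lit 2047)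

/-- the check of a row of the multiplication table. -/
noncomputable def grpRow (gs : List ℕ) (T w n i : ℕ) : Bool := force (row T w i) fun r =>
  force (rCd r) fun x =>
  allR (fun s => force (rSg r s) fun j => Nat.blt j n &&
    Nat.beq (mulF (gs.getD s 0) x) (rCd (row T w j))) gs.length &&
  (Nat.beq x idN || force (row T w (rPj r)) fun r' => Nat.blt (rPs r) gs.length &&
    Nat.blt (rPj r) n && Nat.beq (rSg r' (rPs r)) i && Nat.blt (rD1 r') (rD1 r)) &&
  (Nat.ble n (Nat.succ i) || Nat.blt x (rCd (row T w (Nat.succ i))))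

/-- the check of a row of the conjugation table. -/
noncomputable def clsRow (gs : List ℕ) (T w n : ℕ) (R : List ℕ) (i : ℕ) : Bool :=
  force (row T w i) fun r =>
  allR (fun s => force (rKp r s) fun j => force (row T w j) fun r' => Nat.blt j n &&
    force (rCd r') (fun y => Nat.beq (mulF y (gs.getD s 0)) (rCd (row T w (rSg r s)))) &&
    Nat.beq (rLb r') (rLb r)) gs.length &&
  (memL i R || !allR (fun s => Nat.ble (rD2 r) (rD2 (row T w (rKp r s)))) gs.length)

/-- the subgroup generated by codes. -/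
noncomputable def gK (S : JSet0 G) (gs : List ℕ) : Subgroup G :=
  Subgroup.closure (EC S '' {g | g ∈ gs})

theorem gK_le {S : JSet0 G} {gs : List ℕ} {K : Subgroup G} (h : ∀ g ∈ gs, EC S g ∈ K) :
    gK S gs ≤ K := (Subgroup.closure_le K).2 (by rintro _ ⟨g, hg, rfl⟩; exact h g hg)

theorem getD_mem {gs : List ℕ} {s : ℕ} (h : s < gs.length) : gs.getD s 0 ∈ gs := by
  rw [List.getD_eq_getElem _ _ h]; exact List.getElem_mem h

theorem gK_ind [Finite G] {S : JSet0 G} {gs : List ℕ} {P : G → Prop} (h1 : P 1)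
    (h : ∀ s < gs.length, ∀ x, P x → P (EC S (gs.getD s 0) * x)) : ∀ x ∈ gK S gs, P x := by
  have pw : ∀ g ∈ gs, ∀ n : ℕ, ∀ x, P x → P (EC S g ^ n * x) := fun g hg n x hx => by
    obtain ⟨s, hs, rfl⟩ := List.getElem_of_mem hg
    induction n with
    | zero => simpa using hx
    | succ n ih =>
      rw [pow_succ', mul_assoc]
      have := h s hs _ ih
      rwa [List.getD_eq_getElem _ _ hs] at this
  intro x hx
  refine Subgroup.closure_induction_left (p := fun x _ => P x) h1 ?_ ?_ hx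
  · rintro _ ⟨g, hg, rfl⟩ y _ hy
    simpa using pw g hg 1 y hy
  · rintro _ ⟨g, hg, rfl⟩ y _ hy
    have := pw g hg (orderOf (EC S g) - 1) y hy
    rwa [show EC S g ^ (orderOf (EC S g) - 1) = (EC S g)⁻¹ from eq_inv_of_mul_eq_one_left (by
      rw [← pow_succ, Nat.sub_add_cancel (orderOf_pos _), pow_orderOf_eq_one])] at this

section tab
variable [Finite G] (S : JSet0 G) {gs : List ℕ} {T w n : ℕ} (hg : ∀ g ∈ gs, OkN g)
  (h1 : ∃ i < n, rCd (row T w i) = idN) (hr : ∀ i < n, grpRow gs T w n i = true)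

omit [Finite G] in
include hr in
theorem grp_row {i : ℕ} (hi : i < n) :
    (∀ s < gs.length, rSg (row T w i) s < n ∧ mulF (gs.getD s 0) (rCd (row T w i)) =
      rCd (row T w (rSg (row T w i) s))) ∧
    (rCd (row T w i) = idN ∨ ∃ s < gs.length, ∃ j < n, rSg (row T w j) s = i ∧
      rD1 (row T w j) < rD1 (row T w i)) ∧
    (i + 1 < n → rCd (row T w i) < rCd (row T w (i + 1))) := by
  have h := hr i hi
  simp only [grpRow, force_eq, Bool.and_eq_true, Bool.or_eq_true, Nat.beq_eq, Nat.blt_eq,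
    Nat.ble_eq] at h
  refine ⟨fun s hs => ?_, h.1.2.imp_right fun h => ⟨_, h.1.1.1, _, h.1.1.2, h.1.2, h.2⟩,
    fun h2 => h.2.resolve_left (by omega)⟩
  simpa only [Bool.and_eq_true, Nat.beq_eq, Nat.blt_eq] using allR_spec h.1.1 s hs

omit [Finite G] in
include hg hr in
theorem grp_ok {i : ℕ} (hi : i < n) :
    OkN (rCd (row T w i)) ∧ EC S (rCd (row T w i)) ∈ gK S gs := by
  induction hd : rD1 (row T w i) using Nat.strong_induction_on generalizing i with
  | _ d ih =>
    rcases (grp_row hr hi).2.1 with e | ⟨s, hs, j, hj, e, hl⟩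
    · rw [e, EC_id]; exact ⟨okN_id, Subgroup.one_mem _⟩
    · obtain ⟨o, m⟩ := ih _ (hd ▸ hl) hj rfl
      have og := hg _ (getD_mem hs)
      rw [← e, ← ((grp_row hr hj).1 s hs).2, EC_mul S og o]
      exact ⟨og.mul o, Subgroup.mul_mem _ (Subgroup.subset_closure ⟨_, getD_mem hs, rfl⟩) m⟩

include hg h1 hr in
theorem grp_mem : ∀ x ∈ gK S gs, ∃ i < n, x = EC S (rCd (row T w i)) := by
  refine gK_ind ?_ ?_
  · obtain ⟨i, hi, e⟩ := h1
    exact ⟨i, hi, by rw [e, EC_id]⟩
  · rintro s hs _ ⟨i, hi, rfl⟩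
    obtain ⟨k1, k2⟩ := (grp_row hr hi).1 s hs
    exact ⟨_, k1, by rw [← k2, EC_mul S (hg _ (getD_mem hs)) (grp_ok S hg hr hi).1]⟩

omit [Finite G] in
include hg hr in
theorem grp_inj {i j : ℕ} (hi : i < n) (hj : j < n)
    (e : EC S (rCd (row T w i)) = EC S (rCd (row T w j))) : i = j := by
  have mono : ∀ a b, a < b → b < n → rCd (row T w a) < rCd (row T w b) := fun a b hab hb => by
    induction b, hab using Nat.le_induction with
    | base => exact (grp_row hr (by omega)).2.2 hb
    | succ b _ ih => exact (ih (by omega)).trans ((grp_row hr (by omega)).2.2 hb)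
  have := EC_inj S (grp_ok S hg hr hi).1 (grp_ok S hg hr hj).1 e
  rcases lt_trichotomy i j with h | h | h
  · exact absurd this (mono i j h hj).ne
  · exact h
  · exact absurd this (mono j i h hi).ne'

include hg h1 hr in
theorem grp_card : Nat.card (gK S gs) = n := by
  let f : Fin n → gK S gs := fun i => ⟨_, (grp_ok S hg hr i.2).2⟩
  have hf : Function.Bijective f := ⟨fun i j e =>
    Fin.ext (grp_inj S hg hr i.2 j.2 (congrArg Subtype.val e)), fun x => by
      obtain ⟨i, hi, e⟩ := grp_mem S hg h1 hr x x.2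
      exact ⟨⟨i, hi⟩, Subtype.ext e.symm⟩⟩
  rw [← Nat.card_eq_of_bijective f hf, Nat.card_fin]

include hg h1 hr in
theorem cls_nc {π : List ℕ} {R R' : List ℕ} (hc : ∀ i < n, clsRow gs T w n (R ++ R') i = true)
    (hR : ∀ r ∈ R, r < n ∧ PE π (EC S (rCd (row T w r))))
    (hR' : ∀ r ∈ R', ¬ PE π (EC S (rCd (row T w r))))
    (hl : (R.map fun r => rLb (row T w r)).Nodup) : NC (gK S gs) (PE π) R.length := by
  have cr : ∀ i < n, (∀ s < gs.length, rKp (row T w i) s < n ∧
      EC S (gs.getD s 0) * EC S (rCd (row T w i)) * (EC S (gs.getD s 0))⁻¹ =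
        EC S (rCd (row T w (rKp (row T w i) s))) ∧
      rLb (row T w (rKp (row T w i) s)) = rLb (row T w i)) ∧
      (i ∈ R ++ R' ∨ ∃ s < gs.length, rD2 (row T w (rKp (row T w i) s)) < rD2 (row T w i)) := by
    intro i hi
    have h := hc i hi
    simp only [clsRow, force_eq, Bool.and_eq_true, Bool.or_eq_true, memL_iff] at h
    refine ⟨fun s hs => ?_, h.2.imp_right fun h => ?_⟩
    · have := allR_spec h.1 s hs
      simp only [Bool.and_eq_true, Nat.beq_eq, Nat.blt_eq] at this
      have og := hg _ (getD_mem hs)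
      refine ⟨this.1.1, ?_, this.2⟩
      rw [← EC_mul S og (grp_ok S hg hr hi).1, ((grp_row hr hi).1 s hs).2, ← this.1.2,
        EC_mul S (grp_ok S hg hr this.1.1).1 og, mul_inv_cancel_right]
    · by_contra hn
      push Not at hn
      have : ∀ k ≤ gs.length,
          allR (fun s => Nat.ble (rD2 (row T w i)) (rD2 (row T w (rKp (row T w i) s)))) k = true := by
        intro k hk
        induction k with
        | zero => rfl
        | succ k ih =>
          show Bool.rec false (allR _ k) (Nat.ble _ _) = true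
          rw [Nat.ble_eq_true_of_le (hn k hk)]
          exact ih (by omega)
      rw [this _ le_rfl] at h
      exact absurd h (by simp)
  have inv : ∀ k ∈ gK S gs, ∀ i < n, ∃ j < n, k * EC S (rCd (row T w i)) * k⁻¹ =
      EC S (rCd (row T w j)) ∧ rLb (row T w j) = rLb (row T w i) := by
    refine gK_ind (fun i hi => ⟨i, hi, by simp, rfl⟩) fun s hs k ih i hi => ?_
    obtain ⟨j, hj, e1, e2⟩ := ih i hi
    obtain ⟨k1, k2, k3⟩ := (cr j hj).1 s hs
    exact ⟨_, k1, by rw [← k2, ← e1]; group, k3.trans e2⟩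
  have cov : ∀ i < n, ∃ r ∈ R ++ R', ∃ k ∈ gK S gs,
      k * EC S (rCd (row T w r)) * k⁻¹ = EC S (rCd (row T w i)) := by
    intro i hi
    induction hd : rD2 (row T w i) using Nat.strong_induction_on generalizing i with
    | _ d ih =>
      rcases (cr i hi).2 with h | ⟨s, hs, h⟩
      · exact ⟨i, h, 1, Subgroup.one_mem _, by simp⟩
      · obtain ⟨k1, k2, -⟩ := (cr i hi).1 s hs
        obtain ⟨r, hr, k, hk, e⟩ := ih _ (hd ▸ h) _ k1 rfl
        exact ⟨r, hr, (EC S (gs.getD s 0))⁻¹ * k, Subgroup.mul_mem _ (Subgroup.inv_mem _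
          (Subgroup.subset_closure ⟨_, getD_mem hs, rfl⟩)) hk, by
            calc _ = (EC S (gs.getD s 0))⁻¹ * (k * EC S (rCd (row T w r)) * k⁻¹) *
                EC S (gs.getD s 0) := by group
              _ = _ := by rw [e, ← k2]; group⟩
  have := nc_of_list (K := gK S gs) (P := PE π) (R.map fun r => EC S (rCd (row T w r)))
    (fun x hx => ?_) (fun x hx hp => ?_) ?_
  · rwa [List.length_map] at this
  · obtain ⟨r, hr', rfl⟩ := List.mem_map.1 hx
    exact ⟨(grp_ok S hg hr (hR r hr').1).2, (hR r hr').2⟩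
  · obtain ⟨i, hi, rfl⟩ := grp_mem S hg h1 hr x hx
    obtain ⟨r, hr', k, hk, e⟩ := cov i hi
    rcases List.mem_append.1 hr' with h | h
    · exact ⟨_, List.mem_map_of_mem h, k, hk, e⟩
    · refine absurd ?_ (hR' r h)
      have := hp.cj k⁻¹
      rwa [← e, show k⁻¹ * (k * EC S (rCd (row T w r)) * k⁻¹) * k⁻¹⁻¹ = EC S (rCd (row T w r)) by
        group] at this
  · rw [List.pairwise_map]
    rw [List.Nodup, List.pairwise_map] at hl
    refine hl.imp_of_mem fun {a b} ha hb ne k hk e => ne ?_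
    obtain ⟨j, hj, e1, e2⟩ := inv k hk a (hR a ha).1
    rw [← e2, grp_inj S hg hr hj (hR b hb).1 (e1.symm.trans e)]

end tab

end H77.Cl
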