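import Cfsg.Agent.H45.MSpec4
import Cfsg.Agent.H45.BrGen
import Cfsg.Agent.S4703

/-! `M₂₄` by its order: values at an element of prime order, class multiplication, two blocks. -/

set_option autoImplicit false
set_option linter.unusedSectionVars false

namespace H77.P4
open Cfsg H28 H29 H37 H39 H87 Subgroup H45 H45.MO H45.MN H45.M24
open scoped ComplexConjugate

universe u

variable {G : Type u} [Group G] [Fintype G] {p n e v q n1 e1 v1 : ℕ}
  {L E L1 E1 : List (IrrCharacter G)} {s s1 : IrrCharacter G → ℤ}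

theorem nonab24 [IsSimpleGroup G] (hG : Nat.card G = 244823040) : ¬ IsMulCommutative G :=
  nonabelian_of_card_not_prime (by rw [hG]; norm_num)

/-- Every non-trivial irreducible character has degree at least `21`. -/
theorem dg21 [IsSimpleGroup G] (hG : Nat.card G = 244823040) (χ : IrrCharacter G)
    (h : χ ≠ one G) : 20 < dg χ := by
  have hna := nonab24 hG
  have : Fact (Nat.Prime 23) := ⟨by norm_num⟩
  obtain ⟨P⟩ : Nonempty (Sylow 23 G) := inferInstance
  obtain ⟨y, hy, hP⟩ := H43.exists_gen_sylow (p := 23) (m := 10644480) hG (by norm_num) P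
  have hc : Nat.card (P : Subgroup G) = 23 := by rw [← hP, Nat.card_zpowers, hy]
  have hZ := H87.center_eq_bot hna
  rcases Cfsg.Agent.S4703.result (by rw [hZ]; simp) 23 (by norm_num) P hc (fun hn => by
      rcases hn.eq_bot_or_eq_top with k | k
      · simp [k] at hc
      · rw [k, card_top, hG] at hc; omega) χ.1 χ.2 (fun g hg =>
      H43.eq_one_of_norm_eq hna χ.2 (fun e => h (Subtype.ext e)) (by
        rw [hg, ← coe_dg]; simp)) with ⟨⟨F, _, _, hF, ⟨φ⟩⟩, -⟩ | k
  · have k1 : Nat.card (G ⧸ center G) = 244823040 := by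
      rw [← index_eq_card, hZ, index_bot, hG]
    have k2 := Nat.card_le_card_of_surjective _ (QuotientGroup.mk_surjective
      (s := center (Matrix.SpecialLinearGroup (Fin 2) F)))
    have k3 := Nat.card_le_card_of_injective _ (Subtype.val_injective :
      Function.Injective fun g : Matrix.SpecialLinearGroup (Fin 2) F => g.1)
    have k4 : Nat.card (Matrix (Fin 2) (Fin 2) F) = 279841 := by
      simp [Matrix, hF]
    have k5 := Nat.card_congr φ.toEquiv
    have k6 : Nat.card (Matrix.ProjectiveSpecialLinearGroup (Fin 2) F) ≤ 279841 :=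
      k4 ▸ k2.trans k3
    omega
  · exact k

theorem zero_of_dvd (hp : p.Prime) (hN : ¬ p ^ 2 ∣ Nat.card G) {χ : IrrCharacter G} (h : p ∣ dg χ)
    {g : G} (hg : p ∣ orderOf g) : χ.1 g = 0 :=
  eq_zero_of_pow_factorization_dvd hp χ.2 ((pow_dvd_pow p (Nat.lt_succ_iff.1 (not_le.1 fun h2 =>
    hN ((hp.pow_dvd_iff_le_factorization Nat.card_pos.ne').2 h2)))).trans (by rwa [pow_one])) hg

/-- The values at a rational element of order `p`. -/
theorem exists_loc (B : Bk p n e v L E s) (he : e + 1 = p) : ∃ w : G, orderOf w = p ∧ IC w ∧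
    ∀ χ : IrrCharacter G, ¬ p ∣ dg χ → ∃ m, m ∣ v ∧ m * m ≤ v ∧ (iv χ w).natAbs ∣ e * m := by
  classical
  obtain ⟨hp, P, V, t, X, Y, δ, ε, hC, -, rfl, rfl, -⟩ := B.br
  obtain ⟨y, hy, hy1⟩ : ∃ y ∈ (P : Subgroup G), y ≠ 1 :=
    ((P : Subgroup G).bot_or_exists_ne_one).resolve_left fun k =>
      hp.out.one_lt.ne (by rw [← hC.card, k, card_bot])
  have hP := zpowers_eq hC hy hy1
  have ho : orderOf y = p := by rw [← Nat.card_zpowers, hP, hC.card]
  have cj : ∀ k : ℕ, p.Coprime k → IsConj y (y ^ k) := fun k hk =>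
    isConj_iff.2 (exists_conj_pow hp.out ho (hP ▸ he) hk)
  have iy : IC y := ic_of_rat fun m hm => cj m (ho ▸ hm.symm)
  have cz : ∀ z ∈ (P : Subgroup G), z ≠ 1 → IsConj y z := fun z hz h1 => by
    obtain ⟨k, rfl⟩ := (mem_powers_iff_mem_zpowers.2 (hP ▸ hz) : z ∈ Submonoid.powers y)
    exact cj k ((Nat.Prime.coprime_iff_not_dvd hp.out).2 fun h =>
      h1 (orderOf_dvd_iff_pow_eq_one.1 (ho ▸ h)))
  refine ⟨y, ho, iy, fun χ hd => ?_⟩
  have hle := le_centralizer_prime hC.card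
  obtain ⟨φ, σ, k, hφ, hσ, -, h1, h2⟩ := exists_local P hC.card χ.2 hd
  obtain ⟨ν, hν⟩ := exists_hom_of_central (incl_mem_center hle) hφ
  let Z := (P : Subgroup G).subgroupOf (Cen (P : Subgroup G))
  have hZ : Z ≤ center _ := fun z hz => incl_mem_center hle ⟨z, hz⟩
  have : Z.Normal := ⟨fun z hz g => by rwa [mem_center_iff.1 (hZ hz) g, mul_inv_cancel_right]⟩
  have iZ : Z.index = Nat.card V := by
    have := Z.index_mul_card
    rw [Nat.card_congr (subgroupOfEquivOfLe hle).toEquiv, hC.card, hC.card_cen, mul_comm] at this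
    exact Nat.eq_of_mul_eq_mul_left hp.out.pos this
  refine ⟨charDegree φ, iZ ▸ hφ.charDegree_dvd_index Z fun a _ b hb => mem_center_iff.1 (hZ hb) a,
    by rw [← pow_two, ← iZ]; exact hφ.charDegree_sq_le_index (hZ.trans hφ.center_le_charCenter), ?_⟩
  have k4 : σ.natAbs = 1 := by omega
  rcases h2 with h2 | ⟨rfl, z, hz, h2⟩
  · have := h1 y (hle hy) ho.symm.dvd
    rw [show locS P φ y = _ from locS_of_const φ (c := inclusion hle ⟨y, hy⟩) (a := φ 1)
      fun m hm => by
        rw [← mul_one (inclusion hle _), cf_incl hle hν hm, cf_apply_one, MonoidHom.comp_apply,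
          ← hν, mul_one]
        exact h2 _ (Subtype.property (cjN m hm _)), ← iy χ, ← hφ.cast_charDegree] at this
    have := congrArg Int.natAbs (show (k * (σ * iv χ y) : ℤ) = (_ * _ : ℕ) by exact_mod_cast this)
    rw [Int.natAbs_mul, Int.natAbs_mul, k4, one_mul, Int.natAbs_natCast, Int.natAbs_natCast] at this
    exact Dvd.intro_left _ this
  · have n1 : ν ≠ 1 := fun k => h2 (by
      have := hν ⟨z, hz⟩ 1
      rwa [k, mul_one, MonoidHom.one_apply, Units.val_one, one_mul] at this)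
    have h3 := congrFun (cPart_locS_of_ne hle hν (μ := 1) fun m hm k => n1 (MonoidHom.ext fun a => by
      have := DFunLike.congr_fun k (cjN m⁻¹ (inv_mem hm) a)
      rwa [MonoidHom.comp_apply, show cjN m hm (cjN m⁻¹ (inv_mem hm) a) = a from
        Subtype.ext (by simp [cjN, mul_assoc])] at this)) 1
    rw [cPart_one_one, classInner, Pi.zero_apply, mul_eq_zero, ← Finset.add_sum_erase _ _
      (Finset.mem_univ 1), Finset.sum_congr rfl (g := fun _ => (σ * iv χ y : ℂ)) fun a ha => by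
        have a1 : (a : G) ≠ 1 := fun k => (Finset.mem_erase.1 ha).1 (Subtype.ext k)
        rw [map_one, mul_one, iy χ, χ.2.isClassFunction.eq_of_isConj (cz a a.2 a1)]
        simpa using (h1 a (hle a.2) (orderOf_eq_of_mem hp.out hC.card a.2 a1).symm.dvd).symm,
      Finset.sum_const, Finset.card_erase_of_mem (Finset.mem_univ _), Finset.card_univ,
      ← Nat.card_eq_fintype_card, hC.card, map_one, map_one, mul_one, OneMemClass.coe_one, locS_one,
      ← hφ.cast_charDegree, show p - 1 = _ from (Nat.eq_sub_of_add_eq he).symm, nsmul_eq_mul,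
      ← mul_add] at h3
    have h4 := (mul_eq_zero.1 (h3.resolve_left (inv_ne_zero (by exact_mod_cast hp.out.ne_zero)))).resolve_left
      (by exact_mod_cast right_ne_zero_of_mul B.ne0)
    have := congrArg Int.natAbs (show σ * iv χ y = -(charDegree φ : ℤ) by
      exact_mod_cast eq_neg_of_add_eq_zero_right h4)
    rw [Int.natAbs_mul, k4, one_mul, Int.natAbs_neg, Int.natAbs_natCast] at this
    exact this ▸ dvd_mul_left _ _

theorem reg_eq (A : Bk p n e v L E s) {θ : IrrCharacter G} (hθ : θ ∈ E) {a : G}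
    (ha : ¬ p ∣ orderOf a) (hi : IC a) : 1 + (cl s L a).sum = s θ * iv θ a := by
  classical
  obtain ⟨hp, P, V, t, X, Y, δ, ε, -, h, -, -, -, mL, mE, sX, sY⟩ := A.br
  have h1 := h.reg θ ((mE θ).1 hθ) a ha
  rw [← Finset.add_sum_erase _ _ h.one_mem, h.δ_one, ← hi θ, ← sY θ ((mE θ).1 hθ),
    show X.erase (one G) = L.toFinset from Finset.ext fun χ => by simp [mL],
    Finset.sum_congr rfl (g := fun χ => ((s χ * iv χ a : ℤ) : ℂ)) fun χ hχ => by
      rw [← hi χ, Int.cast_mul, sX χ ((mL χ).1 (List.mem_toFinset.1 hχ)).2],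
    ← Int.cast_sum, List.sum_toFinset _ (List.nodup_append.1 (List.nodup_cons.1 A.nd).2).1] at h1
  simp only [Int.cast_one, mul_one] at h1
  exact_mod_cast h1.symm

theorem dvd_prodCount (hp : p.Prime) {w x : G} (hx : orderOf x = p) (h : ¬ p ∣ cc w) :
    p ∣ H43.prodCount w w x := by
  classical
  have := Fact.mk hp
  by_contra h1
  let τ : Equiv.Perm (G × G) := MulAction.toPermHom (ConjAct G) _ (ConjAct.toConjAct x)
  have c1 : ∀ g, IsConj w (x * g * x⁻¹) ↔ IsConj w g := fun g =>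
    ⟨fun h => h.trans (isConj_iff.2 ⟨x, rfl⟩).symm, fun h => h.trans (isConj_iff.2 ⟨x, rfl⟩)⟩
  have hτ : ∀ a : G × G, (IsConj w (τ a).1 ∧ IsConj w (τ a).2 ∧ (τ a).1 * (τ a).2 = x) ↔
      (IsConj w a.1 ∧ IsConj w a.2 ∧ a.1 * a.2 = x) := fun a => by
    change (IsConj w (x * a.1 * x⁻¹) ∧ IsConj w (x * a.2 * x⁻¹) ∧
      x * a.1 * x⁻¹ * (x * a.2 * x⁻¹) = x) ↔ _
    rw [c1, c1, conj_mul, mul_inv_eq_iff_eq_mul, mul_right_inj]
  obtain ⟨a, ha⟩ := Equiv.Perm.exists_fixed_point_of_prime (p := p) (n := 1)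
    (α := {a : G × G // IsConj w a.1 ∧ IsConj w a.2 ∧ a.1 * a.2 = x})
    (σ := τ.subtypePerm hτ) (by rwa [← Nat.card_eq_fintype_card]) (by
      rw [pow_one, Equiv.Perm.subtypePerm_pow]
      simp only [τ, ← map_pow, ← hx, pow_orderOf_eq_one, map_one]
      rfl)
  have h2 : x * a.1.1 * x⁻¹ = a.1.1 := congrArg (fun b => b.1.1) ha
  refine h ?_
  rw [cc, card_centralizer_eq_of_isConj a.2.1, ← hx]
  exact (orderOf_mk x (mem_centralizer_singleton.2 (mul_inv_eq_iff_eq_mul.1 h2))).symm.dvd.trans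
    (orderOf_dvd_natCard _)

/-- Class multiplication at a self-centralizing element of order `p`. -/
theorem cm (A : Bk p n e 1 L E s) (hN : ¬ p ^ 2 ∣ Nat.card G) {w : G} (hw : ¬ p ∣ orderOf w)
    (iw : IC w) (h : ¬ p ∣ cc w) :
    ((p * (cc w * cc w) : ℕ) : ℤ) ∣ fm (Nat.card G) (cl s L 1) (cl s L w) := by
  classical
  obtain ⟨hp, P, V, t, X, Y, δ, ε, -, hB, -, -, -, mL, mE, sX, sY⟩ := A.br
  obtain ⟨x, hx⟩ := hB.exists_order
  obtain ⟨θ, hθ⟩ := hB.Y_nonempty
  obtain ⟨k, hk⟩ := dvd_prodCount hp.out hx h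
  have h1 := H43.prodCount_eq w w x
  have nE := (List.nodup_append.1 (List.nodup_cons.1 A.nd).2).2.1
  rw [sum_list A.nd, Finset.sum_eq_zero fun χ hχ => by
      have k1 : χ ≠ one G ∧ χ ∉ L ++ E := by simpa [not_or] using hχ
      rw [zero_of_dvd hp.out hN (by_contra fun k => k1.2 (A.out rfl χ k1.1 k)) hx.symm.dvd,
        map_zero, mul_zero], add_zero, List.map_cons, List.sum_cons, List.map_append,
    List.sum_append, ← List.sum_toFinset _ nE, show E.toFinset = Y from Finset.ext fun χ => by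
      simp [mE], Finset.sum_congr rfl (g := fun η => θ.1 w * θ.1 w / θ.1 1 * conj (η.1 x))
      fun η hη => by rw [hB.uni hη hθ hw, hB.uni hη hθ hB.not_dvd_one], ← Finset.mul_sum,
    ← map_sum, hB.valY x hx.symm.dvd, mul_add, mul_add, ← List.sum_map_mul_left,
    List.map_congr_left (g := fun χ => ((s χ * iv χ w * (s χ * iv χ w) *
      (Nat.card G / (s χ * iv χ 1)) : ℤ) : ℂ)) fun χ hχ => by
        rw [hB.valX χ ((mL χ).1 hχ).2 x hx.symm.dvd, ← sX χ ((mL χ).1 hχ).2, map_intCast,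
          mul_comm _ (s χ : ℂ), term_cast χ (A.sg χ) (iw χ) (iw χ), iv_one],
    map_neg, map_intCast, mul_neg, mul_neg, mul_comm _ (ε : ℂ), term_cast θ hB.sε (iw θ) (iw θ),
    hk] at h1
  refine ⟨k, ?_⟩
  rw [fm, reg_eq A ((mE θ).2 hθ) hw iw, reg_eq A ((mE θ).2 hθ) hB.not_dvd_one ic_one, sY θ hθ,
    MN.cl, MN.cl, List.zipWith_map, List.zipWith_self, iv_one θ]
  have h2 : ∀ (l : List (IrrCharacter G)) (f : IrrCharacter G → ℤ),
      (l.map fun χ => (f χ : ℂ)).sum = ((l.map f).sum : ℤ) := fun l f => by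
    rw [Int.cast_list_sum, List.map_map]; rfl
  rw [h2] at h1
  simp only [div_one, map_one, mul_one] at h1
  refine Int.cast_injective (α := ℂ) ?_
  rw [Int.cast_sub, Int.cast_add, Int.cast_mul ((_ : ℕ) : ℤ), Int.cast_natCast, Int.cast_natCast,
    Int.cast_natCast]
  simp only [Nat.cast_mul] at h1 ⊢
  linear_combination -h1

/-- The principal blocks for two primes meet when no element has order `p q`. -/
theorem meet (A : Bk p n e 1 L E s) (B : Bk q n1 e1 v1 L1 E1 s1) (he : e1 + 1 = q) (hpq : q ≠ p)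
    {w : G} (hw : orderOf w = q) (iw : IC w) : 1 + (cl s L w).sum = 1 ∨ -1 ∈ cl s L w := by
  classical
  have w1 : ¬ p ∣ orderOf w := fun h => hpq ((Nat.prime_dvd_prime_iff_eq A.hp B.hp).1 (hw ▸ h)).symm
  have rg := fun θ hθ => reg_eq A (θ := θ) hθ w1 iw
  obtain ⟨hp, P, V, t, X, Y, δ, ε, hC, hA, hV, -, -, mL, mE, sX, sY⟩ := A.br
  obtain ⟨hq, P', V', t', X', Y', δ', ε', -, hB, -⟩ := B.br
  obtain rfl : t' = 1 := by
    have := hB.te
    have := hB.e_pos
    exact Nat.eq_of_mul_eq_mul_right this (by omega)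
  obtain ⟨θ, rfl⟩ := Finset.card_eq_one.1 hB.cardY
  have h1 : sS p (∑ ψ, (sI 1 X' {θ} δ' ε' ψ : ℂ) • ψ.1) = 0 := by
    refine (mul_eq_zero.1 ((card_mul_sS _).trans (mul_eq_zero_of_right _
      (Finset.sum_eq_zero fun g _ => ?_)))).resolve_left (card_ne_zero' G)
    by_cases hg : p ∣ orderOf g
    · have k : ¬ q ∣ orderOf g := fun k => by
        obtain ⟨y, hy, -, z, hz, k1⟩ := hC.exists_conj hg
        rw [card_eq_one.1 hV, mem_bot] at hz
        rw [H87.orderOf_eq_of_isConj k1, hz, mul_one] at k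
        exact hpq ((Nat.prime_dvd_prime_iff_eq B.hp A.hp).1
          (k.trans (hC.card ▸ Subgroup.orderOf_dvd_natCard _ hy)))
      simp only [Finset.sum_apply, Pi.smul_apply, smul_eq_mul]
      rw [sum_sI' hB fun ψ => ψ.1 g, Finset.sum_singleton, hB.reg θ (by simp) g k]
      simp
    · rw [sg_of_not hg, zero_mul]
  simp only [map_sum, map_smul, smul_eq_mul, br_sS hA] at h1
  have h2 : ∑ ψ, sI 1 X' {θ} δ' ε' ψ * sI t X Y δ ε ψ = 0 := by exact_mod_cast h1
  have h3 : ∀ ψ, sI 1 X' {θ} δ' ε' ψ = 0 ∨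
      (sI 1 X' {θ} δ' ε' ψ = iv ψ w ∧ (iv ψ w = 1 ∨ iv ψ w = -1)) := fun ψ => by
    unfold sI
    split_ifs with k1 k2
    · rw [iv_eq (hB.valX ψ k1 w hw.symm.dvd)]
      exact .inr ⟨by simp, hB.sδ ψ⟩
    · have := hB.valY w hw.symm.dvd
      rw [Finset.sum_singleton, ← Finset.mem_singleton.1 k2, ← Int.cast_neg] at this
      rw [iv_eq this]
      exact .inr ⟨rfl, by have := hB.sε; omega⟩
    · exact .inl rfl
  by_contra h4
  rw [not_or] at h4
  have t0 : (0 : ℤ) < t := by exact_mod_cast hA.t_pos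
  refine absurd h2 (Finset.sum_pos' (fun ψ _ => ?_) ⟨one G, Finset.mem_univ _, by
    simp [sI, hA.one_mem, hB.one_mem, hA.δ_one, hB.δ_one, hA.t_pos]⟩).ne'
  rcases h3 ψ with k | ⟨k, k1⟩
  · rw [k, zero_mul]
  rw [k]
  unfold sI
  split_ifs with k2 k3
  · by_cases k4 : ψ = one G
    · rw [k4, iv_triv, hA.δ_one]; omega
    · have : s ψ * iv ψ w ≠ -1 := fun k5 => h4.2 (List.mem_map.2 ⟨ψ, (mL ψ).2 ⟨k4, k2⟩, k5⟩)
      rw [sX ψ k2] at this
      rcases hA.sδ ψ with k5 | k5 <;> rcases k1 with k1 | k1 <;> rw [k5, k1] at this ⊢ <;> omega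
  · have := h4.1
    rw [rg ψ ((mE ψ).2 k3), sY ψ k3] at this
    rcases hA.sε with k5 | k5 <;> rcases k1 with k1 | k1 <;> rw [k5, k1] at this ⊢ <;> omega
  · simp

/-- A character of degree `45` times its conjugate contains the character of degree `2024`. -/
theorem sub45 (hG : Nat.card G = 244823040) {a b c d ρ β : IrrCharacter G} (S : S5 a b c d ρ)
    (h : dg β = 45) : IsCharacter G ((β.1 * fun g => conj (β.1 g)) - c.1) := by
  have hψ := β.2.isCharacter.mul β.2.isCharacter.conj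
  refine hψ.sub_irr c.2 fun h0 => ?_
  have h1 : classInner (β.1 * fun g => conj (β.1 g)) ((fun _ => 1) + b.1 + d.1 - (a.1 + c.1)) = 0 := by
    refine mul_eq_zero_of_right _ (Finset.sum_eq_zero fun g _ => ?_)
    by_cases hg : 5 ∣ orderOf g
    · simp [zero_of_dvd (p := 5) (by norm_num) (by rw [hG]; norm_num) (χ := β) (by omega) hg]
    · simp [S.reg g hg]
  obtain ⟨k1, e1⟩ := hψ.classInner_nat a.2.isCharacter
  obtain ⟨k2, e2⟩ := hψ.classInner_nat b.2.isCharacter
  obtain ⟨k3, e3⟩ := hψ.classInner_nat d.2.isCharacter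
  have e4 := hψ.mult_mul_degree_le a.2 e1 (d := 2025) (e := 5544)
    (by rw [Pi.mul_apply, ← coe_dg, map_natCast, h]; norm_num) (by rw [← coe_dg, S.da])
  obtain rfl : k1 = 0 := by omega
  rw [classInner_sub_right, classInner_add_right, classInner_add_right, classInner_add_right,
    ← classInner_eq_mul_one, β.2.classInner_self, e1, e2, e3, h0] at h1
  have h2 : (1 : ℂ) + k2 + k3 = 0 := by simpa using h1
  have : 1 + k2 + k3 = 0 := by exact_mod_cast h2
  omega

theorem no45 (hG : Nat.card G = 244823040) {a b c d ρ : IrrCharacter G} (S : S5 a b c d ρ) {w : G}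
    (hw : orderOf w = 7) (iw : IC w) (β : IrrCharacter G) : dg β ≠ 45 := fun h => by
  have h1 := (sub45 hG S h).norm_le w
  have k1 := iv_cong (p := 7) (χ := β) (x := w) (y := 1) (by norm_num)
    (hw ▸ pow_orderOf_eq_one w) (Commute.one_right w) (by rw [mul_one]; exact iw β) (ic_one β)
  rw [mul_one, iv_one, h] at k1
  simp only [Pi.sub_apply, Pi.mul_apply, ← coe_dg, h, S.dc, ← iw β, S.c7 w hw.symm.dvd,
    map_intCast, map_natCast] at h1
  have h2 : |iv β w * iv β w - 1| ≤ 1 := by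
    have : ‖((iv β w * iv β w - 1 : ℤ) : ℂ)‖ ≤ 1 := by
      push_cast; refine h1.trans (le_of_eq ?_); norm_num
    rw [Complex.norm_intCast] at this
    exact_mod_cast this
  have h3 := (abs_le.1 h2).2
  have : iv β w ≤ -4 ∨ 3 ≤ iv β w := by omega
  rcases this with k | k <;> nlinarith

end H77.P4
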