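/- ON2 tower (S2201): rank one data read off the theorem on split rank one groups. -/
import Cfsg.Agent.H89.ON2Spec

set_option autoImplicit false
set_option linter.unusedSectionVars false

open MulAction Cfsg Subgroup H89.K H65 H7.HKS H89.ON2

universe u

namespace H77.ON2T

variable {G Ω : Type u} [Group G] [Finite G] [MulAction G Ω] {F : Ω → Subgroup G}

theorem card_ld {E : Type} [Field E] [Fintype E] {x y : E → G} {A B : Subgroup G} {a b : Ω}
    (h : LD x y A B a b) : Nat.card A = Fintype.card E := by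
  rw [← Nat.card_eq_fintype_card]
  exact (Nat.card_eq_of_bijective (fun c => (⟨x c, (h.rx _).2 ⟨c, rfl⟩⟩ : A))
    ⟨fun _ _ e => h.inj (congrArg Subtype.val e), fun g => ((h.rx g).1 g.2).imp fun _ e => Subtype.ext e⟩).symm

theorem cjF (h : Rg F) {g u : G} {a : Ω} (hg : g • a = a) (hu : u ∈ F a) : g * u * g⁻¹ ∈ F a := by
  simpa [hg] using h.conj g a u hu

theorem nF (h : Rg F) {g : G} {a : Ω} (hg : g • a = a) : g ∈ normalizer (F a : Set G) :=
  mem_normalizer_fintype fun _ hu => cjF h hg hu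

theorem nZ (h : Rg F) {g : G} {a : Ω} (hg : g • a = a) :
    g ∈ normalizer ((F a ⊓ centralizer (F a : Set G) : Subgroup G) : Set G) :=
  mem_normalizer_fintype fun u hu => ⟨cjF h hg hu.1, fun v hv => by
    have := congrArg (fun t => g * t * g⁻¹) (hu.2 _ (cjF h (inv_smul_eq_iff.2 hg.symm) hv))
    simpa [mul_assoc] using this⟩

theorem nC (h : Rg F) {g w : G} {a : Ω} (hg : g • a = a) (c : g * w * g⁻¹ = w) :
    g ∈ normalizer ((CU F {w} a : Subgroup G) : Set G) :=
  mem_normalizer_fintype fun u hu => ⟨cjF h hg hu.1, fun v hv => by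
    have := congrArg (fun t => g * t * g⁻¹) (hu.2 w rfl)
    rw [Set.mem_singleton_iff.1 hv, ← c]
    simpa [mul_assoc] using this⟩

theorem cu0 (a : Ω) : CU F ∅ a = F a := inf_eq_left.2 fun _ _ _ h => h.elim

theorem cjL (h : Rg F) (g : G) {w : G} (hw : w ∈ LX F ∅) : g * w * g⁻¹ ∈ LX F ∅ := by
  have : LX F ∅ ≤ (LX F ∅).comap (MulAut.conj g).toMonoidHom := iSup₂_le fun c _ u hu =>
    le_iSup₂ (f := fun c (_ : c ∈ Fx Ω (∅ : Set G)) => CU F ∅ c) (g • c) (by simp)
      (by rw [cu0] at hu ⊢; exact h.conj g c u hu)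
  exact this hw

theorem jobT1a : JobT1a.{u} := by
  intro main G Ω _ _ _ F a b h na ab
  obtain ⟨loc, ty⟩ := main G Ω F h
  rcases ty a b ab with ⟨-, E, d⟩ | ⟨E, _, _, x, y, d⟩ | ⟨E, _, _, x, y, d, -, e, -⟩ | ⟨q, w, d⟩
  · refine (na ⟨E, normalizer_eq_top_iff.1 (eq_top_iff.2 fun g _ => d.norm (by simp [mem_set_normalizer_iff])),
      fun c c' => (d.reg c (by simp) c' (by simp)).exists, fun c e he k => ?_⟩).elim
    exact (d.reg c (by simp) c (by simp)).unique ⟨he, k⟩ ⟨one_mem _, one_smul _ _⟩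
  · rw [cu0, cu0] at d
    exact ⟨E, _, _, x, y, _, _, d, le_rfl, le_rfl, fun g hg => nF h hg.1, fun g hg => nF h hg.2, Or.inl rfl⟩
  · simp only [ZU, cu0] at d e
    exact ⟨E, _, _, x, y, _, _, d, inf_le_left, inf_le_left, fun g hg => nZ h hg.1, fun g hg => nZ h hg.2,
      Or.inr (Or.inr ⟨rfl, e⟩)⟩
  obtain ⟨f, hf⟩ := d.pow
  have c := d.cardw
  have cm := d.comm
  have ex := d.exp
  rw [cu0] at c cm ex
  have q3 : ∀ k : ℕ, 3 ≤ 3 ^ (2 * k + 1) := fun k => Nat.le_self_pow (by omega) 3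
  have cw : ∀ g ∈ St G a b, g * w * g⁻¹ = w := fun g hg =>
    d.uniq _ (cjL h g d.mem) (mul_mem (mul_mem hg d.st) (inv_mem hg))
      (by rw [← d.ord]; exact (MulAut.conj g).orderOf_eq w)
  have ne : CU F {w} a ≠ ⊥ := fun e => by
    have := q3 f
    rw [show F a ⊓ centralizer {w} = ⊥ from e, card_bot] at c
    omega
  rcases loc {w} a b ab (by simpa using d.st) ⟨w, rfl, fun e => by simpa [e] using d.ord⟩ ne with
    ⟨l, E, d'⟩ | ⟨E, _, _, x, y, d'⟩ | ⟨E, _, _, x, y, d', e, -⟩ | ⟨q', w', d'⟩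
  · have := d'.cyc
    have k : Monoid.exponent (CU F {w} a) ∣ 3 :=
      Monoid.exponent_dvd_of_forall_pow_eq_one fun g => Subtype.ext (ex g g.2)
    rw [IsCyclic.exponent_eq_card] at k
    have := Nat.le_of_dvd (by omega) k
    omega
  · refine ⟨E, _, _, x, y, _, _, d', inf_le_left, inf_le_left, fun g hg => nC h hg.1 (cw g hg),
      fun g hg => nC h hg.2 (cw g hg), Or.inr (Or.inl ?_)⟩
    rw [← card_ld d', c, hf, pow_succ, pow_mul, Nat.mul_mod, Nat.pow_mod]
    simp
  · have z : ZU F {w} a = CU F {w} a := inf_eq_left.2 fun g hg v hv => cm v hv g hg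
    have k := card_ld d'
    rw [z, e] at k
    have := Nat.pow_lt_pow_right (Fintype.one_lt_card (α := E)) (show 1 < 3 by omega)
    rw [pow_one] at this
    omega
  · obtain ⟨f', hf'⟩ := d'.pow
    have k := d'.der
    rw [commutator_eq_bot_iff_le_centralizer.2 fun g hg v hv => cm v hv g hg, card_bot] at k
    have := q3 f'
    omega

end H77.ON2T
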