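import Cfsg.Agent.H34.R5Spec
import Cfsg.Agent.H90.Free
import Cfsg.Agent.H18.FpfHom
import Cfsg.Agent.H5.FrobCompl

/-! Tower R5, slot QC: the free action of `X / L` on `V`. -/

set_option autoImplicit false

namespace H77.R5QC
open Cfsg Subgroup H41.IT H34.R5

universe u

theorem free_quot {X : Type u} [Group X] [Finite X] (V L : Subgroup X) [L.Normal]
    (hV : V.Normal) (h1 : V ≠ ⊥) (hC : ∀ v ∈ V, v ≠ 1 → C v = L) : H90.Free (X ⧸ L) := by
  have h3 : (⊤ : Subgroup X) ⊓ L ≤ centralizer (V : Set X) := by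
    intro g hg
    rw [mem_centralizer_iff]
    intro v hv
    by_cases v1 : v = 1
    · simp [v1]
    · have : g ∈ C v := by rw [hC v hv v1]; exact hg.2
      exact (mem_C.1 this).symm.eq
  obtain ⟨φ, hφ⟩ := H18.exists_quotient_action (N := L) (H := ⊤) (W := V) (top_sup_eq L)
    (by rw [normalizer_eq_top]) h3
  have : Nontrivial V := (Subgroup.nontrivial_iff_ne_bot V).2 h1
  refine H90.Free.of_fpf φ fun g g1 k hk => ?_
  obtain ⟨x, rfl⟩ := QuotientGroup.mk_surjective g
  by_contra k1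
  apply g1
  rw [QuotientGroup.eq_one_iff, ← hC k k.2 (fun m => k1 (Subtype.ext m)), mem_C]
  have h4 := hφ x (mem_top x) k
  rw [hk] at h4
  show x * k = k * x
  conv_rhs => rw [h4]
  group

theorem cyc_pq {A : Type u} [Group A] [Finite A] (h : H90.Free A) {p q : ℕ} (hp : p.Prime)
    (hq : q.Prime) (hA : Nat.card A = p * q) : IsCyclic A := by
  obtain ⟨L, _, _, K, f, hf, hK, hn, hfp⟩ := h.bridge
  have e := MonoidHom.ofInjective hf
  have h2 : IsCyclic f.range := H5.isCyclic_of_fpf_of_card_eq_mul hK hn hfp hp hq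
    (by rw [← Nat.card_congr e.toEquiv, hA])
  exact isCyclic_of_surjective e.symm.toMonoidHom e.symm.surjective

theorem jobQC : JobQC.{u} := by
  intro X _ _ V L _ hV h1 _ hC
  have hF := free_quot V L hV h1 hC
  refine ⟨fun A hA => ?_, fun s k hs s2 hk => ?_⟩
  · rcases hA with hA | ⟨p, q, hp, hq, hA⟩
    · exact hF.isCyclic_subgroup A
    · exact cyc_pq (hF.subgroup A) hp hq hA
  · have : Fact s.Prime := ⟨hs⟩
    have h2 : IsPGroup s (X ⧸ L) := IsPGroup.of_card (n := k) hk
    rcases hF.isCyclic_or_quaternion h2 with h3 | ⟨h3, -⟩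
    · exact h3
    · exact (s2 h3).elim

end H77.R5QC
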