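/- RF tower: what the automizer of `Q` contains (slot G8). -/
import Cfsg.Agent.H90.RFTri
import Cfsg.Agent.H14.OcBC

set_option autoImplicit false
set_option linter.unusedSectionVars false

open Subgroup H63.Oc H90.RF

universe v

namespace H77.RFG8

variable {K : Type v} [Field K] [Finite K] [CharP K 2] {T : TF K}

theorem au_cj (s : Co T) : Au (sQ T) fun c => s * c * s⁻¹ := au_conj (by rw [normalizer_eq_top]; trivial)

theorem cmp (a8 : A8 T) {β γ β' γ' : Co T → Co T} (a : Au (sQ T) β) (a' : Au (sQ T) β') (b' : Au (sQ T) γ')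
    (h : Cg (z8 T) 4 β γ) (h' : Cg (z8 T) 4 β' γ') :
    Cg (z8 T) 4 (fun c => β (β' c)) fun c => γ (γ' c) :=
  (h'.comp_left a (a8 β a).1 z8_le' a'.mem b'.mem).trans (h.comp_right (a8 γ' b').1)

variable {G : Type v} [Group G] (D : CS T G) {Y0 Y8 Y1 : Subgroup (Equiv.Perm (Co T))}

/-- the elements acting on `Q` as a member of `Y₈`, modulo the stabilizer of the chain -/
def J (a8 : A8 T) (l : Lg (sQ T) Y8) : Subgroup G where
  carrier := {g | ∃ α ∈ Y8, ∃ γ, Au (sQ T) γ ∧ (∀ c ∈ sQ T, g * D.ι c * g⁻¹ = D.ι (γ c)) ∧ Cg (z8 T) 4 α γ}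
  one_mem' := ⟨1, one_mem _, id, Au.id' _, by simp, Cg.refl _ _ _⟩
  mul_mem' := by
    rintro g g' ⟨α, hα, γ, a, e, h⟩ ⟨α', hα', γ', a', e', h'⟩
    refine ⟨α * α', mul_mem hα hα', fun c => γ (γ' c), a.comp a', fun c hc => ?_,
      (cmp a8 (l.au α hα) (l.au α' hα') a' h h' :)⟩
    rw [← e _ (a'.mem c hc), ← e' c hc]; group
  inv_mem' := by
    rintro g ⟨α, hα, γ, a, e, h⟩
    obtain ⟨γ', a', k, -⟩ := a.exists_inv
    refine ⟨α⁻¹, inv_mem hα, γ', a', fun c hc => ?_, ?_⟩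
    · have := e _ (a'.mem c hc)
      rw [k c hc] at this
      rw [← this]; group
    · have b := l.au _ (inv_mem hα)
      have h1 := cmp a8 b ((l.au α hα).comp a') (a.comp a') (Cg.refl _ _ _) (h.comp_right (a8 γ' a').1)
      exact (h1.congr z8_le' (fun c _ => by simp) fun c hc => by simp only [k c hc]).symm

theorem exists_cj (t : Tri T Y0 Y8 Y1) (s : Co T) : ∃ α ∈ Y8, ∀ c ∈ sQ T, α c = s * c * s⁻¹ := by
  obtain ⟨y, hy, e⟩ := t.inn s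
  obtain ⟨α, hα, e'⟩ := t.res8 y hy
  exact ⟨α, hα, fun c hc => (e' c hc).trans (e c)⟩

theorem ι_J (a8 : A8 T) (t : Tri T Y0 Y8 Y1) (s : Co T) : D.ι s ∈ J D a8 t.l8 := by
  obtain ⟨α, hα, e⟩ := exists_cj t s
  exact ⟨α, hα, α, t.l8.au α hα, fun c hc => by rw [e c hc]; simp, Cg.refl _ _ _⟩

theorem nιn_J (a8 : A8 T) (b8 : B8 T) (t : Tri T Y0 Y8 Y1) (h : ∃ α ∈ Y8, ¬ Pr α (sF0 T)) (s' : Co T) :
    D.n8 * D.ι s' * D.n8 ∈ J D a8 t.l8 := by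
  obtain ⟨α0, h0, np⟩ := h
  obtain ⟨u, -, hu⟩ := (a8 α0 (t.l8.au α0 h0)).2.1.resolve_left np
  obtain ⟨κ0, k0, e0⟩ := exists_cj t u⁻¹
  have hF : ∀ c ∈ sF0 T, c ∈ sQ T := fun c hc => ⟨hc.2.2.2.1, hc.2.2.2.2⟩
  have h1 : κ0 * α0 ∈ Y8 := mul_mem k0 h0
  have f1 : ∀ c ∈ sF0 T, (κ0 * α0) c ∈ sF1 T := fun c hc => by
    rw [Equiv.Perm.mul_apply, e0 _ ((t.l8.au α0 h0).mem c (hF c hc)), inv_inv]
    exact hu c hc
  generalize κ0 * α0 = α at h1 f1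
  have a := t.l8.au α h1
  have aδ : Au (sQ T) fun c => (α c).nu8 := au_nu8.comp a
  have pδ : Pr (fun c => (α c).nu8) (sF0 T) := fun c hc => nu8_F1 (f1 c hc)
  obtain ⟨w, -, hw⟩ := (a8 _ aδ).2.2 pδ
  have aβ : Au (sQ T) fun c => w⁻¹ * (α c).nu8 * w := by simpa using (au_cj w⁻¹).comp aδ
  obtain ⟨p, φ, g⟩ := b8 _ aβ (fun c hc => nF0.conj_mem' _ (pδ c hc) w) hw
  have as : Au (sQ T) (sd T p φ) := (au_sd p φ).restrict le_top (pr_sd p φ _ (by simp))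
  have aη : Au (sQ T) fun c => w * sd T p φ c * w⁻¹ := (au_cj w).comp as
  have aζ : Au (sQ T) fun c => (w * sd T p φ c * w⁻¹).nu8 := au_nu8.comp aη
  have g1 : Cg (z8 T) 4 α fun c => (w * sd T p φ c * w⁻¹).nu8 :=
    (cmp a8 au_nu8 ((au_cj w).comp aβ) aη (Cg.refl _ _ _) (cmp a8 (au_cj w) aβ as (Cg.refl _ _ _) g)).congr z8_le'
      (fun c hc => by simpa [mul_assoc] using nu8_nu8 (a.mem c hc)) fun _ _ => rfl
  obtain ⟨s, -, hs⟩ := (au_sd p φ).sur (w⁻¹ * s' * w) trivial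
  obtain ⟨κ, k, e⟩ := exists_cj t s
  have aγ : Au (sQ T) fun c => (s' * c.nu8 * s'⁻¹).nu8 := au_nu8.comp ((au_cj s').comp au_nu8)
  refine ⟨α * κ * α⁻¹, mul_mem (mul_mem h1 k) (inv_mem h1), _, aγ, fun c hc => ?_, ?_⟩
  · rw [← D.n8_conj _ (nQ.conj_mem _ (au_nu8.mem c hc) s'), map_mul, map_mul, map_inv, ← D.n8_conj c hc]
    simp only [mul_inv_rev, H14.Oc.n_inv, mul_assoc]
  · have g2 := g1.comp_right (a8 _ (au_cj s)).1
    have g3 := cmp a8 aγ a aζ (Cg.refl _ _ _) g1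
    have g4 : Cg (z8 T) 4 (fun c => α (s * c * s⁻¹)) fun c => (s' * (α c).nu8 * s'⁻¹).nu8 :=
      g2.trans (g3.symm.congr z8_le' (fun c hc => by
        rw [nu8_nu8 (aη.mem c hc), (au_sd p φ).conj trivial trivial, hs]
        congr 1
        group) fun _ _ => rfl)
    have b := t.l8.au _ (inv_mem h1)
    exact (g4.comp_right (a8 _ b).1).congr z8_le' (fun c hc => by simp only [Equiv.Perm.mul_apply, e _ (b.mem c hc)]) fun c _ => by simp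

theorem n8_mem {N : Subgroup G} (hι : ∀ s, D.ι s ∈ N) (hn : ∀ s, D.n8 * D.ι s * D.n8 ∈ N) : D.n8 ∈ N := by
  obtain ⟨u', -, u'', -, p, e⟩ := D.rank8 (x8 T 1) (by simp [mem_sU8, x8])
    fun h => by simpa [x8] using congrArg Co.a8 h
  obtain ⟨r, hr⟩ := H14.Oc.sq_T0_surj p⁻¹
  have h2 : D.h0 r * (D.n8 * D.ι (x8 T 1) * D.n8) * (D.h0 r)⁻¹ ∈ N := by
    have := hn (dg T r⁻¹.1.1 r⁻¹.1.2 (x8 T 1))
    rw [← D.h0_conj, map_inv, ← D.n8_h0] at this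
    simpa [mul_assoc, H14.Oc.n_inv, H14.Oc.n_n, D.n8_sq, ← D.n8_h0] using this
  have e2 : D.h0 r * (D.ι u' * D.h0 p * D.n8 * D.ι u'') * (D.h0 r)⁻¹ = D.h0 r * D.ι u' * (D.h0 r)⁻¹ *
      (D.h0 (r * p * r) * D.n8) * (D.h0 r * D.ι u'' * (D.h0 r)⁻¹) := by
    rw [map_mul, map_mul, mul_assoc _ (D.h0 r) D.n8, ← inv_inv r, ← H14.Oc.n_h, inv_inv, map_inv]; group
  rwa [e, e2, D.h0_conj, D.h0_conj, mul_mem_cancel_right (hι _), mul_mem_cancel_left (hι _),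
    mul_right_comm, hr, inv_mul_cancel, map_one, one_mul] at h2

theorem jobG8 : JobG8.{v} := fun K _ _ _ T a8 b8 G _ D Y0 Y8 Y1 t h => by
  have hn := n8_mem D (ι_J D a8 t) (nιn_J D a8 b8 t h)
  have hC : D.C ≤ J D a8 t.l8 := by
    rw [H14.Oc.gen, closure_le]
    rintro _ (⟨c, rfl⟩ | rfl)
    exacts [ι_J D a8 t c, hn]
  refine ⟨?_, fun p hp => ?_⟩
  · obtain ⟨α, hα, γ, -, e, g⟩ := hn
    exact ⟨α, hα, g.congr z8_le' (fun _ _ => rfl) fun c hc => D.inj ((e c hc).symm.trans (H14.Oc.cj_n D hc))⟩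
  · obtain ⟨α, hα, γ, -, e, g⟩ := hC (D.h0_mem ⟨p, hp⟩)
    exact ⟨α, hα, g.congr z8_le' (fun _ _ => rfl) fun c hc => D.inj ((e c hc).symm.trans (D.h0_conj ⟨p, hp⟩ c))⟩

end H77.RFG8
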