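import Cfsg.Agent.H77.STHeA1
import Cfsg.Agent.H79.STHeH

/-! STD-S (row S3095), slot HeA: the facts `FA` for the Held group. -/

set_option autoImplicit false
set_option maxRecDepth 1000000
set_option Elab.async false

namespace H77.HeA

open Cfsg.Spor H49 H71 H38.He H38.HeK H25.ST H64.SG Subgroup

theorem jz (x : X) : j x ∈ Cz (j xz) := cz.2 (z_comm x).symm

theorem top14 {B : Subgroup He} (h1 : Cz (j xz) ≤ B) (h2 : Cz (j x14) ≤ B) : B = ⊤ := by
  have a : evw v [6, 3, 6] ∈ B := h2 (mem_Cz.2 (mul_inv_eq_iff_eq_mul.1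
    (fus [6, 3, 6] [5, 4, 0, 4, 5] [5, 4, 0, 4, 5] (by decide +kernel))).symm)
  have b : ∀ l < 6, v l ∈ B := fun l hl => jv hl ▸ h1 (jz _)
  refine top_le_iff.1 (gen_top ▸ gen_le fun l hl => ?_)
  obtain h | rfl : l < 6 ∨ l = 6 := by revert l; decide
  · exact b l h
  · have := eqw (u := [6]) (w := [3] ++ [6, 3, 6] ++ [3]) (by decide +kernel)
    simp only [evw_append, evw_cons v 6 [], evw_cons v 3 [], evw_nil, mul_one] at this
    exact this ▸ mul_mem (mul_mem (b 3 (by decide)) a) (b 3 (by decide))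

theorem top25 {B : Subgroup He} (h1 : Cz (j xz) ≤ B) (h2 : Cz (j x25) ≤ B) : B = ⊤ := by
  rw [← mp_inj θ, mp_top]
  refine top14 ?_ ?_
  · rwa [← τz, ← θj, ← mp_Cz, mp_le]
  · rwa [← τ25, ← θj, ← mp_Cz, mp_le]

theorem nrm_X {N : Subgroup X} (hN : N.Normal) {n : X} (hn : n ∈ N) (h1 : n ≠ 1) (h2 : n ≠ xz) :
    x14 ∈ N ∨ x25 ∈ N := by
  have r : ∀ u ∈ N, u * u = 1 → cls u.c = 1 ∨ cls u.c = 2 → x14 ∈ N ∨ x25 ∈ N := fun u hu u2 k => by
    obtain ⟨-, g, e⟩ := cls_rep u u2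
    have := hN.conj_mem u hu g⁻¹
    rw [← e, show ∀ r : X, g⁻¹ * (g * r * g⁻¹) * g⁻¹⁻¹ = r from fun r => by group] at this
    exact k.imp (fun k => by rwa [k] at this) fun k => by rwa [k] at this
  have s : ∀ y ∈ N, y ∈ Q → y ≠ 1 → y ≠ xz → x14 ∈ N ∨ x25 ∈ N := fun y hy hQ h1 h2 => by
    have := impB_iff.1 (S_all (p := fun q => impB (inB 31389665 q.1) (orB (Nat.beq q.1 17043521)
      (orB (Nat.beq q.1 xz.c) (anyB (fun u => frc u fun u => andB (sqB u) (orB (Nat.beq (cls u) 1)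
        (Nat.beq (cls u) 2))) (q.1 :: ([xb, xc * xb * xc, x24, xc, xm].map UG.c).map
          fun g => m5 q.1 (m5 (m5 g q.1) g)))))) (by decide +kernel) (Q_le hQ)) (mem_Q.1 hQ)
    have := (orB_iff.1 ((orB_iff.1 this).resolve_left (mt beq_one.1 h1))).resolve_left (mt beq_c.1 h2)
    simp only [orB_iff, anyB_iff, frc_eq, andB_iff, List.map_map, List.mem_cons (b := y.c),
      List.mem_map, Function.comp, mul_c', Nat.beq_eq] at this
    obtain ⟨_, rfl | ⟨g, hg, rfl⟩, e1, e2⟩ := this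
    · exact r y hy (sqB_iff.1 e1) e2
    · refine r _ (mul_mem hy ?_) (sqB_iff.1 e1) e2
      have := hN.conj_mem y hy g
      rwa [(by decide +kernel : ∀ g ∈ [xb, xc * xb * xc, x24, xc, xm], g⁻¹ = g) g hg] at this
  by_cases hQ : n ∈ Q
  · exact s n hn hQ h1 h2
  have := (orB_iff.1 (X_all (p := fun c => orB (inB 31389665 c) (anyB (fun q =>
    frc (m5r c q) fun a => frc (m5r q c) fun b => andB (notB (Nat.beq a b))
      (notB (Nat.beq a (m5r xz.c b)))) ([xa, xd, x13, x35, x14, x25].map UG.c))) (by decide +kernel)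
      n)).resolve_left (mt mem_Q.2 hQ)
  obtain ⟨_, hq, e⟩ := anyB_iff.1 this
  obtain ⟨q, hq', rfl⟩ := List.mem_map.1 hq
  simp only [frc_eq, mul_c'', andB_iff, notB_iff, beq_c] at e
  have qQ : q ∈ Q := mem_Q.2 ((by decide +kernel : ∀ q ∈ [xa, xd, x13, x35, x14, x25],
    inB 31389665 q.c = true) q hq')
  refine s (n * q * n⁻¹ * q⁻¹) ?_ (mul_mem (Q_normal.conj_mem q qQ n) (inv_mem qQ))
    (fun k => e.1 ?_) fun k => e.2 ?_
  · simpa only [mul_assoc] using mul_mem hn (hN.conj_mem _ (inv_mem hn) q)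
  · rwa [mul_inv_eq_one, mul_inv_eq_iff_eq_mul] at k
  · rw [← k]; group

theorem Py_z : Py (j xz) = Cz (j xz) := Pf_eq_self fun g hg => by
  obtain ⟨x, rfl⟩ := Cz_z.le hg
  have := mem_map_of_mem j (H79.STHe.X_perf x)
  rwa [commutator_def, map_commutator, H79.STHe.map_top ctx] at this

theorem Vy_z : Vy (j xz) = zpowers (j xz) := by
  rw [Vy, Py_z]
  refine le_antisymm (fun c hc => ?_) (zpowers_le.2 ⟨fun g hg => (mem_Cz.1 hg).symm, jz _⟩)
  obtain ⟨y, rfl⟩ := Cz_z.le hc.2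
  obtain rfl | rfl := cen_S (x := y) fun q _ => j_inj (by rw [map_mul, map_mul, hc.1 _ (jz q)])
  exacts [map_one j ▸ one_mem _, mem_zpowers _]

theorem card_Vz : Nat.card (Vy (j xz)) = 2 := by rw [Vy_z, Nat.card_zpowers, ctx.oz]

theorem pv_z : PV (j xz) where
  ne := fun e => z_ne (by simpa [← Py_z, e] using jz xz)
  cv := fun β _ h => lemB (S_p.map j) (by rw [card_j, card_S]; decide)
    ((map_le_range _ _).trans (Cz_z.ge.trans (Py_z.ge.trans h)))
  card := .inl card_Vz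
  mv := ⟨1, one_mem _, fun _ h1 h2 => absurd (Vy_z.le h1) h2⟩
  g0 := fun Y h1 h2 h3 B h4 h5 => by
    rw [Py_z] at h1 h3
    obtain ⟨n, hn, k⟩ := SetLike.not_le_iff_exists.1 h3
    obtain ⟨n, rfl⟩ := Cz_z.le (h1 hn)
    rcases nrm_X (N := Y.comap j) ⟨fun x hx g => by
        simpa only [mem_comap, map_mul, map_inv] using H98.conj_mem_of_mem_normalizer (h2 (jz g)) hx⟩
      hn (fun e => k (by rw [e, map_one]; exact one_mem _))
      (fun e => k fun g hg => e ▸ (mem_Cz.1 hg).symm) with m | m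
    exacts [top14 h4 (h5 _ m (inv2_j.2 (by decide +kernel))),
      top25 h4 (h5 _ m (inv2_j.2 (by decide +kernel)))]
  q8 := fun e => absurd (card_Vz.symm.trans e) (by decide)

theorem b_LL : j xU ∈ LL j := J_LL.2 (mem_J.2 (by decide +kernel))

theorem E1_LL : E1.map j ≤ LL j := by
  rintro _ ⟨x, hx, rfl⟩
  exact J_LL.2 (cl_le (fun y hy => mem_J.2 (by revert y; decide +kernel)) hx)

theorem el_E1 : El (E1.map j) := by
  rintro _ ⟨x, hx, rfl⟩
  rw [← map_mul, sq_E1 hx, map_one]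

theorem pv_b : PV (j xU) where
  ne := fun e => U_inv2.2 (by simpa [← Py_b, e] using b_LL)
  cv := fun β _ h => lemB el_E1.isPGroup (by rw [card_j, card_E1]) (E1_LL.trans (Py_b.ge.trans h))
  card := .inr (by rw [Vy_b, card_j, card_VX])
  mv := ⟨j (xa * xd), cz.2 (by decide +kernel), fun y h1 h2 => by
    obtain ⟨x, hx, rfl⟩ := Vy_b.le h1
    rcases (by decide +kernel : ∀ x ∈ VL, x = 1 ∨ x = xU ∨ xa * xd * x * (xa * xd)⁻¹ = x * xU) x hx
      with rfl | rfl | e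
    exacts [absurd (map_one j ▸ one_mem _) h2, absurd (mem_zpowers _) h2,
      by rw [← map_inv, ← map_mul, ← map_mul, e, map_mul]]⟩
  g0 := fun Y h1 h2 h3 B _ h5 => by
    rw [Py_b] at h1 h3
    obtain rfl := (quasi h1 (LL_Cz.trans h2)).resolve_right fun k => h3 (k.trans V_Cs)
    exact top14 (h5 _ z_LL I_z.1)
      (h5 _ (J_LL.2 (mem_J.2 (by decide +kernel))) (inv2_j.2 (by decide +kernel)))
  q8 := fun _ N h1 h2 => by
    rw [Py_b] at h1 h2 ⊢
    refine (quasi h1 h2).imp_right fun k => ?_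
    have e := rel_card h1
    have d := card_dvd_of_le k
    rw [card_j, card_VX] at d
    rw [card_LL] at e
    have := Nat.le_of_dvd (by decide) d
    generalize Nat.card N = n at *
    interval_cases n <;> omega

theorem S_nor {E : Subgroup X} {M : ℕ} (hS : E ≤ S) (h : ∀ {x}, x ∈ E ↔ inB M x.c = true)
    (e : allB (fun q : ℕ × ℕ => impB (inB M q.1) (allB (fun g => inB M (m5 (m5r g q.1) g))
      ([xa, xb, xc, xd].map UG.c))) SP = true) {g : X} (hg : g ∈ [xa, xb, xc, xd]) :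
    j g ∈ Ns (E.map j) := by
  refine mem_normalizer_fintype ?_
  rintro _ ⟨x, hx, rfl⟩
  have := allB_iff.1 (impB_iff.1 (S_all e (hS hx)) (h.1 hx)) _ (List.mem_map_of_mem hg)
  rw [mul_c'', mul_c', ← h] at this
  rw [← map_inv, (by decide +kernel : ∀ g ∈ [xa, xb, xc, xd], g⁻¹ = g) g hg, ← map_mul, ← map_mul]
  exact mem_map_of_mem j this

theorem s1a {Y : Subgroup He} (h1 : Y ≤ LL j) (h2 : El Y) (h3 : Nat.card Y = 64) :
    ¬ Ns Y ≤ Cz (j xU) := fun h4 => by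
  have : Fact (Nat.Prime 2) := ⟨Nat.prime_two⟩
  obtain ⟨l, hl, k⟩ := ctx.syl_L.exists_conj_le h1 h2.isPGroup
  have k : cjs l Y ≤ TU j ⊓ LL j := by rintro _ ⟨y, hy, rfl⟩; exact k y hy
  have e : ((cjs l Y).comap j).map j = cjs l Y := map_comap_eq_self fun y hy => (k hy).1.2
  have a : j xa ∈ Ns (cjs l Y) := by
    rw [← e]
    rcases eq_E (Y := (cjs l Y).comap j) (fun y hy => J_le (J_LL.1 (k hy).2))
      (fun y hy => j_inj (by rw [map_mul, map_one]; exact h2.mp (MulAut.conj l) _ hy))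
      (by rw [← card_j, e, cjs_eq, card_mp, h3]) with r | r <;> rw [r]
    exacts [S_nor E1_le mem_E1 (by decide +kernel) (by simp),
      S_nor E2_le mem_E2 (by decide +kernel) (by simp)]
  rw [cjs_eq, ← mp_Ns] at a
  have b := (mp_le _).2 h4 a
  rw [mp_Cz, show MulAut.conj l (j xU) = j xU from mul_inv_eq_iff_eq_mul.2 (mem_LL.1 hl).1] at b
  exact absurd (cz.1 b) (by decide +kernel)

theorem conj_b {x : X} (h : x * x = 1) : IsConj (j xU) (j x) ↔ x ≠ 1 ∧ ¬ iB x.c = true :=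
  ⟨fun c => ⟨fun e => U_inv2.2 (by rwa [e, map_one, isConj_one_left] at c),
    fun i => nI_U ((I_conj c).2 ((I_j h).2 i))⟩,
    fun k => two_nI U_inv2 (inv2_j.2 ⟨h, k.1⟩) nI_U (mt (I_j h).1 k.2)⟩

theorem card_b : Nat.card {x // x ∈ E1.map j ∧ IsConj (j xU) x} = 18 := by
  rw [← show cnt (fun q : ℕ × ℕ => andB (inB 33527781 q.1) (andB (notB (Nat.beq q.1 17043521))
      (notB (iB q.1)))) SP = 18 by decide +kernel,
    ← card_eq_cnt (P := fun x => x ∈ E1 ∧ IsConj (j xU) (j x)) fun x => by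
      simp only [andB_iff, notB_iff, beq_one, ← mem_E1]
      exact ⟨fun k => ⟨E1_le k.1, k.1, (conj_b (sq_E1 k.1)).1 k.2⟩,
        fun k => ⟨k.2.1, (conj_b (sq_E1 k.2.1)).2 k.2.2⟩⟩]
  refine (Nat.card_eq_of_bijective (fun a => ⟨j a.1, mem_map_of_mem j a.2.1, a.2.2⟩)
    ⟨fun a b e => Subtype.ext (j_inj (congrArg Subtype.val e)), ?_⟩).symm
  rintro ⟨_, ⟨x, hx, rfl⟩, c⟩
  exact ⟨⟨x, hx, c⟩, rfl⟩

theorem t_nor : evw v [6] ∈ Ns (E1.map j) := by
  refine H98.mem_normalizer_of_cj_le (map_le_iff_le_comap.2 (map_le_iff_le_comap.2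
    (cl_le fun x hx => ?_)))
  have k : ∀ {x} (u w), Fs x (evw vX w) [6] u w ∧ inB 33527781 (evw vX w).c = true →
      evw v [6] * j x * (evw v [6])⁻¹ ∈ E1.map j := fun u w e =>
    fus _ _ _ e.1 ▸ mem_map_of_mem j (mem_E1.2 e.2)
  simp only [List.mem_cons, List.not_mem_nil, or_false] at hx
  rcases hx with rfl | rfl | rfl | rfl | rfl | rfl
  exacts [k [1] [1, 3, 5, 4, 0, 4, 5, 3] (by decide +kernel),
    k [4, 0, 4] [0, 3, 2, 1, 0, 2, 1, 3] (by decide +kernel),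
    k [4, 2, 4] [4, 5, 3, 5, 4] (by decide +kernel), k [5, 4, 0, 4, 5] zW (by decide +kernel),
    k [4, 5, 3, 5, 4] [4, 2, 4] (by decide +kernel), k zW [5, 4, 0, 4, 5] (by decide +kernel)]

theorem s1b : ∀ x ∈ E1.map j, Ns (E1.map j) ≤ Cz x → x = 1 := by
  rintro _ ⟨x, -, rfl⟩ h
  obtain rfl | rfl := cen_of (L := [xa, xb, xc, xd]) (x := x) (by decide +kernel) fun y hy =>
    cz.1 (h (S_nor E1_le mem_E1 (by decide +kernel) hy))
  · exact map_one j
  · have := fus (x := xz) (y := x14) [6] zW [5, 4, 0, 4, 5] (by decide +kernel)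
    rw [← mem_Cz.1 (h t_nor), mul_inv_cancel_right] at this
    exact absurd (j_inj this) (by decide +kernel)

theorem fad : FAd (j xz) (j xU) where
  zI := I_z
  bI := U_inv2
  cls := fun x hx => (em (I x)).imp (one_cls I_z) (two_nI U_inv2 hx nI_U)
  pz := pv_z
  pb := pv_b
  zP := Py_z.ge (jz _)
  fin := .inl (Py_b.ge b_LL)
  c6 := fun _ => by rw [Py_z, Py_b, (I_iff.1 I_z).2, card_LL]; decide
  s1 := fun _ => by
    rw [Vy_b, Py_b, sup_eq_right.2 V_LL]
    exact ⟨fun Y => s1a, _, E1_LL, el_E1, by rw [card_j, card_E1],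
      mem_map_of_mem j (mem_E1.2 (by decide +kernel)), by rw [card_b]; decide, s1b⟩

/-- The facts `FA` for the Held group. -/
theorem fa : FA He := ⟨_, _, fad⟩

end H77.HeA
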