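import Cfsg.Agent.H38.HeK4
import Cfsg.Agent.H38.HeE2

/-! STD-S (row S3095), slot HeA, part 1: the group `L = C(b) ∩ C(b') = 2²·L₃(4)` in the Held group. -/

set_option autoImplicit false
set_option maxRecDepth 1000000
set_option Elab.async false

namespace H77.HeA

open Cfsg.Spor H49 H71 H38.He H38.HeK H25.ST H64.SG Subgroup

theorem nine {G : Type*} [Group G] [Finite G] {H : Subgroup G} {x y : G} (hx : x ∈ H) (hy : y ∈ H)
    (x3 : x ^ 3 = 1) (y3 : y ^ 3 = 1) (c : x * y * x⁻¹ = y) (h1 : x ≠ 1) (n : y ∉ zpowers x) :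
    9 ∣ Nat.card H := by
  have : Fact (Nat.Prime 3) := ⟨Nat.prime_three⟩
  have p : IsPGroup 3 ↥(zpowers y ⊔ zpowers x) :=
    (H17.isPGroup_zpowers (k := 1) y3).to_sup_of_normal_left' (H17.isPGroup_zpowers (k := 1) x3)
      (zpowers_le.2 (centralizer_le_normalizer _ (by
        rintro _ ⟨k, rfl⟩
        exact (Commute.zpow_left (mul_inv_eq_iff_eq_mul.1 c).symm k).eq)))
  obtain ⟨k, hk⟩ := IsPGroup.iff_card.1 p
  refine .trans ?_ (card_dvd_of_le (sup_le (zpowers_le.2 hy) (zpowers_le.2 hx)))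
  rw [hk]
  refine pow_dvd_pow 3 (show 2 ≤ k from not_lt.1 fun r => n ?_)
  rw [eq_of_le_of_card_ge (le_sup_right : zpowers x ≤ zpowers y ⊔ zpowers x) (by
    rw [hk, Nat.card_zpowers, orderOf_eq_prime x3 h1]
    exact Nat.pow_le_pow_right (by decide) (Nat.le_of_lt_succ r))]
  exact mem_sup_left (mem_zpowers y)

theorem rel_card {G : Type*} [Group G] {A B : Subgroup G} (h : A ≤ B) :
    Nat.card A * A.relIndex B = Nat.card B := by
  rw [← Nat.card_congr (subgroupOfEquivOfLe h).toEquiv]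
  exact card_mul_index _

/-- Substitution of the words `D` for the letters of `w`. -/
noncomputable def sb (D : List (List ℕ)) (w : List ℕ) : List ℕ := w.flatMap (nth D [])

theorem sb_mem {B : Subgroup He} {D : List (List ℕ)} (h : ∀ u ∈ D, evw v u ∈ B) (w : List ℕ) :
    evw v (sb D w) ∈ B := by
  induction w with
  | nil => exact one_mem B
  | cons l w ih =>
    rw [sb, List.flatMap_cons, evw_append]
    exact mul_mem (nth_prop (P := fun u => evw v u ∈ B) (d := []) h (one_mem B) l) ih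

theorem pw (w : List ℕ) (n : ℕ) (e : isId AH 12 2560 (List.replicate n w).flatten = true) :
    evw v w ^ n = 1 := by
  rw [← rel e]
  clear e
  induction n with
  | zero => exact pow_zero _
  | succ n ih => rw [List.replicate_succ, List.flatten_cons, evw_append, pow_succ', ih]

/-- The hypothesis of `fus` -/
abbrev Fs (x y : X) (g u w : List ℕ) : Prop := (evw vX u = x ∧ ∀ l ∈ u, l < 6) ∧
  (evw vX w = y ∧ ∀ l ∈ w, l < 6) ∧ isId AH 12 2560 (g ++ u ++ g.reverse ++ w.reverse) = true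

def yW : List ℕ := [3, 4, 5, 4, 0, 4, 5, 3, 2, 4]
def w0 : List ℕ := [0, 3, 4, 2, 3, 4, 0, 4, 2, 4]
def w1 : List ℕ := [0, 4, 2, 3, 2, 4, 0, 4, 2, 3, 4]
def w2 : List ℕ := [4, 2, 5, 3, 4, 0, 4, 5, 4]
/-- six involutions that generate `L`, each with an element of `J` and a conjugating word -/
def PL : List (List ℕ × List ℕ × List ℕ) := [([], [1], [1]), ([], [4, 0, 4], [4, 0, 4]),
  ([], [2], [2]), ([], [5, 3, 5], [5, 3, 5]), ([3, 4], [5, 3, 5], [0, 5, 6, 5, 0]),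
  ([1, 5], [3, 2, 3, 4, 0, 2, 3, 4, 2, 3], [4, 5, 6, 0, 3, 5, 6, 3, 6, 5, 6, 5, 6, 4])]
def CW : List (List ℕ) := PL.map fun p => p.2.2
noncomputable def wg : List ℕ := sb CW [4, 3, 2, 4, 2, 4]
noncomputable def wy : List ℕ := sb CW [0, 2, 0, 5, 4, 3]

theorem J_of {H : Subgroup X} (L : List X) (D : List (List ℕ))
    (e : [xb, xc, x13, x24, x35, x14, x25, xz] = D.map (wd L)) (h : ∀ x ∈ L, x ∈ H) : J ≤ H :=
  cl_le fun x hx => by
    rw [e] at hx
    obtain ⟨w, -, rfl⟩ := List.mem_map.1 hx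
    exact wd_mem (K := H.toSubmonoid) h w

theorem J_LL {y : X} : j y ∈ LL j ↔ y ∈ J := by
  rw [ctx.mem_LL]
  refine ⟨fun ⟨h1, h2⟩ => mem_J.2 ?_, fun hy => ?_⟩
  · exact impB_iff.1 (impB_iff.1 (X_all (p := fun c => impB (cmB c xU.c) (impB (cmB c xY.c)
      (inB 32937957 c))) (by decide +kernel) y) (cmB_iff.2 h1)) (cmB_iff.2 h2)
  · have := impB_iff.1 (S_all (p := fun q => impB (inB 32937957 q.1) (andB (cmB q.1 xU.c)
      (cmB q.1 xY.c))) (by decide +kernel) (J_le hy)) (mem_J.1 hy)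
    simpa only [andB_iff, cmB_iff] using this

/-- The group generated by the six involutions. -/
def PP : Subgroup He := closure {x | x ∈ CW.map (evw v)}

theorem sb_PP (w : List ℕ) : evw v (sb CW w) ∈ PP :=
  sb_mem (fun _ hu => subset_closure (List.mem_map_of_mem hu)) w

theorem PP_le : PP ≤ LL j := (closure_le _).2 fun x hx => by
  obtain ⟨u, hu, rfl⟩ := List.mem_map.1 hx
  obtain ⟨h1, h2⟩ := (by decide +kernel : ∀ u ∈ CW, Fs xU xU u uW uW ∧ Fs xY xY u yW yW) u hu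
  exact mem_LL.2 ⟨mul_inv_eq_iff_eq_mul.1 (fus _ _ _ h1), mul_inv_eq_iff_eq_mul.1 (fus _ _ _ h2)⟩

theorem J_PP {x : X} (hx : x ∈ J) : j x ∈ PP :=
  J_of (H := PP.comap j) ([[0], [1], [2], [3]].map fun w => evw vX (sb CW w))
    [[0], [2], [1], [0, 2, 0, 2], [3], [1, 2, 1, 2], [0, 3, 0, 3], [1, 3, 1, 3]] (by decide +kernel)
    (fun _ hy => by
      obtain ⟨w, hw, rfl⟩ := List.mem_map.1 hy
      rw [mem_comap, jw ((by decide +kernel : ∀ w ∈ [[0], [1], [2], [3]], ∀ l ∈ sb CW w, l < 6) w hw)]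
      exact sb_PP w) hx

theorem g0 : evw v wg * j (xz * xU) * (evw v wg)⁻¹ = j r5 := fus wg w0 w1 (by decide +kernel)
theorem g1 : evw v wg * j r5 * (evw v wg)⁻¹ = j (xz * xU * r5) := fus wg w1 w2 (by decide +kernel)
theorem g2 : evw v wg * j (xz * xU * r5) * (evw v wg)⁻¹ = j (xz * xU) :=
  fus wg w2 w0 (by decide +kernel)

/-- The normal closure of `z b` -/
theorem fill {N : Subgroup He} (hN : PP ≤ Ns N) (h0 : j (xz * xU) ∈ N) : PP ≤ N := by
  have c : ∀ w x, x ∈ N → evw v (sb CW w) * x * (evw v (sb CW w))⁻¹ ∈ N := fun w x hx =>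
    H98.conj_mem_of_mem_normalizer (hN (sb_PP w)) hx
  have h1 : j r5 ∈ N := g0 ▸ c _ _ h0
  have m : ∀ w x y {a}, j a ∈ N → Fs a (evw vX y) (sb CW w) x y → j (evw vX y) ∈ N :=
    fun w x y a ha e => fus _ x y e ▸ c w _ ha
  have k : J ≤ N.comap j := J_of ([[2, 4, 0, 5, 1, 3, 5, 4], [0, 2, 4, 5, 3, 5, 4, 0, 1, 2],
      [1, 5, 3, 4, 0, 2, 4, 5], [1, 2, 1, 3, 5, 4, 0, 4, 5, 3]].map (evw vX))
    [[0, 2, 0, 3, 1, 2, 3], [0, 1, 2, 3, 0, 2, 1], [1, 2, 1, 2, 3, 0, 3], [1, 3, 1, 3],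
      [0, 1, 3, 0, 2, 3, 1], [0, 3, 0, 3], [1, 2, 1, 2], [0, 2, 0, 2]] (by decide +kernel) (by
    simp only [List.map, List.forall_mem_cons, mem_comap]
    exact ⟨m [4] w0 _ h0 (by decide +kernel), m [4] w1 _ h1 (by decide +kernel),
      m [5] w0 _ h0 (by decide +kernel), m [5] w1 _ h1 (by decide +kernel), by simp⟩)
  refine (closure_le _).2 fun x hx => ?_
  obtain ⟨_, hu, rfl⟩ := List.mem_map.1 hx
  obtain ⟨p, hp, rfl⟩ := List.mem_map.1 hu
  obtain ⟨e1, e2, e3⟩ := (by decide +kernel : ∀ p ∈ PL, isId AH 12 2560 (sb CW p.1 ++ p.2.1 ++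
    (sb CW p.1).reverse ++ p.2.2.reverse) = true ∧ (∀ l ∈ p.2.1, l < 6) ∧
      inB 32937957 (evw vX p.2.1).c = true) p hp
  exact cjw e1 ▸ c _ _ (jw e2 ▸ k (mem_J.2 e3))

theorem PP_perf : PP ≤ ⁅PP, PP⁆ := by
  refine fill (H98.le_normalizer_commutator le_normalizer le_normalizer) ?_
  rw [show xz * xU = x13 * x35 * (xb * x13 * xc) * (x13 * x35)⁻¹ * (xb * x13 * xc)⁻¹ by
    decide +kernel, map_mul, map_mul, map_mul, map_inv, map_inv]
  exact commutator_mem_commutator (J_PP (mem_J.2 (by decide +kernel)))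
    (J_PP (mem_J.2 (by decide +kernel)))

theorem dvd_PP : 80640 ∣ Nat.card PP := by
  have : Fact (Nat.Prime 5) := ⟨by norm_num⟩
  have : Fact (Nat.Prime 7) := ⟨by norm_num⟩
  have h2 : 256 ∣ Nat.card PP := by
    rw [← card_J, ← card_j]
    exact card_dvd_of_le (map_le_iff_le_comap.2 fun _ => J_PP)
  have h5 := orderOf_dvd_natCard PP (sb_PP [4, 1, 2, 0])
  have h7 := orderOf_dvd_natCard PP (sb_PP [5, 4, 0, 2, 0])
  rw [orderOf_eq_prime (pw _ 5 (by decide +kernel))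
    (nrel (a := 0) (b := 400) (by decide +kernel) (by decide))] at h5
  rw [orderOf_eq_prime (pw _ 7 (by decide +kernel))
    (nrel (a := 0) (b := 1645) (by decide +kernel) (by decide))] at h7
  have h9 := nine (x := evw v wg) (y := evw v wy) (sb_PP _) (sb_PP _) (pw wg 3 (by decide +kernel))
    (pw wy 3 (by decide +kernel)) (cjw (by decide +kernel))
    (nrel (a := 0) (b := 283) (by decide +kernel) (by decide)) fun m => by
      have : evw v wy ∈ (MulAction.stabilizer (Equiv.Perm ℕ) 35).comap H71.He.ρ :=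
        zpowers_le.2 (show H71.He.ρ _ 35 = 35 by rw [ρw]; exact envH.of_maps (by decide +kernel)) m
      have e : H71.He.ρ (evw v wy) 35 = 35 := this
      rw [ρw, envH.of_maps (j := 1457) (by decide +kernel)] at e
      exact absurd e (by decide)
  exact Nat.Coprime.mul_dvd_of_dvd_of_dvd (m := 2304) (n := 35) (by norm_num)
    (Nat.Coprime.mul_dvd_of_dvd_of_dvd (m := 256) (n := 9) (by norm_num) h2 h9)
    (Nat.Coprime.mul_dvd_of_dvd_of_dvd (m := 5) (n := 7) (by norm_num) h5 h7)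

theorem cz {x y : X} : j y ∈ Cz (j x) ↔ x * y = y * x := by
  rw [mem_Cz, ← map_mul, ← map_mul, j_inj.eq_iff]

theorem LL_Cz : LL j ≤ Cz (j xU) := inf_le_left

theorem card_Cb : Nat.card (Cz (j xU)) = 161280 := card_nI U_inv2 nI_U

theorem card_LL : Nat.card (LL j) = 80640 := by
  have h1 := dvd_PP.trans (card_dvd_of_le PP_le)
  have h2 := card_dvd_of_le LL_Cz
  have h3 : Nat.card (LL j) ≠ 161280 := fun e => by
    have : j (xa * xd) ∈ LL j := eq_of_le_of_card_ge LL_Cz (by rw [e, card_Cb]) ▸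
      cz.2 (by decide +kernel)
    exact absurd (ctx.mem_LL.1 this).2 (by decide +kernel)
  rw [card_Cb] at h2
  obtain ⟨k, hk⟩ := h1
  rw [hk] at h2 h3 ⊢
  have := Nat.le_of_dvd (by decide) h2
  obtain rfl | rfl | rfl : k = 0 ∨ k = 1 ∨ k = 2 := by omega
  exacts [absurd h2 (by decide), rfl, absurd rfl h3]

theorem PP_eq : PP = LL j :=
  eq_of_le_of_card_ge PP_le (card_LL ▸ Nat.le_of_dvd Nat.card_pos dvd_PP)

theorem Py_b : Py (j xU) = LL j := by
  refine le_antisymm ((Pf_perf _).trans (commutator_le.2 fun a ha b hb => ?_))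
    (le_Pf LL_Cz (PP_eq ▸ PP_perf))
  have i : (LL j).relIndex (Cz (j xU)) = 2 := by
    have := rel_card LL_Cz
    rw [card_LL, card_Cb] at this
    omega
  have : (⟨a, Pf_le _ ha⟩ * ⟨b, Pf_le _ hb⟩ * (⟨a, Pf_le _ ha⟩⁻¹ * ⟨b, Pf_le _ hb⟩⁻¹) : Cz (j xU)) ∈
      (LL j).subgroupOf _ := by
    simp only [mul_mem_iff_of_index_two i, inv_mem_iff]
  simpa [commutatorElement_def, mem_subgroupOf, mul_assoc] using this

/-- The four-group `V = Z(L)` -/
noncomputable def VX : Subgroup X where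
  carrier := {x | x ∈ VL}
  one_mem' := List.mem_cons_self
  mul_mem' := fun {a b} ha hb => (by decide +kernel : ∀ a ∈ VL, ∀ b ∈ VL, a * b ∈ VL) a ha b hb
  inv_mem' := fun {a} ha => (by decide +kernel : ∀ a ∈ VL, a⁻¹ ∈ VL) a ha

theorem card_VX : Nat.card VX = 4 := by
  classical
  have : (VX : Set X) = VL.toFinset := Set.ext fun _ => List.mem_toFinset.symm
  rw [← SetLike.coe_sort_coe, Nat.card_coe_set_eq, this, Set.ncard_coe_finset,
    List.toFinset_card_of_nodup (by decide +kernel)]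
  rfl

/-- words for the elements of `W` -/
def WW : List (List ℕ) := [[], [0], [1], [0, 1], [2], [0, 2], [1, 2], [0, 1, 2], [3], [0, 3], [1, 3],
  [0, 1, 3], [2, 3], [0, 2, 3], [1, 2, 3], [0, 1, 2, 3]]
noncomputable def T0 : List X := [xU, xY, xz * xU, r5]
noncomputable def T1 : List X := [xU, xY, r5, xz * xU * r5]
noncomputable def T2 : List X := [xU, xY, xz * xU * r5, xz * xU]

theorem mem_WW {y : X} (hy : y ∈ W) : ∃ w ∈ WW, y = wd T0 w := by
  obtain ⟨_, h1, h2⟩ := anyB_iff.1 (impB_iff.1 (S_all (p := fun q => impB (inB 33535981 q.1)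
    (anyB (Nat.beq q.1) (WW.map (wdN (T0.map UG.c))))) (by decide +kernel) (E1_le (W_le1 hy)))
    (mem_W.1 hy))
  obtain ⟨w, hw, rfl⟩ := List.mem_map.1 h1
  rw [wdN_eq] at h2
  exact ⟨w, hw, beq_c.1 h2⟩

theorem g_LL : evw v wg ∈ LL j := PP_le (sb_PP _)

theorem tr0 : H38.He.Tr j (evw v wg) T0 T1 :=
  .cons (mul_inv_eq_iff_eq_mul.2 (mem_LL.1 g_LL).1) (.cons
    (mul_inv_eq_iff_eq_mul.2 (mem_LL.1 g_LL).2) (.cons g0 (.cons g1 .nil)))

theorem tr1 : H38.He.Tr j (evw v wg) T1 T2 :=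
  .cons (mul_inv_eq_iff_eq_mul.2 (mem_LL.1 g_LL).1) (.cons
    (mul_inv_eq_iff_eq_mul.2 (mem_LL.1 g_LL).2) (.cons g1 (.cons g2 .nil)))

theorem V_cen {x : X} (hx : x ∈ VX) {l : He} (hl : l ∈ LL j) : l * j x = j x * l := by
  obtain ⟨h1, h2⟩ := mem_LL.1 hl
  simp only [show x ∈ VX ↔ x ∈ VL from .rfl, VL, List.mem_cons, List.not_mem_nil, or_false] at hx
  rcases hx with rfl | rfl | rfl | rfl
  exacts [by simp, h1, h2, by rw [map_mul, ← mul_assoc, h1, mul_assoc, h2, mul_assoc]]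

theorem V_LL : VX.map j ≤ LL j := by
  rintro _ ⟨x, hx, rfl⟩
  exact J_LL.2 (mem_J.2 ((by decide +kernel : ∀ x ∈ VL, inB 32937957 x.c = true) x hx))

theorem V_Cs : VX.map j ≤ Cs (LL j) := by
  rintro _ ⟨x, hx, rfl⟩ l hl
  exact V_cen hx hl

theorem z_LL : j xz ∈ LL j := J_LL.2 (mem_J.2 (by decide +kernel))

theorem Vy_b : Vy (j xU) = VX.map j := by
  rw [Vy, Py_b]
  refine le_antisymm (fun c hc => ?_) (le_inf V_Cs (V_LL.trans LL_Cz))
  obtain ⟨y, rfl⟩ := ctx.cen c (hc.1 _ z_LL).symm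
  obtain ⟨w, hw, rfl⟩ := mem_WW (mem_W.2 (impB_iff.1 (X_all (p := fun c =>
    impB (allB (cmB c) ([xb, xc, x13, x35].map UG.c)) (inB 33535981 c)) (by decide +kernel) y)
    (allB_iff.2 fun _ hq => by
      obtain ⟨q, hq, rfl⟩ := List.mem_map.1 hq
      refine cmB_iff.2 (j_inj ?_)
      rw [map_mul, map_mul, hc.1 _ (J_LL.2 (mem_J.2 (by revert q; decide +kernel)))])))
  have := tr0.wd w
  rw [hc.1 _ g_LL, mul_inv_cancel_right] at this
  exact mem_map_of_mem j ((by decide +kernel : ∀ w ∈ WW, wd T0 w = wd T1 w → wd T0 w ∈ VL) w hw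
    (j_inj this))

/-- A normal subgroup of `L` that meets `J` outside `V` contains `z b`. -/
theorem a0_mem {N : Subgroup He} (hN : LL j ≤ Ns N) {y : X} (h1 : j y ∈ N) (h2 : y ∈ J)
    (h3 : y ∉ VX) : j (xz * xU) ∈ N := by
  have c : ∀ l ∈ LL j, ∀ x ∈ N, l * x * l⁻¹ ∈ N := fun l hl x hx =>
    H98.conj_mem_of_mem_normalizer (hN hl) hx
  have k : ∀ y, j y ∈ N → y ∈ W → y ∉ VX → j (xz * xU) ∈ N := fun y h1 h2 h3 => by
    obtain ⟨w, hw, rfl⟩ := mem_WW h2
    have m1 := tr0.wd w ▸ c _ g_LL _ h1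
    have m2 := tr1.wd w ▸ c _ g_LL _ m1
    rcases (by decide +kernel : ∀ w ∈ WW, wd T0 w ∈ VL ∨ xz * xU = wd T0 w * wd T1 w ∨
      xz * xU = wd T1 w * wd T2 w ∨ xz * xU = wd T2 w * wd T0 w) w hw with e | e | e | e
    · exact absurd e h3
    all_goals rw [e, map_mul]; exact mul_mem ‹_› ‹_›
  by_cases hW : y ∈ W
  · exact k y h1 hW h3
  have := impB_iff.1 (S_all (p := fun q => impB (inB 32937957 q.1) (orB (inB 33535981 q.1)
    (anyB (fun a => frc (m5 (m5 (m5r a q.1) a) q.1) fun u => andB (inB 33535981 u)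
      (notB (anyB (Nat.beq u) (VL.map UG.c)))) ([xb, xc, x13, x35].map UG.c))))
    (by decide +kernel) (J_le h2)) (mem_J.1 h2)
  obtain ⟨_, hq, e⟩ := anyB_iff.1 ((orB_iff.1 this).resolve_left (mt mem_W.2 hW))
  obtain ⟨q, hq', rfl⟩ := List.mem_map.1 hq
  simp only [frc_eq, mul_c'', mul_c', andB_iff, notB_iff, anyB_iff] at e
  obtain ⟨q1, q2⟩ := (by decide +kernel : ∀ q ∈ [xb, xc, x13, x35], q⁻¹ = q ∧
    inB 32937957 q.c = true) q hq'
  refine k _ ?_ (mem_W.2 e.1) fun m => e.2 ⟨_, List.mem_map_of_mem m, Nat.beq_refl _⟩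
  have := mul_mem (c _ (J_LL.2 (mem_J.2 q2)) _ h1) h1
  rwa [← map_inv, q1, ← map_mul, ← map_mul, ← map_mul] at this

/-- A normal subgroup of `L` that meets `J` inside `V` lies in `V`. -/
theorem le_V {N : Subgroup He} (h1 : N ≤ LL j) (hN : LL j ≤ Ns N)
    (h : ∀ y, j y ∈ N → y ∈ VX) : N ≤ VX.map j := by
  have key : ∀ n ∈ N, ∀ x ∈ VX, n * j (xz * xU) * n⁻¹ = j (xz * xU * x) → n ∈ VX.map j :=
    fun n hn x hx e => by
      obtain rfl | k := (by decide +kernel : ∀ x ∈ VL, x = 1 ∨ xz * xU * x * (xz * xU * x) = 1 ∧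
        iB (xz * xU * x).c = true) x hx
      · obtain ⟨y, rfl⟩ := ctx.cen n (by
          rw [mul_one, map_mul, mul_inv_eq_iff_eq_mul, mul_assoc (j xz), ← (mem_LL.1 (h1 hn)).1,
            ← mul_assoc, ← mul_assoc] at e
          exact mul_right_cancel e)
        exact mem_map_of_mem j (h y hn)
      · have := (I_conj (isConj_iff.2 ⟨n, e⟩)).2 ((I_j k.1).2 k.2)
        exact absurd ((I_j (by decide +kernel)).1 this) (by decide +kernel)
  have nV : ((VX.map j).subgroupOf (LL j)).Normal := ⟨fun x hx l => by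
    have : (l : He) * x = x * l := V_Cs hx _ l.2
    rw [mem_subgroupOf, coe_mul, coe_mul, this, coe_inv, mul_inv_cancel_right]; exact hx⟩
  have nN := (normal_subgroupOf_iff_le_normalizer h1).2 hN
  set φ := QuotientGroup.mk' ((VX.map j).subgroupOf (LL j))
  have nK := nN.map φ (QuotientGroup.mk'_surjective _)
  have a0 : j (xz * xU) ∈ LL j := J_LL.2 (mem_J.2 (by decide +kernel))
  have k0 : ∀ k ∈ (N.subgroupOf (LL j)).map φ, φ ⟨_, a0⟩ * k = k * φ ⟨_, a0⟩ → k = 1 := by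
    rintro _ ⟨n, hn, rfl⟩ e
    rw [← map_mul, ← map_mul, QuotientGroup.mk'_eq_mk'] at e
    obtain ⟨u, ⟨x, hx, hu⟩, e⟩ := e
    refine (QuotientGroup.eq_one_iff _).2 (key n hn x hx ?_)
    have e := congrArg Subtype.val e
    simp only [coe_mul] at e
    rw [← e, show (u : He) = j x from hu.symm, mul_assoc (j _), V_cen hx n.2, map_mul j _ x]
    group
  have kc : ∀ (l e : LL j), (∀ k ∈ (N.subgroupOf (LL j)).map φ, φ e * k = k * φ e → k = 1) →
      ∀ k ∈ (N.subgroupOf (LL j)).map φ, φ (l * e * l⁻¹) * k = k * φ (l * e * l⁻¹) → k = 1 :=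
    fun l e he k hk c => by
      have := he _ (nK.conj_mem k hk (φ l)⁻¹) (by
        rw [map_mul, map_mul, map_inv] at c
        calc _ = (φ l)⁻¹ * (φ l * φ e * (φ l)⁻¹ * k) * φ l := by group
          _ = _ := by rw [c]; group)
      exact conj_eq_one_iff.1 this
  have a1 : j r5 ∈ LL j := J_LL.2 (mem_J.2 (by decide +kernel))
  have k1 := kc ⟨_, g_LL⟩ _ k0
  rw [show _ * _ * _ = (⟨_, a1⟩ : LL j) from Subtype.ext g0] at k1
  have k2 := kc ⟨_, g_LL⟩ _ k1
  rw [show _ * _ * _ = (⟨_, a0⟩ * ⟨_, a1⟩ : LL j) from Subtype.ext (g1.trans (map_mul _ _ _)),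
    map_mul] at k2
  have sq : ∀ {x : X} (hx : j x ∈ LL j), x * x = 1 → φ ⟨_, hx⟩ * φ ⟨_, hx⟩ = 1 := fun hx e => by
    rw [← map_mul, show _ * _ = (1 : LL j) from Subtype.ext (by simp [← map_mul, e]), map_one]
  have := eq_bot_of_four (N := (N.subgroupOf (LL j)).map φ) (sq a0 (by decide +kernel))
    (sq a1 (by decide +kernel)) (by simpa only [List.forall_mem_cons] using ⟨k0, k1, k2, by simp⟩)
  rw [Subgroup.map_eq_bot_iff, QuotientGroup.ker_mk'] at this
  exact fun n hn => this (show (⟨n, h1 hn⟩ : LL j) ∈ N.subgroupOf _ from hn)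

/-- `L` is quasisimple. -/
theorem quasi {N : Subgroup He} (h1 : N ≤ LL j) (hN : LL j ≤ Ns N) : N = LL j ∨ N ≤ VX.map j := by
  by_cases h : ∀ y, j y ∈ N → y ∈ VX
  · exact .inr (le_V h1 hN h)
  · push Not at h
    obtain ⟨y, h2, h3⟩ := h
    exact .inl (le_antisymm h1 (PP_eq ▸ fill (PP_le.trans hN) (a0_mem hN h2 (J_LL.1 (h1 h2)) h3)))

end H77.HeA
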