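/- U42E tower (blueprints/U42E.md), slot FS: facts on `SU₄(2)`. -/
import Cfsg.Agent.H83.SVInd

set_option autoImplicit false
set_option linter.unusedSectionVars false

namespace H77.SVFS

open H64.SG (Cs Ns)
open H67.SA (St cI)
open H83.SV Subgroup
open scoped commutatorElement

variable {F K : Type} [Field F] [Finite F] [CharP F 2] [Field K] [Algebra F K] [StarRing K] [CharP K 2]
  [Qe F K] [Finite K]

section Field
variable (F)
include F

theorem mul_star {a : K} (h : a ≠ 0) : a * star a = 1 := by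
  rw [← io_nm (F := F), nm_eq_one h, map_one]

theorem cube {a : K} (h : a ≠ 0) : a * a * a = 1 := by
  have := Fintype.ofFinite K
  have e := FiniteField.pow_card_sub_one_eq_one a h
  rw [← Nat.card_eq_fintype_card, Qe.card (F := F), Qe.two (F := F) (K := K)] at e
  rw [← e]; ring

theorem star_eq (a : K) : star a = a * a := by
  by_cases h : a = 0
  · simp [h]
  · exact mul_left_cancel₀ h (by rw [mul_star F h, ← mul_assoc, cube F h])

theorem quad {a : K} (h : a ≠ 0) (h1 : a ≠ 1) : a * a + a + 1 = 0 :=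
  mul_left_cancel₀ (sub_ne_zero.2 h1) (by linear_combination cube F h)

theorem K_cases {y : K} (h : y ≠ 0) (h1 : y ≠ 1) (a : K) : a = 0 ∨ a = 1 ∨ a = y ∨ a = y + 1 := by
  by_cases e : a = 0
  · exact .inl e
  by_cases e1 : a = 1
  · exact .inr (.inl e1)
  have : (a - y) * (a - (y + 1)) = 0 := by
    linear_combination quad F e e1 + quad F h h1 - (a * y + a + 1) * two0 K
  exact .inr (.inr ((mul_eq_zero.1 this).imp sub_eq_zero.1 sub_eq_zero.1))

theorem star_y {y : K} (h : y ≠ 0) (h1 : y ≠ 1) : star y = y + 1 := by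
  rw [star_eq F]; linear_combination quad F h h1 - (y + 1) * two0 K

theorem aut_cases (τ : RingAut K) : τ = 1 ∨ τ = sg K := by
  obtain ⟨y, y1, -⟩ := exists_nm_one F K
  have h := y.ne_zero
  have h1 : (y : K) ≠ 1 := fun e => y1 (Units.ext e)
  have s := star_y F h h1
  rcases K_cases F h h1 (τ y) with e | e | e | e
  · exact absurd ((map_eq_zero τ).1 e) h
  · exact absurd (τ.injective (e.trans (map_one τ).symm)) h1
  · refine .inl (RingEquiv.ext fun a => ?_)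
    change τ a = a
    rcases K_cases F h h1 a with rfl | rfl | rfl | rfl <;> simp [e]
  · refine .inr (RingEquiv.ext fun a => ?_)
    change τ a = star a
    rcases K_cases F h h1 a with rfl | rfl | rfl | rfl <;> simp [e, s]

theorem aut2 (τ : RingAut K) : τ * τ = 1 := by
  rcases aut_cases F τ with rfl | rfl
  · exact mul_one 1
  · exact sg_mul_self

end Field

theorem ivL : Lv F K ≤ closure {u | u ∈ Ns (AX K) ∧ u * u = 1} := by
  have w : (ws : X K) ∈ Ns (AX K) := Lv_le_Ns (F := F) ws_mem_Lv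
  refine (closure_le _).2 ?_
  rintro g ((⟨a, rfl⟩ | rfl) | ⟨y, r, rfl⟩)
  · exact subset_closure ⟨Lv_le_Ns (F := F) (xs_mem_Lv a), xs_sq a⟩
  · exact subset_closure ⟨w, ws_sq⟩
  · have m := Lv_le_Ns (ht_mem_Lv y r)
    have e : ht y r = (ht y r)⁻¹ * ws * ht y r * ws := by
      have e := ws_ht y r
      rw [ws_inv] at e
      rw [mul_assoc, mul_assoc, ← mul_assoc ws, e, ht_inv, ← ht_mul, unit_eq K (r⁻¹ * (r * nu F y)), unit_eq K r]
      congr 1
      rw [← mul_inv, eq_inv_iff_mul_eq_one, ← mul_assoc]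
      exact Units.ext (cube F y.ne_zero)
    change ht y r ∈ Subgroup.closure _
    rw [e]
    refine mul_mem (subset_closure ⟨mul_mem (mul_mem (inv_mem m) w) m, ?_⟩) (subset_closure ⟨w, ws_sq⟩)
    calc _ = (ht y r)⁻¹ * (ws * ws) * ht y r := by group
      _ = 1 := by rw [ws_sq]; group

/-! ### `s5` -/

/-- additive, injective, keeps singular vectors -/
structure Good (φ : VA F K → VA F K) : Prop where
  add : ∀ v w, φ (v + w) = φ v + φ w
  inj : Function.Injective φ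
  sing : ∀ v, dt v = 0 → dt (φ v) = 0

/-- induced by an automorphism -/
def Rz (φ : VA F K → VA F K) : Prop := ∃ β ∈ St (AX K), ∀ v, β (xa v) = xa (φ v)

theorem Good.zero {φ : VA F K → VA F K} (g : Good φ) : φ 0 = 0 := by simpa using g.add 0 0

theorem red (n : FN F K) {φ : VA F K → VA F K} (g : Good φ) {β : MulAut (X K)} (hβ : β ∈ St (AX K))
    (H : ∀ ψ, Good ψ → (∀ v w, β (xa (φ v)) = xa w → ψ v = w) → Rz ψ) : Rz φ := by
  choose ψ hψ using fun v => (mem_AX (F := F)).1 ((hβ _).1 (xa_mem_AX (φ v)))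
  obtain ⟨γ, hγ, e⟩ := H ψ ⟨fun v w => xa_inj (by rw [← hψ, g.add, xa_add, map_mul, hψ, hψ, xa_add]),
    fun v w e => g.inj (xa_inj (β.injective (by rw [hψ, hψ, e]))),
    fun v hv => n.zw β _ _ (g.sing v hv) (hψ v)⟩ fun v w e => xa_inj ((hψ v).symm.trans e)
  exact ⟨β⁻¹ * γ, mul_mem (inv_mem hβ) hγ, fun v => by
    rw [MulAut.mul_apply, e, ← hψ]; exact β.symm_apply_apply _⟩

theorem st_conj {l : X K} (h : l ∈ Ns (AX K)) : MulAut.conj l ∈ St (AX K) := fun g => h g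

theorem sing {v : VA F K} (h : dt v = 0) : v = 0 ∨ v = (1, 0, 0) ∨ v = (nm F v.2.1, v.2.1, 1) := by
  obtain ⟨c, b, d⟩ := v
  simp only [dt] at h
  rcases F_cases K d with rfl | rfl
  · obtain rfl : b = 0 := nm_eq_zero.1 (by simpa using h)
    rcases F_cases K c with rfl | rfl
    · exact .inl rfl
    · exact .inr (.inl rfl)
  · rw [mul_one] at h
    obtain rfl : c = nm F b := by linear_combination h - k2 (nm F b)
    exact .inr (.inr rfl)

theorem sing1 {b : K} (h : b ≠ 0) : dt ((1, b, 1) : VA F K) = 0 := by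
  simp only [dt, nm_eq_one h, mul_one, k2]

theorem s4 {φ : VA F K → VA F K} (g : Good φ) {y : K} (h : y ≠ 0) (h1 : y ≠ 1)
    (e1 : φ (1, 0, 0) = (1, 0, 0)) (e2 : φ (0, 0, 1) = (0, 0, 1)) (e3 : φ (1, 1, 1) = (1, 1, 1))
    (e4 : φ (1, y, 1) = (1, y, 1)) : Rz φ := by
  have m : ∀ b : K, φ (1, b, 1) = (1, b, 1) → φ (0, b, 0) = (0, b, 0) := fun b e => by
    have : ((0, b, 0) : VA F K) = (1, b, 1) + (1, 0, 0) + (0, 0, 1) := by simp [k2]
    rw [this, g.add, g.add, e, e1, e2]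
  have m' : ∀ b : K, φ (0, b, 0) = (0, b, 0) := fun b => by
    rcases K_cases F h h1 b with rfl | rfl | rfl | rfl
    · exact g.zero
    · exact m _ e3
    · exact m _ e4
    · have : ((0, y + 1, 0) : VA F K) = (0, y, 0) + (0, 1, 0) := by simp
      rw [this, g.add, m _ e3, m _ e4]
  refine ⟨1, one_mem _, fun ⟨c, b, d⟩ => congrArg xa ?_⟩
  have : ((c, b, d) : VA F K) = (c, 0, 0) + (0, b, 0) + (0, 0, d) := by simp
  have z : φ (0, 0, 0) = (0, 0, 0) := g.zero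
  rw [this, g.add, g.add, m']
  rcases F_cases K c with rfl | rfl <;> rcases F_cases K d with rfl | rfl <;> simp only [e1, e2, z]

variable (n : FN F K) {φ : VA F K → VA F K} (g : Good φ)
include n g

theorem img (e1 : φ (1, 0, 0) = (1, 0, 0)) {v : VA F K} (h : dt v = 0) (h1 : v.2.2 = 1) :
    ∃ b : K, φ v = (nm F b, b, 1) := by
  rcases sing (g.sing v h) with e | e | e
  · rw [g.inj (e.trans g.zero.symm)] at h1; exact absurd h1 zero_ne_one
  · rw [g.inj (e.trans e1.symm)] at h1; exact absurd h1 zero_ne_one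
  · exact ⟨_, e⟩

theorem img' (e1 : φ (1, 0, 0) = (1, 0, 0)) (e2 : φ (0, 0, 1) = (0, 0, 1)) {a : K} (h : a ≠ 0) :
    ∃ b : K, b ≠ 0 ∧ φ (1, a, 1) = (1, b, 1) := by
  obtain ⟨b, e⟩ := img n g e1 (sing1 h) rfl
  have b0 : b ≠ 0 := fun z => by
    rw [z, nm_zero, ← e2] at e
    exact one_ne_zero (congrArg Prod.fst (g.inj e))
  exact ⟨b, b0, by rw [e, nm_eq_one b0]⟩

theorem s3 (e1 : φ (1, 0, 0) = (1, 0, 0)) (e2 : φ (0, 0, 1) = (0, 0, 1))
    (e3 : φ (1, 1, 1) = (1, 1, 1)) : Rz φ := by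
  obtain ⟨y, y1, -⟩ := exists_nm_one F K
  have h := y.ne_zero
  have h1 : (y : K) ≠ 1 := fun e => y1 (Units.ext e)
  obtain ⟨b, b0, e⟩ := img' n g e1 e2 h
  rcases K_cases F h h1 b with rfl | rfl | rfl | rfl
  · exact absurd rfl b0
  · exact absurd (congrArg (fun v => v.2.1) (g.inj (e.trans e3.symm))) h1
  · exact s4 g h h1 e1 e2 e3 e
  · refine red n g (fld_AX (sg K)) fun ψ g' H => s4 g' h h1 (H _ _ ?_) (H _ _ ?_) (H _ _ ?_) (H _ _ ?_)
    · rw [e1, fld_xa, star_zero]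
    · rw [e2, fld_xa, star_zero]
    · rw [e3, fld_xa, star_one]
    · rw [e, fld_xa, star_add, star_y F h h1, star_one, add_assoc, k2, add_zero]

theorem s2 (e1 : φ (1, 0, 0) = (1, 0, 0)) (e2 : φ (0, 0, 1) = (0, 0, 1)) : Rz φ := by
  obtain ⟨b, b0, e⟩ := img' n g e1 e2 one_ne_zero
  have i : nm F b⁻¹ = 1 := nm_eq_one (inv_ne_zero b0)
  refine red n g (st_conj (Lv_le_Ns (ht_mem_Lv (F := F) (Units.mk0 b b0)⁻¹ 1))) fun ψ g' H =>
    s3 n g' (H _ _ ?_) (H _ _ ?_) (H _ _ ?_)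
  · rw [e1, MulAut.conj_apply, ht_xa]; simp [aH, i]
  · rw [e2, MulAut.conj_apply, ht_xa]; simp [aH]
  · rw [e, MulAut.conj_apply, ht_xa]; simp [aH, i, b0]

theorem s1 (e1 : φ (1, 0, 0) = (1, 0, 0)) : Rz φ := by
  obtain ⟨b, e⟩ := img n g e1 (v := (0, 0, 1)) (by simp [dt]) rfl
  refine red n g (st_conj (Lv_le_Ns (xs_mem_Lv (F := F) b))) fun ψ g' H =>
    s2 n g' (H _ _ ?_) (H _ _ ?_)
  · rw [e1, MulAut.conj_apply, xs_xa]; simp [aS]
  · rw [e, MulAut.conj_apply, xs_xa]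
    simp only [aS, ← io_nm (F := F), tr_io, add_zero, mul_one, map_one, k2]

theorem s0 (l : FL F K) : Rz φ := by
  obtain ⟨t, ht, e⟩ := l.trS (φ (1, 0, 0)) (fun z => one_ne_zero
    (congrArg Prod.fst (g.inj (z.trans g.zero.symm)))) (g.sing _ (by simp [dt]))
  refine red n g (st_conj (inv_mem (Lv_le_Ns ht))) fun ψ g' H => s1 n g' (H _ _ ?_)
  rw [← e, MulAut.conj_apply]; group

omit n g

/-! ### `fr` -/

theorem xs_xa' (a : K) (v : VA F K) : xs a * xa v = xa (aS a v) * xs a := by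
  rw [← xs_xa, inv_mul_cancel_right]

theorem memA3 {c : F} {b : K} : xa ((c, b, 0) : VA F K) ∈ AX K ⊓ QX K :=
  ⟨xa_mem_AX _, xa_mem_QX.2 rfl⟩

/-- `β` has torus part `y` and field part `τ` -/
def Ty (F : Type) [Field F] [Algebra F K] [Qe F K] (β : MulAut (X K)) (y : Kˣ) (τ : RingAut K) : Prop :=
  ∃ u ∈ UX K, β = MulAut.conj (u * ht y (1 : Fˣ)) * fld K τ

theorem Ty.act {β : MulAut (X K)} {y : Kˣ} {τ : RingAut K} (h : Ty F β y τ) (v : VA F K) (a : K) :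
    ∃ w : VA F K, β (xa v * xs a) = xa w * xs (y * τ a) ∧ w.2.2 = v.2.2 ∧
      (a = 0 → v.2.2 = 0 → w.2.1 = y * τ v.2.1) := by
  obtain ⟨u, hu, rfl⟩ := h
  obtain ⟨p, c, rfl⟩ := (mem_UX (F := F)).1 hu
  obtain ⟨ρ, hρ⟩ := exists_res (F := F) τ
  have r : ρ v.2.2 = v.2.2 := by rcases F_cases K v.2.2 with e | e <;> simp [e]
  refine ⟨p + aS c (aH y 1 (ρ v.1, τ v.2.1, ρ v.2.2)) + aS (y * τ a) p, ?_, ?_, fun e e' => ?_⟩
  · rw [MulAut.mul_apply, map_mul (fld K τ), fld_xa' τ hρ, fld_xs, MulAut.conj_apply]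
    generalize ((ρ v.1, τ v.2.1, ρ v.2.2) : VA F K) = q
    calc _ = xa p * (xs c * (ht y (1 : Fˣ) * xa q * (ht y (1 : Fˣ))⁻¹) * (xs c)⁻¹) *
          (xs c * (ht y (1 : Fˣ) * xs (τ a) * (ht y (1 : Fˣ))⁻¹) * (xs c)⁻¹) * (xa p)⁻¹ := by group
      _ = _ := by
        rw [ht_xa, ht_xs, xs_xa, xs_comm c, mul_inv_cancel_right, xa_inv, mul_assoc, xs_xa', xa_add,
          xa_add, mul_assoc, mul_assoc, mul_assoc]
  · simp only [aS, aH, Prod.snd_add, Units.val_one, one_mul, r]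
    linear_combination k2 p.2.2
  · simp only [aS, aH, Prod.snd_add, Prod.fst_add, Units.val_one, one_mul, e, e', map_zero, mul_zero,
      map_one, add_zero, zero_mul]
    linear_combination k2 p.2.1

theorem Ty.xm {β : MulAut (X K)} {y : Kˣ} {τ : RingAut K} (h : Ty F β y τ) (c : F) (b : K) :
    ∃ c' : F, β (xa ((c, b, 0) : VA F K)) = xa ((c', y * τ b, 0) : VA F K) := by
  obtain ⟨⟨c', b', d'⟩, e, e1, e2⟩ := h.act (c, b, 0) 0
  obtain rfl : d' = 0 := e1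
  obtain rfl : b' = y * τ b := e2 rfl rfl
  exact ⟨c', by simpa using e⟩

theorem Ty.one {β : MulAut (X K)} {y : Kˣ} (h : Ty F β y 1) {j : ℕ} (e : β ^ 2 ^ j = 1) : y = 1 := by
  have p : ∀ i : ℕ, ∃ c : F, (β ^ i) (xa ((0, 1, 0) : VA F K)) = xa ((c, (y : K) ^ i, 0) : VA F K) :=
    fun i => by
      induction i with
      | zero => exact ⟨0, by simp⟩
      | succ i ih =>
        obtain ⟨c, ih⟩ := ih
        obtain ⟨c', e⟩ := h.xm c ((y : K) ^ i)
        exact ⟨c', by rw [pow_succ', MulAut.mul_apply, ih, e, pow_succ']; rfl⟩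
  obtain ⟨c, p⟩ := p (2 ^ j)
  rw [e] at p
  have q : (1 : K) = (y : K) ^ 2 ^ j := congrArg (fun v => v.2.1) (xa_inj p)
  clear e p
  induction j with
  | zero => exact Units.ext (by simpa using q.symm)
  | succ j ih => exact ih (sq_inj (by rw [← pow_mul, ← pow_succ, ← q, one_pow]))

theorem fr (n : FN F K) (T : Subgroup (MulAut (X K))) (hT : T ≤ St (UX K)) (h2 : IsPGroup 2 T) :
    (∃ a, ⁅T, T⁆ ≤ cI (AX K ⊓ QX K ⊔ zpowers (xs a))) ∧
    ∃ b : K, b ≠ 0 ∧ ∀ β ∈ T, β (xm b) * (xm b)⁻¹ ∈ ZX K := by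
  have ty : ∀ β ∈ T, ∃ y, Ty F β y (oX K β) := fun β hβ => by
    obtain ⟨u, hu, y, r, e⟩ := n.exU β (hT hβ)
    exact ⟨y, u, hu, unit_eq K r ▸ e⟩
  have t1 : ∀ β ∈ T, oX K β = 1 → ∃ u ∈ UX K, β = MulAut.conj u := fun β hβ e => by
    obtain ⟨y, t⟩ := ty β hβ
    obtain ⟨j, hj⟩ := h2 ⟨β, hβ⟩
    rw [e] at t
    obtain rfl := t.one (congrArg Subtype.val hj)
    obtain ⟨u, hu, t⟩ := t
    exact ⟨u, hu, by simpa using t⟩
  have t2 : ∀ β ∈ T, ∀ γ ∈ T, oX K β ≠ 1 → oX K γ ≠ 1 → oX K β = oX K γ := fun β _ γ _ e e' =>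
    ((aut_cases F _).resolve_left e).trans ((aut_cases F _).resolve_left e').symm
  obtain ⟨b, b0, hb⟩ : ∃ b : K, b ≠ 0 ∧ ∀ β ∈ T, ∃ y τ, Ty F β y τ ∧ y * τ b = b ∧
      ∀ a, y * τ a + a = 0 ∨ y * τ a + a = b := by
    have o : ∀ b : K, ∀ β ∈ T, oX K β = 1 → ∃ y τ, Ty F β y τ ∧ y * τ b = b ∧
        ∀ a, y * τ a + a = 0 ∨ y * τ a + a = b := fun b β hβ e => by
      obtain ⟨u, hu, e⟩ := t1 β hβ e
      exact ⟨1, 1, ⟨u, hu, by simpa using e⟩, by simp, fun a => .inl (by simp [k2])⟩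
    by_cases e : ∀ β ∈ T, oX K β = 1
    · exact ⟨1, one_ne_zero, fun β hβ => o 1 β hβ (e β hβ)⟩
    push Not at e
    obtain ⟨γ, hγ, e⟩ := e
    obtain ⟨y, u0, hu0, t⟩ := ty γ hγ
    have y3 := cube F y.ne_zero
    refine ⟨y * y, mul_ne_zero y.ne_zero y.ne_zero, fun β hβ => ?_⟩
    by_cases e' : oX K β = 1
    · exact o _ β hβ e'
    obtain ⟨u, hu, e1⟩ := t1 _ (mul_mem hβ (inv_mem hγ))
      (by rw [map_mul, map_inv, t2 β hβ γ hγ e' e, mul_inv_cancel])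
    rw [(aut_cases F _).resolve_left e] at t
    refine ⟨y, sg K, ⟨u * u0, mul_mem hu hu0, ?_⟩, ?_, fun a => ?_⟩
    · rw [mul_inv_eq_iff_eq_mul.1 e1, t, mul_assoc u, map_mul _ u, mul_assoc]
    · change y * star ((y : K) * y) = _
      rw [star_eq F]; linear_combination (y : K) * y * y3
    · change y * star a + a = 0 ∨ y * star a + a = _
      rw [star_eq F]
      by_cases a0 : a = 0
      · simp [a0]
      have a3 := cube F a0
      have : (y * (a * a) + a) * (y * (a * a) + a - y * y) = 0 := by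
        linear_combination ((y : K) * y * a) * a3 + ((y : K) * 2) * a3 - (a * a) * y3 + (y : K) * two0 K
      exact (mul_eq_zero.1 this).imp_right sub_eq_zero.1
  have NU : AX K ⊓ QX K ⊔ zpowers (xs b) ≤ UX K :=
    sup_le (inf_le_left.trans AX_le_UX) (zpowers_le_of_mem (xs_mem_UX b))
  have key : ∀ β ∈ T, ∀ u ∈ UX K, β u * u⁻¹ ∈ AX K ⊓ QX K ⊔ zpowers (xs b) := fun β hβ u hu => by
    obtain ⟨y, τ, t, -, e⟩ := hb β hβ
    obtain ⟨v, a, rfl⟩ := (mem_UX (F := F)).1 hu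
    obtain ⟨w, e1, e2, -⟩ := t.act v a
    rw [e1, mul_inv_rev, xs_inv, xa_inv, mul_assoc, ← mul_assoc (xs _), ← xs_add, xs_xa', ← mul_assoc,
      ← xa_add]
    refine mul_mem (mem_sup_left ⟨xa_mem_AX _, xa_mem_QX.2 ?_⟩) (mem_sup_right ?_)
    · simp only [aS, Prod.snd_add, e2, k2]
    · rcases e a with e | e <;> rw [e]
      · rw [xs_zero]; exact one_mem _
      · exact mem_zpowers _
  have cm : ∀ (β : MulAut (X K)) u, ⁅β, MulAut.conj u⁆ = MulAut.conj (β u * u⁻¹) := fun β u =>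
    MulEquiv.ext fun g => by simp [commutatorElement_def, mul_assoc]
  refine ⟨⟨b, commutator_le.2 fun β hβ γ hγ => ?_⟩, b, b0, fun β hβ => ?_⟩
  · by_cases e : oX K γ = 1
    · obtain ⟨u, hu, rfl⟩ := t1 γ hγ e
      exact ⟨_, key β hβ u hu, (cm β u).symm⟩
    by_cases e' : oX K β = 1
    · obtain ⟨u, hu, rfl⟩ := t1 β hβ e'
      rw [← commutatorElement_inv]
      exact inv_mem ⟨_, key γ hγ u hu, (cm γ u).symm⟩
    obtain ⟨u, hu, e1⟩ := t1 _ (mul_mem (inv_mem hβ) hγ)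
      (by rw [map_mul, map_inv, t2 β hβ γ hγ e' e, inv_mul_cancel])
    have m := key β hβ u hu
    refine ⟨β (β u * u⁻¹), ?_, ?_⟩
    · have := mul_mem (key β hβ _ (NU m)) m
      rwa [inv_mul_cancel_right] at this
    · rw [inv_mul_eq_iff_eq_mul.1 e1]
      exact MulEquiv.ext fun g => by simp [commutatorElement_def, mul_assoc]
  · obtain ⟨y, τ, t, e, -⟩ := hb β hβ
    obtain ⟨c, e1⟩ := t.xm 0 b
    rw [xm_eq (F := F), e1, e, xa_inv, ← xa_add]
    exact xa_mem_ZX.2 ⟨k2 b, k2 0⟩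

/-! ### `fr2` -/

/-- the elements of `A₃ ⟨xs a⟩` -/
def E (a : K) (c : F) (b : K) (ε : F) : X K := xa ((c, b, 0) : VA F K) * xs (algebraMap F K ε * a)

theorem E_mul (a : K) (c c' : F) (b b' : K) (ε ε' : F) : E a c b ε * E a c' b' ε' =
    E a (c + c' + ε * tr F (a * star b')) (b + b') (ε + ε') := by
  rw [E, E, E, mul_assoc, ← mul_assoc (xs _), xs_xa', mul_assoc, ← xs_add, ← mul_assoc, ← xa_add,
    map_add, add_mul]
  simp [aS, mul_assoc, tr_io_mul, add_assoc]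

theorem E_comm {a : K} {c c' : F} {b b' : K} {ε ε' : F} :
    E a c b ε * E a c' b' ε' = E a c' b' ε' * E a c b ε ↔
      ε * tr F (a * star b') = ε' * tr F (a * star b) := by
  rw [E_mul, E_mul, add_comm c' c, add_comm b' b, add_comm ε' ε]
  exact ⟨fun e => add_left_cancel (congrArg Prod.fst (xa_xs_inj e).1), fun e => by rw [e]⟩

theorem E_sq {a : K} {c : F} {b : K} {ε : F} (h : E a c b ε * E a c b ε = 1) :
    ε * tr F (a * star b) = 0 := by
  rw [E_mul, E, k2, k2, k2, map_zero, zero_mul, xs_zero, mul_one, zero_add] at h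
  exact congrArg Prod.fst (xa_eq_one.1 h)

theorem memE {a : K} {g : X K} (h : g ∈ AX K ⊓ QX K ⊔ zpowers (xs a)) :
    ∃ (c : F) (b : K) (ε : F), g = E a c b ε := by
  obtain ⟨p, hp, s, hs, rfl⟩ := (H98.mem_sup_right_norm (H98.le_normalizer_inf
    ((zpowers_le_of_mem (xs_mem_UX a)).trans UX_le_Ns_AX)
    ((zpowers_le_of_mem (xs_mem_UX a)).trans UX_le_Ns_QX))).1 h
  obtain ⟨⟨c, b, d⟩, rfl⟩ := (mem_AX (F := F)).1 hp.1
  obtain rfl : d = 0 := xa_mem_QX.1 hp.2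
  rcases (mem_zpowers_two (xs_sq a)).1 hs with rfl | rfl
  · exact ⟨c, b, 0, by simp [E]⟩
  · exact ⟨c, b, 1, by simp [E]⟩

include F in
theorem fr2 (a : K) (R : Subgroup (X K)) (θ : X K → X K) (h1 : AX K ⊓ QX K ≤ R)
    (h2 : R ≤ AX K ⊓ QX K ⊔ zpowers (xs a)) (bj : Set.BijOn θ R R)
    (hm : ∀ x ∈ R, ∀ y ∈ R, θ (x * y) = θ x * θ y) (x : X K) (hx : x ∈ AX K ⊓ QX K) :
    θ (θ x) ∈ AX K ⊓ QX K := by
  have m0 := h1 hx
  have m1 : θ x ∈ R := bj.mapsTo m0
  have m2 : θ (θ x) ∈ R := bj.mapsTo m1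
  have cm : ∀ x ∈ R, ∀ y ∈ R, θ x * θ y = θ y * θ x ↔ x * y = y * x := fun x hx y hy => by
    rw [← hm x hx y hy, ← hm y hy x hx]
    exact ⟨bj.injOn (mul_mem hx hy) (mul_mem hy hx), congrArg θ⟩
  have ce : ∀ x ∈ R, (∀ y ∈ R, θ x * y = y * θ x) ↔ ∀ y ∈ R, x * y = y * x := fun x hx =>
    ⟨fun e y hy => (cm x hx y hy).1 (e _ (bj.mapsTo hy)), fun e y hy => by
      obtain ⟨z, hz, rfl⟩ := bj.surjOn hy
      exact (cm x hx z hz).2 (e z hz)⟩
  have o : θ 1 = 1 := by simpa using hm 1 (one_mem _) 1 (one_mem _)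
  have q1 : θ x * θ x = 1 := by rw [← hm x m0 x m0, sq_AX hx.1, o]
  have q2 : θ (θ x) * θ (θ x) = 1 := by rw [← hm _ m1 _ m1, q1, o]
  have c01 := cm x m0 _ m1
  have z0 := ce x m0
  have z1 := ce _ m1
  obtain ⟨⟨c, b, d⟩, e0⟩ := (mem_AX (F := F)).1 hx.1
  obtain rfl : d = 0 := xa_mem_QX.1 (e0 ▸ hx.2)
  replace e0 : x = E a c b 0 := by simp [E, e0]
  obtain ⟨c1, b1, ε1, e1⟩ := memE (F := F) (h2 m1)
  obtain ⟨c2, b2, ε2, e2⟩ := memE (F := F) (h2 m2)
  rw [e2] at q2 c01 z1 m2 ⊢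
  rw [e1] at q1 c01 z0 z1
  rw [e0] at c01 z0
  by_cases a0 : a = 0
  · simpa [E, a0] using memA3
  rcases F_cases K ε2 with rfl | rfl
  · simpa [E] using memA3
  exfalso
  have cen : ∀ (c : F) (b : K), tr F (a * star b) = 0 → ∀ y ∈ R, E a c b 0 * y = y * E a c b 0 :=
    fun c b e y hy => by
      obtain ⟨c', b', ε', rfl⟩ := memE (F := F) (h2 hy)
      exact E_comm.2 (by rw [e, zero_mul, mul_zero])
  have d2 : tr F (a * star b2) = 0 := by simpa using E_sq q2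
  rw [E_comm, E_comm, d2, mul_zero, one_mul, zero_mul] at c01
  rcases F_cases K (tr F (a * star b)) with e | e
  · obtain ⟨t, ht⟩ := tr_surj K (1 : F)
    have := E_comm.1 (z1.2 (z0.2 (cen c b e)) (E a (0 : F) (star (a⁻¹ * t)) 0)
      (h1 (by simpa [E] using memA3)))
    rw [star_star, mul_inv_cancel_left₀ a0, ht] at this
    simp at this
  · rw [e, mul_one] at c01
    have e3 : ε1 = 0 := by
      rcases F_cases K ε1 with z | z
      · exact z
      · exact (c01.1 (by simpa [z] using (E_sq q1).symm)).symm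
    subst e3
    have := E_comm.1 (z0.1 (cen c1 b1 (c01.2 rfl).symm) _ m2)
    rw [e] at this
    simp at this

theorem jobFS : JobFS := fun F _ _ _ _ _ _ _ _ _ _ _ n l =>
  { aut2 := aut2 F
    ivL := ivL
    s5 := fun φ h => s0 n ⟨map_add φ, φ.injective, h⟩ l
    fr := fr n
    fr2 := fr2 (F := F) }

end H77.SVFS
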