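/- BM tower, products of two involutions of class 2A, level B (data written by tools/h77/tr.cpp). -/
import Cfsg.Agent.H77.Tr
import Cfsg.Agent.H77.CvBs
import Cfsg.Agent.H75.BMJob

set_option autoImplicit false
set_option maxRecDepth 100000
open Cfsg H17.Gr H71.Gr H75 H75.BM H75.BM.LB H77.Cv

namespace H77.Tr.B
variable {F : Type} [Field F] [H17.Gr.Good F]
/-- the facts used -/
noncomputable def FL : List Fa := [f110, f112, f120, f122, f129, f131, f134, f136, f149, f151, f159, f161,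
  f171, f173, f183, f185, f219, f221, f229, f231, f241, f243, f253, f255,
  f265, f267, f277, f279, f293, f295, f342, f344, f351, f353, f360, f362,
  f370, f372, f381, f383, f392, f394, f404, f406, f416, f418, f429, f431,
  f443, f445, f457, f459, f478, f480, f499, f501, f556, f558, f565, f567,
  f574, f576, f585, f587, f596, f598, f608, f610, f620, f622, f632, f634,
  f656, f658, f138, f206, f318, f208, f299, f546, f685, f697, f542, f300,
  f666, f332, f307, f531]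
theorem okFL (h : Hyp.{0} F X) : ∀ f ∈ FL, BM.Ok.{0} F X f :=
  (cok (o110 h) (cok (o112 h) (cok (o120 h) (cok (o122 h) (cok (o129 h) (cok (o131 h) (cok (o134 h) (cok (o136 h) 
  (cok (o149 h) (cok (o151 h) (cok (o159 h) (cok (o161 h) (cok (o171 h) (cok (o173 h) (cok (o183 h) (cok (o185 h) 
  (cok (o219 h) (cok (o221 h) (cok (o229 h) (cok (o231 h) (cok (o241 h) (cok (o243 h) (cok (o253 h) (cok (o255 h) 
  (cok (o265 h) (cok (o267 h) (cok (o277 h) (cok (o279 h) (cok (o293 h) (cok (o295 h) (cok (o342 h) (cok (o344 h) 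
  (cok (o351 h) (cok (o353 h) (cok (o360 h) (cok (o362 h) (cok (o370 h) (cok (o372 h) (cok (o381 h) (cok (o383 h) 
  (cok (o392 h) (cok (o394 h) (cok (o404 h) (cok (o406 h) (cok (o416 h) (cok (o418 h) (cok (o429 h) (cok (o431 h) 
  (cok (o443 h) (cok (o445 h) (cok (o457 h) (cok (o459 h) (cok (o478 h) (cok (o480 h) (cok (o499 h) (cok (o501 h) 
  (cok (o556 h) (cok (o558 h) (cok (o565 h) (cok (o567 h) (cok (o574 h) (cok (o576 h) (cok (o585 h) (cok (o587 h) 
  (cok (o596 h) (cok (o598 h) (cok (o608 h) (cok (o610 h) (cok (o620 h) (cok (o622 h) (cok (o632 h) (cok (o634 h) 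
  (cok (o656 h) (cok (o658 h) (cok (o138 h) (cok (o206 h) (cok (o318 h) (cok (o208 h) (cok (o299 h) (cok (o546 h) 
  (cok (o685 h) (cok (o697 h) (cok (o542 h) (cok (o300 h) (cok (o666 h) (cok (o332 h) (cok (o307 h) (cok (o531 h) nok))))))))))))))))))))))))))))))))))))))))))))))))))))))))))))))))))))))))))))))))))))))))
/-- the classes -/
def CL : List Cl := [⟨gsB0, sdBs0, [0, 2, 4, 6], [[], [8], [20], [54], [8, 49]]⟩,
  ⟨gsB1, sdBs1, [8, 10, 12, 14], [[8, 48], [70], [9, 2, 22], [72, 55, 0], [19, 0, 52]]⟩,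
  ⟨gsB2, sdBs2, [16, 18, 20, 22, 24, 26, 28], [[50], [22], [48, 54, 51]]⟩,
  ⟨gsB3, sdBs3, [30, 32, 34, 36, 38, 40, 42, 44, 46, 48, 50, 52, 54], [[], [54, 23, 15], [60, 32]]⟩,
  ⟨gsB4, sdBs4, [56, 58, 60, 62, 64, 66, 68, 70, 72], [[20], [10, 69], [9, 20], [9, 55, 19], [23]]⟩]
/-- the program -/
def PR : List Is := [⟨0, 0, [], 0, 20480, []⟩,
  ⟨0, 0, [], 0, 14450687, []⟩,
  ⟨0, 0, [], 0, 45055, []⟩,
  ⟨0, 0, [], 0, 26239251, []⟩,
  ⟨0, 0, [], 0, 24576, []⟩,
  ⟨0, 0, [], 0, 16801792, []⟩,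
  ⟨0, 0, [], 0, 16797696, []⟩,
  ⟨2, 4, [5], 74, 8085504, []⟩,
  ⟨2, 4, [6], 74, 16166911, []⟩,
  ⟨2, 0, [9], 75, 16814080, []⟩,
  ⟨3, 0, [10], 76, 18796543, []⟩,
  ⟨2, 7, [5, 7], 77, 15802368, []⟩,
  ⟨2, 10, [1, 2], 77, 36864, []⟩,
  ⟨3, 0, [22], 78, 20480, []⟩,
  ⟨2, 6, [14, 8], 78, 36864, []⟩,
  ⟨2, 1, [14, 14], 79, 16818176, []⟩,
  ⟨2, 5, [9, 11], 79, 528384, []⟩,
  ⟨3, 0, [70, 70], 80, 16818176, []⟩,
  ⟨2, 0, [30, 52], 80, 40960, []⟩,
  ⟨2, 0, [56], 81, 20480, []⟩,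
  ⟨3, 2, [51, 52, 48], 82, 528384, []⟩,
  ⟨2, 13, [8, 8, 15, 8], 79, 16814080, []⟩,
  ⟨4, 0, [], 83, 33377764, [77, 33222671, 3, nat_lit 0x2c30073011400f6b5ab019fbb7b00deb4840196b48400724a54001d40140192c11401f5e01401e7201b00e7b01b00e7801b0044d5c001d974ff00dde06f008cbd40005319900007b060016676e000f92150016ad8100090d7e3018cfeaa00710309, nat_lit 0x8000000040000000200000001000000008000000040000000200000001000000008000000040000000200000001000000008000000040000000200000001000000008000000040000000200000001000000008000000040000000200000001]⟩,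
  ⟨2, 0, [15], 79, 4206591, []⟩,
  ⟨3, 0, [69, 70], 80, 45055, []⟩,
  ⟨2, 1, [69, 61, 73], 84, 16814080, []⟩,
  ⟨4, 0, [], 83, 19946503, [77, 33222671, 3, nat_lit 0x2c30073011400f6b5ab019fbb7b00deb4840196b48400724a54001d40140192c11401f5e01401e7201b00e7b01b00e7801b0044d5c001d974ff00dde06f008cbd40005319900007b060016676e000f92150016ad8100090d7e3018cfeaa00710309, nat_lit 0x8000000040000000200000001000000008000000040000000200000001000000008000000040000000200000001000000008000000040000000200000001000000008000000040000000200000001000000008000000040000000200000001]⟩,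
  ⟨2, 0, [8, 15], 85, 4202496, []⟩,
  ⟨2, 0, [49, 32], 80, 16801791, []⟩,
  ⟨3, 0, [61, 71, 72], 84, 45055, []⟩,
  ⟨4, 0, [], 86, 10834355, [77, 33222671, 2, nat_lit 0x8000000040000000200000001000000008000000040000000200000001000000008000000040000000200000001000000008000000040000000200000001000000008000000040000000200000001000000008000000040000000201000001, nat_lit 0x8000000040000000200000001000000008000000040000000200000001000000008000000040000000200000001000000008000000040000000200000001000000008000000040000000200000001000000008000000040000000200000001]⟩,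
  ⟨2, 0, [19], 87, 14446592, []⟩,
  ⟨1, 25, [], 0, 0, []⟩,
  ⟨1, 31, [0, 0, 0, 0], 0, 0, []⟩,
  ⟨1, 31, [1, 3, 3], 0, 0, []⟩,
  ⟨1, 31, [0, 7, 5, 7], 0, 0, []⟩,
  ⟨1, 30, [], 0, 0, []⟩,
  ⟨1, 28, [12], 0, 0, []⟩,
  ⟨1, 24, [8, 8, 14, 10], 0, 0, []⟩,
  ⟨1, 28, [10, 10, 10, 10], 0, 0, []⟩,
  ⟨1, 17, [15, 12, 14], 0, 0, []⟩,
  ⟨1, 14, [10, 12, 11, 13], 0, 0, []⟩,
  ⟨1, 30, [16, 22, 27, 23], 0, 0, []⟩,
  ⟨1, 28, [16, 24], 0, 0, []⟩,
  ⟨1, 13, [16, 18, 18, 18], 0, 0, []⟩,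
  ⟨1, 27, [30, 52], 0, 0, []⟩,
  ⟨1, 14, [36, 45], 0, 0, []⟩,
  ⟨1, 19, [30, 49, 32], 0, 0, []⟩,
  ⟨1, 18, [], 0, 0, []⟩,
  ⟨1, 20, [70, 68], 0, 0, []⟩,
  ⟨1, 26, [69, 70], 0, 0, []⟩,
  ⟨1, 31, [56, 58, 60, 58], 0, 0, []⟩,
  ⟨1, 26, [], 0, 0, []⟩]
theorem chk : Tr.run X 20480 12288 4 FL (fun L => clsL 20480 FL L CL 0) PR [] = true := by decide +kernel
theorem st : St F X 20480 12288 4 FL :=
  ⟨show TB ⊆ TK by decide, rfl, by decide, .inr (by decide), by decide, rfl, arith, fun c v => (plane_b0 c v).1, okFL hypB⟩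
theorem clo : Clo F X 5 := fun i hi c => by
  have o := H23.Om.jobOm F
  refine H11.BMC.cls_closed (m := mB) (st (F := F)).hT arith omL_mono o.2.2.1 ?_ c
  interval_cases i
  exacts [cls0 hypB covB0,
    cls1 hypB covB1,
    cls2 hypB covB2,
    cls3 hypB covB3,
    cls4 hypB covB4]
theorem main {g : Mon F} (hg : g ∈ BM.GG F TB) : Ph 12288 4 (qq F 20480 * (g * qq F 20480 * g⁻¹)) :=
  st.fin (q := 4) (by decide +kernel) (by decide +kernel) (orbB rfl) (CL := CL)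
    (List.forall_mem_cons.2 ⟨covBs0, (List.forall_mem_cons.2 ⟨covBs1, (List.forall_mem_cons.2
    ⟨covBs2, (List.forall_mem_cons.2 ⟨covBs3, (List.forall_mem_cons.2 ⟨covBs4, fun _ h =>
    nomatch h⟩)⟩)⟩)⟩)⟩)
    chk (by decide) clo hg

end H77.Tr.B
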