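/- Job WZ-D: if all conjugates of `z` act as reflections, a quasi-dihedral subgroup is strongly closed. -/
import Cfsg.Agent.H8.WZKit

set_option autoImplicit false
set_option linter.unusedSectionVars false

open Cfsg Cfsg.FusionSystem H92 H86 H8.WZ Subgroup

namespace H77.WZ

universe u

variable {Ω : Type u} [Group Ω] {S R : Subgroup Ω} [Finite S] {F : FusionSystem S} {k : ℕ}
  {a b s t u : Ω}

theorem inv_pow (h : IsPGroup 2 S) {x : Ω} (hx : x ∈ S) (h1 : x ≠ 1) :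
    ∃ j : ℕ, x ^ j ≠ 1 ∧ x ^ j * x ^ j = 1 := by
  obtain ⟨k, hk⟩ := H98.isPGroup_iff_forall.1 h x hx
  induction k generalizing x with
  | zero => exact absurd (by simpa using hk) h1
  | succ k ih =>
    by_cases e : x * x = 1
    · exact ⟨1, by simpa using h1, by simpa using e⟩
    · obtain ⟨j, hj⟩ := ih (mul_mem hx hx) e (by rwa [← pow_two, ← pow_mul, ← pow_succ'])
      exact ⟨2 * j, by rwa [pow_mul, pow_two]⟩

theorem z4 (x : Ω) : x ^ (4 : ℤ) = x * x * (x * x) := by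
  rw [show (4 : ℤ) = 2 + 2 from rfl, zpow_add, zpow_two]

/-- the hypotheses of the job -/
structure HD (F : FusionSystem S) (R : Subgroup Ω) (k : ℕ) (a b : Ω) : Prop extends Hy F R k a b where
  H : ∀ t, F.IsConjElt (a ^ (2 * k)) t → t ≠ a ^ (2 * k) → ∀ r ∈ R, t * r = r * t →
    r = 1 ∨ r = a ^ (2 * k)

namespace HD

variable (h : HD F R k a b)
include h

theorem ke : ∃ e : ℤ, 0 < e ∧ (k : ℤ) = 2 * e := by
  obtain ⟨e, rfl⟩ := h.pow2
  exact ⟨2 ^ e, by positivity, by push_cast; ring⟩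

theorem k0 : 2 * k ≠ 0 := by obtain ⟨e, _, _⟩ := h.ke; omega

theorem one_iff (i : ℤ) : a ^ i = 1 ↔ 4 * (k : ℤ) ∣ i := by
  rw [h.gq.zpow_eq_one_iff]; push_cast; rw [← mul_assoc]; rfl

theorem eq_iff (i j : ℤ) : a ^ i = a ^ j ↔ 4 * (k : ℤ) ∣ i - j := by
  rw [h.gq.zpow_eq_iff]; push_cast; rw [← mul_assoc]; rfl

theorem zz : a ^ (2 * k) = a ^ (2 * k : ℤ) := by rw [← zpow_natCast]; push_cast; rfl

theorem aS (i : ℤ) : a ^ i ∈ S := h.le (h.gq.a_mem i)
theorem bS : b ∈ S := h.le h.gq.b_mem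
theorem zS : a ^ (2 * k) ∈ S := h.zz ▸ h.aS _

theorem a4 : a ^ (4 : ℤ) ≠ 1 := fun e => by
  obtain ⟨c, _, _⟩ := h.ke
  have := Int.le_of_dvd (by norm_num) ((h.one_iff 4).1 e)
  omega

theorem a2 : a ≠ a⁻¹ := fun e => h.a4 (by
  rw [z4]
  nth_rewrite 1 [e]
  nth_rewrite 3 [e]
  simp)

theorem toA {P : Subgroup Ω} {f : Ω → Ω} (hf : Mor F P f) (ha : a ∈ P) (e : f a ∈ R) :
    ∃ l : ℤ, f a = a ^ l := by
  obtain ⟨l, e | e⟩ := (h.gq.mem _).1 e
  · exact ⟨l, e⟩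
  · refine (h.a4 ((hf.eq_one_iff (zpow_mem ha 4)).1 ?_)).elim
    rw [hf.map_zpow ha, z4, e, h.gq.ba_sq, h.gq.z_mul_z]

theorem nor (hs : s ∈ S) {r : Ω} (hr : r ∈ R) : s * r * s⁻¹ ∈ R :=
  h.h1 S _ (mor_conj F le_rfl hs) h.zS (by rw [h.cen s hs, mul_inv_cancel_right]) r hr (h.le hr)

theorem cja (hs : s ∈ S) : ∃ l : ℤ, s * a * s⁻¹ = a ^ l :=
  h.toA (mor_conj F le_rfl hs) (h.le h.gq.a_mem') (h.nor hs h.gq.a_mem')

theorem cjb (hs : s ∈ S) (i : ℤ) : ∃ m : ℤ, s * (b * a ^ i) * s⁻¹ = b * a ^ m := by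
  obtain ⟨m, e | e⟩ := (h.gq.mem _).1 (h.nor hs (h.gq.ba_mem i))
  · obtain ⟨l, hl⟩ := h.cja (inv_mem hs)
    refine (h.gq.ba_ne_a i (l * m) ?_).elim
    rw [zpow_mul, ← hl, conj_zpow, ← e]; group
  · exact ⟨m, e⟩

theorem sq (ht : F.IsConjElt (a ^ (2 * k)) t) : t * t = 1 := by
  rw [← pow_two, ← orderOf_dvd_iff_pow_eq_one, conj_orderOf ht, orderOf_dvd_iff_pow_eq_one, pow_two,
    h.gq.z_mul_z]

theorem tinv (ht : F.IsConjElt (a ^ (2 * k)) t) : t⁻¹ = t := inv_eq_of_mul_eq_one_right (h.sq ht)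

/-- D0 -/
theorem act (ht : F.IsConjElt (a ^ (2 * k)) t) (n : t ≠ a ^ (2 * k)) :
    t * a * t⁻¹ = a⁻¹ ∧ ∃ m : ℤ, t * b * t⁻¹ = b * a ^ (2 * m + 1) := by
  have tS := conj_mem ht
  obtain ⟨l, hl⟩ := h.cja tS
  obtain ⟨m, hm⟩ := h.cjb tS 0
  obtain ⟨c, c0, hc⟩ := h.ke
  rw [zpow_zero, mul_one] at hm
  have tt : ∀ x, t * (t * x * t⁻¹) * t⁻¹ = x := fun x => by
    rw [h.tinv ht, ← mul_assoc, ← mul_assoc, h.sq ht, one_mul, mul_assoc, h.sq ht, mul_one]
  have cj : ∀ i : ℤ, t * a ^ i * t⁻¹ = a ^ (l * i) := fun i => by rw [zpow_mul, ← hl, conj_zpow]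
  have cb : ∀ i : ℤ, t * (b * a ^ i) * t⁻¹ = b * a ^ (m + l * i) := fun i => by
    rw [zpow_add, ← mul_assoc b, ← hm, ← cj]; group
  have e1 := h.H t ht n _ (h.gq.a_mem (1 + l)) (mul_inv_eq_iff_eq_mul.1 (by
    rw [cj, mul_add, mul_one, zpow_add, ← cj l, ← hl, tt, hl, add_comm, zpow_add_one]))
  have e2 : 4 * (k : ℤ) ∣ m + l * m := by
    rw [← h.one_iff, ← mul_eq_left (a := b), ← cb, ← hm, tt]
  have e3 : ∀ j, ¬ 4 * (k : ℤ) ∣ m + l * j - j := fun j e => by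
    rcases h.H t ht n _ (h.gq.ba_mem j) (mul_inv_eq_iff_eq_mul.1 (by rw [cb, (h.eq_iff _ _).2 e])) with p | p
    exacts [h.gq.ba_ne_a j 0 (by rw [p, zpow_zero]), h.gq.ba_ne_a j _ (p.trans h.zz)]
  rw [h.zz, h.one_iff, h.eq_iff, hc] at e1
  rw [hc] at e2 e3
  obtain ⟨m, rfl | rfl⟩ := Int.even_or_odd' m
  · rcases e1 with ⟨d, e⟩ | ⟨d, e⟩
    · exact (e3 m ⟨d * m, by linear_combination m * e⟩).elim
    · exact (e3 (m * (2 * c + 1)) ⟨c * m + d * m * (2 * c + 1), by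
        linear_combination m * (2 * c + 1) * e⟩).elim
  · refine ⟨?_, m, hm⟩
    rcases e1 with ⟨d, e⟩ | ⟨d, e⟩
    · rw [hl, ← zpow_neg_one, h.eq_iff, hc]; exact ⟨d, by linear_combination e⟩
    · obtain ⟨d', e'⟩ := e2
      have : c * (2 * m + 1) = c * (2 * (d' - d * (2 * m + 1))) := by
        have : 4 * (c * (2 * m + 1)) = 4 * (c * (2 * (d' - d * (2 * m + 1)))) := by
          linear_combination e' - (2 * m + 1) * e
        omega
      have := mul_left_cancel₀ c0.ne' this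
      omega

theorem ta (ht : F.IsConjElt (a ^ (2 * k)) t) (n : t ≠ a ^ (2 * k)) (i : ℤ) : t * a ^ i = a ^ (-i) * t := by
  rw [zpow_neg, ← inv_zpow, ← (h.act ht n).1, conj_zpow, inv_mul_cancel_right]

/-- D1 -/
theorem om (ht : F.IsConjElt (a ^ (2 * k)) t) (n : t ≠ a ^ (2 * k)) (j : ℤ) :
    F.IsConjElt (a ^ (2 * k)) (a ^ j * t) ∧ a ^ j * t ≠ a ^ (2 * k) := by
  have k1 : ∀ i r : ℤ, F.IsConjElt (a ^ (2 * k)) (a ^ i * t) → F.IsConjElt (a ^ (2 * k)) (a ^ (2 * r + i) * t) :=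
    fun i r p => by
      convert conj_conj p (conj_mem p) (h.aS r) using 1
      rw [mul_assoc, mul_assoc, ← zpow_neg, h.ta ht n]; group
  refine ⟨?_, fun e => h.a2 ?_⟩
  · obtain ⟨j, rfl | rfl⟩ := Int.even_or_odd' j
    · simpa using k1 0 j (by simpa using ht)
    · obtain ⟨m, hm⟩ := (h.act ht n).2
      have := k1 (2 * m + 1) (j - m) (by
        convert conj_conj ht (conj_mem ht) (inv_mem h.bS) using 1
        rw [inv_inv, mul_assoc, mul_inv_eq_iff_eq_mul.1 hm]; group)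
      rwa [show 2 * (j - m) + (2 * m + 1) = 2 * j + 1 by ring] at this
  · rw [← (h.act ht n).1, eq_inv_mul_of_mul_eq e, h.zz]; group

theorem ninv {c : Ω} (ht : F.IsConjElt (a ^ (2 * k)) t) (n : t ≠ a ^ (2 * k)) (hc : Commute c a)
    (i : ℤ) : t * c ≠ a ^ i := fun e => h.a2 (by
  rw [← (h.act ht n).1, eq_mul_inv_of_mul_eq e, mul_assoc _ c⁻¹, hc.inv_left.eq]; group)

/-- D2 -/
theorem cent (ht : F.IsConjElt (a ^ (2 * k)) t) (n : t ≠ a ^ (2 * k)) (hu : F.IsConjElt (a ^ (2 * k)) u)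
    (c : t * u = u * t) : u = a ^ (2 * k) ∨ u = t ∨ u = t * a ^ (2 * k) := by
  by_contra! p
  obtain ⟨α, hα, e⟩ := exists_to_central h.pg h.sat (conj_symm ht) h.cen
  have t1 := self_mem_cS (conj_mem ht)
  have u1 : u ∈ cS S t := mem_cS.2 ⟨conj_mem hu, c⟩
  have q := (h.om (conj_mor hu hα u1) (fun q => p.2.1 (hα.inj u1 t1 (q.trans e.symm))) (2 * k)).1
  rw [← h.zz] at q
  nth_rewrite 2 [← e] at q
  rw [← hα.map_mul t1 u1] at q
  have q := conj_trans q (conj_symm (hα.isConjElt (mul_mem t1 u1)))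
  have := (h.act q fun r => p.2.2 (by rw [← r, ← mul_assoc, h.sq ht, one_mul])).1
  refine h.a2 (this.symm.trans ?_).symm
  calc _ = t * (u * a * u⁻¹) * t⁻¹ := by group
    _ = (t * a * t⁻¹)⁻¹ := by rw [(h.act hu p.1).1]; group
    _ = _ := by rw [(h.act ht n).1, inv_inv]

/-- D3 -/
theorem all (ht : F.IsConjElt (a ^ (2 * k)) t) (n : t ≠ a ^ (2 * k)) (hu : F.IsConjElt (a ^ (2 * k)) u)
    (n' : u ≠ a ^ (2 * k)) : ∃ j : ℤ, u = a ^ j * t := by
  obtain ⟨p1, m, p2⟩ := h.act ht n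
  obtain ⟨-, m', q2⟩ := h.act hu n'
  obtain ⟨hv, nv⟩ := h.om hu n' (m' - m)
  suffices ∃ j : ℤ, a ^ (m' - m) * u = a ^ j * t by
    obtain ⟨j, e⟩ := this
    exact ⟨j - (m' - m), by rw [eq_inv_mul_of_mul_eq e]; group⟩
  have q3 : a ^ (m' - m) * u * b * (a ^ (m' - m) * u)⁻¹ = b * a ^ (2 * m + 1) :=
    calc _ = a ^ (m' - m) * (u * b * u⁻¹) * (a ^ (m' - m))⁻¹ := by group
      _ = _ := by rw [q2, h.gq.a_mul_ba]; group
  have tt : ∀ x, t * (t * x) = x := fun x => by rw [← mul_assoc, h.sq ht, one_mul]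
  obtain ⟨c, hc⟩ : ∃ c, a ^ (m' - m) * u = t * c := ⟨_, (tt _).symm⟩
  rw [hc] at hv nv q3 ⊢
  have cm : ∀ x, t * c * x * (t * c)⁻¹ = t * x * t⁻¹ → Commute c x := fun x e =>
    mul_inv_eq_iff_eq_mul.1 ((MulAut.conj t).injective (by simpa [mul_assoc] using e))
  have ca := cm a ((h.act hv nv).1.trans p1.symm)
  have cb := cm b (q3.trans p2.symm)
  have cS : c ∈ S := (mul_mem_cancel_left (conj_mem ht)).1 (conj_mem hv)
  have tc : ∀ i : ℕ, t * c ^ i = (c ^ i)⁻¹ * t := fun i => by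
    rw [← _root_.inv_pow, ← mul_inv_eq_iff_eq_mul, ← conj_pow, ← h.tinv hv, mul_inv_rev, h.tinv ht,
      mul_assoc, h.sq ht, mul_one]
  have oc : ∀ i : ℕ, F.IsConjElt (a ^ (2 * k)) (t * c ^ i) := fun i => by
    obtain ⟨j, rfl | rfl⟩ := Nat.even_or_odd' i
    · convert conj_conj ht (conj_mem ht) (inv_mem (pow_mem cS j)) using 1
      rw [← tc]; group
    · convert conj_conj hv (conj_mem hv) (inv_mem (pow_mem cS j)) using 1
      rw [← mul_assoc _ t, ← tc]; group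
  have ct : ∀ i : ℕ, c ^ i * c ^ i = 1 → t * (t * c ^ i) = t * c ^ i * t := fun i e => by
    rw [mul_assoc, tc, inv_eq_of_mul_eq_one_right e]
  by_cases e : c * c = 1
  · rcases h.cent ht n hv (by simpa using ct 1 (by simpa using e)) with p | p | p
    exacts [(nv p).elim, ⟨0, by simpa using p⟩, ⟨_, by rw [p, h.cen t (conj_mem ht), h.zz]⟩]
  exfalso
  obtain ⟨j, d1, d2⟩ := inv_pow h.pg (mul_mem cS cS) e
  rw [(Commute.refl _).mul_pow] at d1 d2
  have o1 := oc j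
  have o2 := oc (j + j)
  have t1 := tc j
  have t2 := ct (j + j)
  rw [pow_add] at o2 t2
  have ca := ca.pow_left j
  have cb := cb.pow_left j
  generalize c ^ j = c at *
  have cz : c * c = a ^ (2 * k : ℤ) := by
    rcases h.cent ht n o2 (t2 d2) with p | p | p
    exacts [(h.ninv ht n (ca.mul_left ca) _ (p.trans h.zz)).elim, (d1 (by simpa using p)).elim,
      (mul_left_cancel p).trans h.zz]
  obtain ⟨o3, n3⟩ := h.om o1 (h.zz ▸ h.ninv ht n ca _) k
  have nb : ∀ i : ℤ, c = a ^ (k + i * (2 * k)) → False := fun i p => by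
    have := h.gq.ba_conj 0 (k + i * (2 * k))
    rw [zpow_zero, mul_one, ← p, ← cb.eq, mul_inv_cancel_right, p, h.eq_iff] at this
    obtain ⟨d, e⟩ := this
    have := mul_left_cancel₀ (Int.natCast_ne_zero.2 h.k0) (show ((2 * k : ℕ) : ℤ) * (1 + 2 * i) =
      (2 * k : ℕ) * (2 * d) by push_cast; linear_combination e)
    omega
  have e3 : a ^ (k : ℤ) * (t * c) = t * (a ^ (-k : ℤ) * c) := by rw [← mul_assoc t, h.ta ht n]; group
  rcases h.cent ht n o3 (by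
    conv_lhs => rw [e3, tt]
    rw [t1, mul_assoc, mul_assoc, h.sq ht, mul_one, eq_comm, mul_inv_eq_iff_eq_mul, mul_assoc, cz]
    group) with p | p | p
  · exact n3 p
  · exact nb 0 (by rw [e3, mul_eq_left] at p; rw [eq_inv_of_mul_eq_one_right p]; group)
  · exact nb 1 (by rw [eq_inv_mul_of_mul_eq (mul_left_cancel (e3.symm.trans p)), h.zz]; group)

theorem a_mem {P : Subgroup Ω} {i : ℤ} (e : a ^ (2 * i + 1) ∈ P) : a ∈ P := by
  obtain ⟨r, hr⟩ := h.pow2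
  refine zpowers_le.2 e (mem_zpowers_zpow_iff.2 (Int.isCoprime_iff_gcd_eq_one.1 ?_))
  rw [h.gq.ord, hr, ← pow_succ', ← pow_succ', Nat.cast_pow]
  exact IsCoprime.pow_right ⟨1, -i, by push_cast; ring⟩

end HD

theorem jobD : JobD.{u} := by
  intro Ω _ S _ F R k a b h0 ⟨t, ht, n⟩ hH
  have h : HD F R k a b := ⟨h0, hH⟩
  have tS := conj_mem ht
  have t2 := h.sq ht
  have tt : ∀ x, t * (t * x) = x := fun x => by rw [← mul_assoc, t2, one_mul]
  have tr : ∀ r ∈ R, t * r * t ∈ R := fun r hr => by simpa [h.tinv ht] using h.nor tS hr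
  let P : Subgroup Ω :=
    { carrier := {g | g ∈ R ∨ g * t ∈ R}
      one_mem' := .inl (one_mem _)
      mul_mem' := by
        rintro x y (p | p) (q | q)
        · exact .inl (mul_mem p q)
        · exact .inr (mul_assoc x y t ▸ mul_mem p q)
        · exact .inr (by simpa only [mul_assoc, tt] using mul_mem p (tr y q))
        · exact .inl (by simpa only [mul_assoc, tt, t2, mul_one] using mul_mem p (tr _ q))
      inv_mem' := by
        rintro x (p | p)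
        · exact .inl (inv_mem p)
        · exact .inr (by simpa only [mul_inv_rev, h.tinv ht, tt] using tr _ (inv_mem p)) }
  have RP : R ≤ P := fun r hr => .inl hr
  have tP : t ∈ P := .inr (t2 ▸ one_mem _)
  have PS : P ≤ S := fun g hg => hg.elim (fun p => h.le p) fun p => (mul_mem_cancel_right tS).1 (h.le p)
  have oP : ∀ u, F.IsConjElt (a ^ (2 * k)) u → u ∈ P := fun u hu => by
    by_cases e : u = a ^ (2 * k)
    · exact e ▸ RP (pow_mem h.gq.a_mem' _)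
    · obtain ⟨j, rfl⟩ := h.all ht n hu e
      exact mul_mem (RP (h.gq.a_mem j)) tP
  obtain ⟨m, hm⟩ := (h.act ht n).2
  obtain ⟨c, c0, hc⟩ := h.ke
  have t1 : t ≠ 1 := fun e => h.a2 (by simpa [e] using (h.act ht n).1)
  refine ⟨P, PS, ?_, stronglyClosed_iff.2 ⟨PS, fun Q f hf x hx hxP =>
    H9.mem_of_closed h.pg h.sat (X := P) (fun Q hQ α hα g hg gP => ?_) hf hx hxP⟩⟩
  · obtain ⟨e, he⟩ := h.pow2
    have X2 : b * t * (b * t) = a ^ (2 * (k + m) + 1) := by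
      have := h.gq.ba_mul_ba 0 (2 * m + 1)
      rw [zpow_zero, mul_one, ← hm, h.tinv ht] at this
      rw [mul_assoc, ← mul_assoc t, this]; congr 1; push_cast; ring
    have X4 : (b * t) ^ 2 ^ (e + 3) = a ^ (2 * k) := by
      rw [pow_succ', pow_mul, pow_two, X2, ← zpow_natCast, ← zpow_mul, h.zz, h.eq_iff, he]
      exact ⟨k + m, by push_cast; rw [he]; push_cast; ring⟩
    refine ⟨e + 4, by omega, ?_, ⟨b * t, mul_mem (RP h.gq.b_mem) tP⟩, ⟨t, tP⟩, ?_, ?_, Subtype.ext ?_⟩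
    · rw [← H12.card_mul_relIndex RP, h.gq.card h.k0, relIndex_eq_two_iff_exists_notMem_and.2
        ⟨t, tP, fun p => (h.gq.eq_of_sq h.k0 p t2).elim t1 n, fun g hg => hg.symm⟩, he]
      ring
    · rw [orderOf_mk]
      exact orderOf_eq_prime_pow (X4 ▸ h.gq.z_ne_one h.k0) (by rw [pow_succ, pow_mul, X4, pow_two, h.gq.z_mul_z])
    · rw [orderOf_mk]
      exact orderOf_eq_prime (by rw [pow_two, t2]) t1
    · change t * (b * t) * t⁻¹ = (b * t) ^ (2 ^ (e + 3) - 1)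
      apply mul_right_cancel (b := b * t)
      rw [← pow_succ, Nat.sub_add_cancel Nat.one_le_two_pow, X4, mul_assoc t, mul_inv_cancel_right,
        mul_assoc, ← mul_assoc b, h.gq.bb, ← mul_assoc, h.cen t tS, mul_assoc, t2, mul_one]
  have cen := top_or_essential_centric hQ
  have QS := cen.1
  have hC := centralizerIn_le_of_centric cen
  have zQ : a ^ (2 * k) ∈ Q := hC ⟨h.zS, fun y hy => h.cen y (QS hy)⟩
  have fx : ∀ v ∈ Q, v * v = a ^ (2 * k) → ∀ β ∈ F.autGroup Q, ∀ r ∈ R, r ∈ Q → af β r ∈ R :=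
    fun v hv e β hβ => h.h1 Q _ (mor_af QS hβ) zQ (by_contra fun p => by
      have m := mor_af QS hβ
      obtain ⟨l, hl⟩ := h.cja (m.mem hv)
      have := (h.act (m.isConjElt zQ) p).1
      rw [← e, m.map_mul hv hv, show ∀ w : Ω, w * w * a * (w * w)⁻¹ = w * (w * a * w⁻¹) * w⁻¹ from
        fun w => by group, hl, ← conj_zpow, hl, ← zpow_mul, ← zpow_neg_one, h.eq_iff, hc] at this
      obtain ⟨d, e⟩ := this
      obtain ⟨i, rfl | rfl⟩ := Int.even_or_odd' l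
      · have : 2 * (2 * i * i - 4 * (c * d)) = -1 := by linear_combination e
        omega
      · have : 4 * (i * i + i - 2 * (c * d)) = -2 := by linear_combination e
        omega)
  have m1 := mor_af QS hα
  have iR : ∀ r ∈ R, r ∈ Q → af α r ∈ P := fun r hr rQ => by
    by_cases e : r * r = 1
    · rcases h.gq.eq_of_sq h.k0 hr e with rfl | rfl
      exacts [by rw [m1.map_one]; exact one_mem _, oP _ (m1.isConjElt zQ)]
    · obtain ⟨j, d1, d2⟩ := inv_pow h.pg (h.le (mul_mem hr hr)) e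
      refine RP (fx _ (pow_mem rQ j) ?_ α hα r hr rQ)
      rw [← (Commute.refl r).mul_pow]
      exact (h.gq.eq_of_sq h.k0 (pow_mem (mul_mem hr hr) j) d2).resolve_left d1
  rcases gP with p | p
  · exact iR g p hg
  obtain ⟨j, e | e⟩ := (h.gq.mem _).1 p
  · exact oP _ (conj_mor (by rw [eq_mul_inv_of_mul_eq e, h.tinv ht]; exact (h.om ht n j).1) m1 hg)
  have aQ : a ∈ Q := h.a_mem (i := k + m - j) (by
    convert mul_mem hg hg using 1
    have := h.gq.ba_mul_ba j (2 * m + 1 - j)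
    rw [eq_mul_inv_of_mul_eq e, h.tinv ht, mul_assoc, ← mul_assoc t, ← mul_assoc t,
      mul_inv_eq_iff_eq_mul.1 hm, mul_assoc _ t, h.ta ht n, mul_assoc _ _ t, mul_assoc _ t, t2, mul_one,
      mul_assoc b (a ^ _) (a ^ _), ← zpow_add, ← sub_eq_add_neg, this]
    congr 1; push_cast; ring)
  have fa : ∀ β ∈ F.autGroup Q, af β a ∈ zpowers a := fun β hβ =>
    (h.toA (mor_af QS hβ) aQ (fx _ (pow_mem aQ k) (by rw [← pow_add, two_mul]) β hβ a h.gq.a_mem' aQ)).imp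
      fun _ e => e.symm
  have RQ : R ≤ Q := le_of_chain h.pg (stronglyClosed_top F) hC (top_or_essential_radical h.pg h.sat hQ)
    h.le (fun y hy q hq => h.nor (QS hy) hq) (fun i => if i = 0 then zpowers a else S) 1 rfl
    (fun β hβ i hi => by
      obtain rfl : i = 0 := by omega
      rintro _ - ⟨l, rfl⟩
      exact ((mor_af QS hβ).map_zpow aQ l).symm ▸ zpow_mem (fa β hβ) l)
    (fun β hβ o => by
      rintro _ - ⟨l, rfl⟩
      obtain ⟨i, hi⟩ := fa β hβ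
      have := H9.fix_of_mem_zpowers_two (h.pg.to_le QS) o (d := ⟨a, aQ⟩)
        ⟨i, Subtype.ext (hi.trans (af_of_mem β aQ))⟩
      rw [(mor_af QS hβ).map_zpow aQ l, af_of_mem β aQ, this])
    (fun i hi q hq x hx _ => by
      obtain rfl : i = 0 := by omega
      rw [show x⁻¹ * (q * x * q⁻¹) = x⁻¹ * q * x⁻¹⁻¹ * q⁻¹ by group]
      obtain ⟨l, rfl | rfl⟩ := (h.gq.mem _).1 hq
      · obtain ⟨i, hi⟩ := h.cja (inv_mem (QS hx))
        exact ⟨i * l - l, by rw [← conj_zpow, hi]; group⟩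
      · obtain ⟨i, hi⟩ := h.cjb (inv_mem (QS hx)) l
        exact ⟨-(i - l), (h.gq.ba_conj 0 _).symm.trans (by rw [hi]; group)⟩)
  have tQ : t ∈ Q := (mul_mem_cancel_left hg).1 (RQ p)
  have := mul_mem (iR _ p (RQ p)) (oP _ (conj_mor ht m1 tQ))
  rwa [← m1.map_mul (RQ p) tQ, mul_assoc, t2, mul_one] at this

end H77.WZ
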