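/- STD-H: the facts `Dat`, `Par`, `ParAb` for a group of type `A₇`. -/
import Cfsg.Agent.H77.WrC

set_option autoImplicit false
set_option linter.unusedSectionVars false

universe u

namespace H77.Wr

open Subgroup Cfsg H98 H1.Gold H99.Wr H81 H81.A7

variable {G : Type u} [Group G] [Finite G] {L E E' S : Subgroup G} {F : Fr E 4 15}

local notation "R" => RN (L ⊓ nor E) F

/-- `S` consists of the 2-elements with a code in `LD`. -/
def SY (L : Subgroup G) (F : Fr E 4 15) (S : Subgroup G) : Prop :=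
  ∀ x, x ∈ S ↔ (∃ c ∈ LD, RN (L ⊓ nor E) F x c) ∧ ∃ k, x ^ 2 ^ k = 1

theorem syl_of_card {p n : ℕ} [Fact p.Prime] {T H : Subgroup G} (h : ¬ p ^ (n + 1) ∣ Nat.card H)
    (hT : IsPGroup p T) (hH : T ≤ H) (hc : p ^ n ≤ Nat.card T) : IsSyl p T H := by
  refine ⟨hH, hT, fun Q hQ h1 h2 => (eq_of_le_of_card_ge h1 ?_).symm⟩
  obtain ⟨m, hm⟩ := hQ.exists_card_eq
  have : m ≤ n := by
    by_contra e
    exact h ((pow_dvd_pow p (by omega)).trans (hm ▸ card_dvd_of_le h2))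
  exact hm ▸ (Nat.pow_le_pow_right (Fact.out : p.Prime).pos this).trans hc

namespace AF

variable (h : AF L E E' F)
include h

theorem powZ {x : G} {c : ℕ} (hx : R x c) (hc : c ∈ LD) : x ^ 2 ^ 3 ∈ L ⊓ cen L := by
  have h1 := (hx.mul hx).mul (hx.mul hx)
  rw [powD c hc] at h1
  obtain ⟨e, he, h2⟩ := h.cenE _ h1.1.1 (rn_cen h1)
  refine mem_inf.2 ⟨L.pow_mem hx.1.1 _, ?_⟩
  have h3 := mul_mem h2 h2
  rw [mul_assoc (x * x * (x * x)), ← mul_assoc e, mem_cen.1 (rn_cen h1) e he, mul_assoc _ e,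
    h.el e he, mul_one] at h3
  rw [show 2 ^ 3 = 8 from rfl]
  simpa only [pow_succ, pow_zero, one_mul, mul_assoc] using h3

theorem exists_sy : ∃ S, SY L F S := by
  let D : Subgroup G := ⟨⟨⟨{x | ∃ c ∈ LD, R x c}, fun ⟨c, hc, h1⟩ ⟨d, hd, h2⟩ =>
    ⟨_, mulD c hc d hd, h1.mul h2⟩⟩, _, by simp [LD], rn_one⟩, fun ⟨c, hc, h1⟩ => by
      obtain ⟨d, hd, h2⟩ := (by decide +kernel : ∀ c ∈ LD, ∃ d ∈ LD, ∀ i < 16,
        ap 4 15 c (ap 4 15 d i) = i) c hc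
      exact ⟨d, hd, rn_inv h1 h2⟩⟩
  exact exists_two (D := D) fun d ⟨c, hc, h1⟩ =>
    ⟨3, centralizer_anti (show D ≤ L from fun _ ⟨_, _, h⟩ => h.1.1) (h.powZ h1 hc).2⟩

variable (hS : SY L F S)
include hS

theorem SN : S ≤ L ⊓ nor E := fun x hx => by
  obtain ⟨⟨c, -, h1⟩, -⟩ := (hS x).1 hx
  exact h1.1

theorem SN' : S ≤ nor E' := fun x hx => by
  obtain ⟨⟨c, hc, h1⟩, -⟩ := (hS x).1 hx
  exact h.norD' h1 hc

theorem memS {x : G} {c : ℕ} (hx : R x c) (hc : c ∈ LD) (h2 : x * x = 1) : x ∈ S :=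
  (hS x).2 ⟨⟨c, hc, hx⟩, 1, by rwa [pow_one, pow_two]⟩

theorem ES : E ≤ S := fun x hx =>
  h.memS hS (rn_of_cen1 (h.EN hx) (h.el.le_cen hx)) (by simp [LD]) (h.el x hx)

theorem E'S : E' ≤ S := fun x hx => by
  obtain ⟨c, hc, h1⟩ := h.codeE' hx
  exact h.memS hS h1 (VD c hc) (h.el' x hx)

theorem decD {x : G} {c : ℕ} (hx : R x c) (hc : c ∈ LD) :
    ∃ z ∈ L ⊓ cen L, x * z ∈ S ∧ R (x * z) c := by
  obtain ⟨z, hz, h1⟩ := dec2 h.odd (fun z hz => (mem_cen.1 hz.2 x hx.1.1).symm) (h.powZ hx hc)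
  have h2 : z ∈ cen E := centralizer_anti h.EL hz.2
  have h3 := rn_of_cen hx (m := x * z) (mul_mem hx.1 ⟨hz.1, centralizer_le_normalizer _ h2⟩)
    (by simpa using h2)
  exact ⟨z, hz, (hS _).2 ⟨⟨c, hc, h3⟩, 3, h1⟩, h3⟩

theorem realD {c : ℕ} (hc : c ∈ LD) : ∃ s ∈ S, R s c := by
  obtain ⟨x, hx⟩ := h.std.rn (mem_LA' (List.mem_append_left _ (List.mem_append_left _ hc)))
  obtain ⟨z, -, h1⟩ := h.decD hS hx hc
  exact ⟨_, h1⟩

theorem twoS : IsPGroup 2 S := isPGroup_iff_forall.2 fun x hx => ((hS x).1 hx).2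

theorem syl : IsSyl 2 S L := by
  refine syl_of_card (n := 7) h.o2 (h.twoS hS) ((h.SN hS).trans inf_le_left) ?_
  choose r h1 h2 using fun j : Fin 8 => h.realD hS (List.getElem_mem (l := LD) j.2)
  have h3 : ∀ j (e : E), R (r j * e) LD[j.1] := fun j e =>
    rn_of_cen (h2 j) (mul_mem (h2 j).1 (h.EN e.2)) (by simpa using h.el.le_cen e.2)
  have := Nat.card_le_card_of_injective (fun p : Fin 8 × E => (⟨_, mul_mem (h1 p.1) (h.ES hS p.2.2)⟩ : S))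
    fun ⟨i, a⟩ ⟨j, b⟩ e => by
      have e1 : r i * a = r j * b := congrArg Subtype.val e
      have k : ∀ j : Fin 8, LD[j.1] < 2 ^ (4 * 4) := by decide +kernel
      obtain rfl : i = j := (by decide +kernel : ∀ i j : Fin 8, LD[i.1] = LD[j.1] → i = j) i j
        (rn_uniq (h3 i a) (e1 ▸ h3 j b) (k i) (k j))
      rw [Subtype.ext (mul_left_cancel e1)]
  rwa [Nat.card_prod, h.card, Nat.card_fin] at this

theorem S7 {s : G} (hs : s ∈ S) : s * F.v 7 = F.v 7 * s := by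
  obtain ⟨⟨c, hc, h1⟩, -⟩ := (hS s).1 hs
  exact (rn_fix h1 (by norm_num)).2 (actD c hc).1

theorem rkS {A : Subgroup G} (hA : A ≤ S) (he : El A) : Nat.card A ≤ 8 ∨ A ≤ E ∨ A ≤ E' := by
  classical
  let C := LD.filter fun c => decide (∃ a ∈ A, R a c)
  have mC : ∀ c, c ∈ C ↔ c ∈ LD ∧ ∃ a ∈ A, R a c := fun c => by simp [C]
  have hC : ∀ a ∈ A, ∃ c ∈ C, R a c := fun a ha => by
    obtain ⟨⟨c, hc, h1⟩, -⟩ := (hS a).1 (hA ha)
    exact ⟨c, (mC c).2 ⟨hc, a, ha, h1⟩, h1⟩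
  refine (subsD C (List.mem_sublists.2 List.filter_sublist) fun c hc => ?_).imp
    (fun h1 => le_trans ?_ h1) fun h1 => ?_
  · obtain ⟨h1, a, ha, h2⟩ := (mC c).1 hc
    refine ⟨rn_uniq (h2.mul h2) (he a ha ▸ rn_one) (m4_lt F _ _) (by norm_num), fun d hd => ?_⟩
    obtain ⟨h3, b, hb, h4⟩ := (mC d).1 hd
    exact (mC _).2 ⟨mulD c h1 d h3, _, mul_mem ha hb, h2.mul h4⟩
  · refine card_le_of _ _ hC fun a ha hc => ?_
    obtain ⟨i, hi, rfl⟩ := v_sur F (h.sq_mem (h.SN hS (hA ha)).1 hc (he a ha))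
    refine ⟨i, List.mem_filter.2 ⟨List.mem_range.2 hi, List.all_eq_true.2 fun c hc => ?_⟩, rfl⟩
    obtain ⟨-, b, hb, h4⟩ := (mC c).1 hc
    exact beq_iff_eq.2 ((rn_fix h4 hi).1 (he.comm hb ha))
  · have h2 : ∀ a ∈ A, a ∉ E → a ∈ E' := fun a ha => by
      obtain ⟨c, hc, h3⟩ := hC a ha
      exact h.inE' h3 (h1 c hc) (he a ha)
    refine or_iff_not_imp_left.2 fun h3 a ha => ?_
    obtain ⟨b, hb, h4⟩ := SetLike.not_le_iff_exists.1 h3
    by_cases h5 : a ∈ E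
    · obtain ⟨i, hi, rfl⟩ := h.fixE' (h2 b hb h4) h4 h5 (he.comm hb ha)
      exact h.vU hi
    · exact h2 a ha h5

theorem two {A : Subgroup G} (hA : A ≤ S) (he : El A) (hc : Nat.card E ≤ Nat.card A) :
    A = E ∨ A = E' := by
  have := h.card
  rcases h.rkS hS hA he with h1 | h1 | h1
  · omega
  · exact .inl (eq_of_le_of_card_ge h1 hc)
  · exact .inr (eq_of_le_of_card_ge h1 (h.card_E'.trans (this ▸ hc)))

theorem norS {a : G} (ha : a ∈ L ⊓ nor E') (h1 : a ∈ nor S) : a ∈ S ⊔ (L ⊓ cen L) := by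
  have h2 : a ∈ L ⊓ nor E := by
    refine ⟨ha.1, ?_⟩
    rcases h.two hS (cj_le_of_le (h.ES hS) h1) (h.el.cj a) (card_cj a E).ge with e | e
    · exact cj_eq_self_iff.1 e
    · obtain ⟨f, hf, -, -, h3, -⟩ := h.exV
      rw [← cj_eq_self ha.2, cj_inj] at e
      exact (h3 (e ▸ hf)).elim
  obtain ⟨c, hc, h3⟩ := h.code h2
  have k : ∀ d ∈ LD, ∃ e ∈ LD, m4 e c = m4 c d := fun d hd => by
    obtain ⟨s, hs, h4⟩ := h.realD hS hd
    obtain ⟨⟨e, he, h5⟩, -⟩ := (hS _).1 (conj_mem_of_mem_normalizer h1 hs)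
    exact ⟨e, he, rn_uniq (by simpa using h5.mul h3) (h3.mul h4) (m4_lt F _ _) (m4_lt F _ _)⟩
  obtain ⟨z, hz, h4, -⟩ := h.decD hS h3 (norD hc (k _ (by simp [LD])) (k _ (by simp [LD])))
  simpa using mul_mem_sup h4 (inv_mem hz)

theorem gen {K : Subgroup G} (hK : K ≤ L ⊓ nor E') (hn : L ⊓ nor E' ≤ nor K) (h1 : S ≤ K) :
    L ⊓ nor E' ≤ K ⊔ (L ⊓ cen L) := fun g hg => by
  obtain ⟨a, ha, n, hn, rfl⟩ := ((h.syl hS).of_le h1 (hK.trans inf_le_left)).frattini_mem (hn hg)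
  exact mul_mem (sup_le_sup_right h1 _ (h.norS hS (by simpa using mul_mem hg (inv_mem (hK hn))) ha))
    (mem_sup_left hn)

omit hS in
theorem cenL {x : G} (hx : x ∈ L) (hc : x ∈ cen E') : ∃ r ∈ E', x * r ∈ cen L := by
  have h7 := (mem_cen.1 hc _ h.h7).symm
  have h1 := (mem_cen.1 hc _ h.h1).symm
  obtain ⟨a, ha, -, -, a1, -⟩ := h.exV
  obtain ⟨c, h2, h3 | ⟨-, h3⟩⟩ := h.codeU (h.norU hx h7 h1) h7 h1
  · obtain ⟨f, hf, h4⟩ := h.realV h3
    obtain ⟨e, he, h5⟩ := h.cenE _ (mul_mem (inv_mem h4.1.1) hx) (h2.cen h4)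
    have h6 := mul_mem (inv_mem (mul_mem (inv_mem (h.el'.le_cen hf)) hc))
      (centralizer_anti h.E'L h5)
    rw [inv_mul_cancel_left] at h6
    obtain ⟨i, hi, rfl⟩ := h.fixE' ha a1 he (mem_cen.1 h6 a ha)
    refine ⟨_, mul_mem (inv_mem hf) (h.vU hi), ?_⟩
    rwa [← mul_assoc, ← mem_cen.1 hc _ (inv_mem hf)]
  · obtain ⟨v, hv, h4⟩ := h.codeE' ha
    exact (h.ne_one h4 (h.el' a ha) a1 (h3 v hv (rn_uniq (h2.mul h4) (mem_cen.1 hc a ha ▸ h4.mul h2)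
      (m4_lt F _ _) (m4_lt F _ _)))).elim

theorem par : Par L S E (L ⊓ nor E') E' where
  SX := le_inf ((h.SN hS).trans inf_le_left) (h.SN' hS)
  XL := inf_le_left
  RS := h.E'S hS
  XR := inf_le_right
  cenR x hx hc := by
    obtain ⟨r, hr, h1⟩ := h.cenL (h.SN hS hx).1 hc
    obtain ⟨k, hk⟩ := ((hS _).1 (mul_mem hx (h.E'S hS hr))).2
    rw [eq_inv_of_mul_eq_one_left
      (one_of_odd (odd_of_mem h.odd ⟨mul_mem (h.SN hS hx).1 (h.E'L hr), h1⟩) hk)]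
    exact inv_mem hr
  gen _ := h.gen hS
  chain _ hs := h.chain (h.SN hS hs)

omit hS in
theorem noFix {a w : G} (hw : R w 19671) (ha : a ∈ E) (h1 : w * a = a * w) : a = 1 := by
  obtain ⟨i, hi, rfl⟩ := v_sur F ha
  rw [fixO i hi ((rn_fix hw hi).1 h1), v_zero]

theorem parAb : ParAb L E (L ⊓ nor E') E' where
  el := h.el'
  cenL _ := h.cenL
  endo := by
    obtain ⟨w, hw, hw'⟩ := h.om
    have hw2 : w ∈ L ⊓ nor E' ⊓ nor E := ⟨⟨hw.1.1, hw'⟩, hw.1.2⟩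
    have hSB : S ≤ L ⊓ nor E' ⊓ nor E := le_inf (h.par hS).SX ((h.SN hS).trans inf_le_right)
    have key : ∀ φ : G → G, (∀ r ∈ E', φ r ∈ E') → (∀ r ∈ E', ∀ s ∈ E', φ (r * s) = φ r * φ s) →
        (∀ b ∈ L ⊓ nor E' ⊓ nor E, ∀ r ∈ E', φ (b * r * b⁻¹) = b * φ r * b⁻¹) →
        (φ (F.v 7) = 1 ∨ φ (F.v 7) = F.v 7) ∧ (φ (F.v 7) = 1 → ∀ r ∈ E', φ r = 1) := by
      intro φ h1 h2 h3
      have one : φ 1 = 1 := by simpa using h2 1 (one_mem _) 1 (one_mem _)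
      have hE : ∀ r ∈ E', (∀ e ∈ E, φ (e * r * e⁻¹) = φ r) → φ r ∈ E := fun r hr h4 =>
        h.sq_mem (h.E'L (h1 r hr)) (mem_cen.2 fun e he => comm_of_cj (by
          rw [← h3 e (hSB (h.ES hS he)) r hr, h4 e he])) (h.el' _ (h1 r hr))
      refine ⟨?_, fun h7 => ?_⟩
      · obtain ⟨i, hi, h4⟩ := v_sur F (hE _ h.h7 fun e he => by
          rw [cj_of_comm (h.el.comm he (F.v 7).2)])
        obtain ⟨s, hs, h5⟩ := h.realD hS (c := 12262) (by simp [LD])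
        obtain ⟨t, ht, h6⟩ := h.realD hS (c := 62017) (by simp [LD])
        have k : ∀ s ∈ S, s * F.v i = F.v i * s := fun s hs => comm_of_cj (by
          rw [h4, ← h3 s (hSB hs) _ h.h7, cj_of_comm (h.S7 hS hs)])
        rcases (by decide +kernel : ∀ i < 16, ap 4 15 12262 i = i → ap 4 15 62017 i = i →
          i = 0 ∨ i = 7) i hi ((rn_fix h5 hi).1 (k s hs)) ((rn_fix h6 hi).1 (k t ht)) with rfl | rfl
        exacts [.inl (h4.symm.trans v_zero), .inr h4.symm]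
      · have h6 : φ (F.v 6) = 1 := by
          rw [show (6 : ℕ) = ap 4 15 19671 7 by decide +kernel, ← hw.act (by norm_num),
            h3 w hw2 _ h.h7, h7, mul_one, mul_inv_cancel]
        have hU : ∀ u ∈ E ⊓ E', φ u = 1 := fun u hu => by
          obtain ⟨i, hi, rfl⟩ := h.memU hu
          simp only [List.mem_cons, List.not_mem_nil, or_false] at hi
          rcases hi with rfl | rfl | rfl | rfl
          · rw [v_zero, one]
          · rw [show 1 = 7 ^^^ 6 from rfl, v_mul, h2 _ h.h7 _ (h.vU (by simp)), h7, h6, mul_one]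
          exacts [h6, h7]
        intro r hr
        obtain ⟨c, hc, h4⟩ := h.codeE' hr
        have k : ∀ b ∈ L ⊓ nor E' ⊓ nor E, R (b * r * b⁻¹) c → φ (b * r * b⁻¹) = φ r := fun b hb h5 => by
          have h8 := mul_mem (inv_mem hr) (conj_mem_of_mem_normalizer hb.1.2 hr)
          rw [← mul_inv_cancel_left r (b * r * b⁻¹), h2 _ hr _ h8,
            hU _ ⟨h.sq_mem (h.E'L h8) (h5.cen h4) (h.el' _ h8), h8⟩, mul_one]
        refine h.noFix hw (hE r hr fun e he => k e (hSB (h.ES hS he)) (rn_cj inf_le_right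
          (rn_of_cen1 (h.EN he) (h.el.le_cen he)) h4 h4 ?_).1) (comm_of_cj ?_)
        · exact (by decide +kernel : ∀ c ∈ LV, m4 33825 c = m4 c 33825) c hc
        · rw [← h3 w hw2 r hr, k w hw2 (rn_cj inf_le_right hw h4 h4 (omV c hc)).1]
    intro φ h1 h2 h3
    obtain ⟨h4 | h4, h5⟩ := key φ h1 h2 h3
    · exact .inl (h5 h4)
    · refine .inr fun r hr => ?_
      have := (key (fun r => φ r * r) (fun r hr => mul_mem (h1 r hr) hr) (fun r hr s hs => by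
        rw [h2 r hr s hs, mul_assoc, ← mul_assoc (φ s), h.el'.comm (h1 s hs) hr]; group)
        fun b hb r hr => by rw [h3 b hb r hr, conj_mul]).2 (by rw [h4, h.el' _ h.h7]) r hr
      rw [eq_inv_of_mul_eq_one_left this, inv_of_sq (h.el' r hr)]

theorem inv {x : G} (hx : x ∈ L) (h2 : x * x = 1) : ∃ l ∈ L, l * x * l⁻¹ ∈ E := by
  obtain ⟨g, hg, h1⟩ := (h.syl hS).exists_cj_le (el_zpowers h2).two (zpowers_le.2 hx)
  obtain ⟨c, hc, h3 | ⟨-, d, hd, h3⟩⟩ := h.chain (h.SN hS (h1 (conj_mem_cj (mem_zpowers x))))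
    (by rw [conj_mul, h2, mul_one, mul_inv_cancel])
  · exact ⟨c * g, mul_mem hc.1 hg, by convert h3 using 1; group⟩
  · exact ⟨d * (c * g), mul_mem hd.1 (mul_mem hc.1 hg), by convert h3 using 1; group⟩

theorem dat (j : JobA7.{u}) : ∃ f, Dat L S E E' f := by
  obtain ⟨f, hf, f1, l, hl, h7⟩ := h.exl7
  obtain ⟨trh, mod, orb, wr⟩ := j G (L ⊓ nor E) E h.el h.card inf_le_right h.card_aut
    fun n hn hc => (h.cenE n hn.1 hc).imp fun e he =>
      ⟨he.1, odd_of_mem h.odd ⟨mul_mem hn.1 (h.EL he.1), he.2⟩⟩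
  obtain ⟨w, hw, hw'⟩ := h.om
  have fc : f ∉ cen E := fun e => f1 (h.sq_mem (h.E'L hf) e (h.el' f hf))
  refine ⟨f, h.syl hS, h.ES hS, (h.SN hS).trans inf_le_right, h.el, by rw [h.card]; norm_num, h.cenE,
    fun A hA he => ?_, fun A hA he hc a ha h1 => ?_, fun A hA hn => ?_, fun _ => h.simp, ?_,
    h.E'S hS hf, h.el' f hf, f1, fun _ => h.inv hS, .inr ⟨l, hl.1, ?_, ?_, fun A hA he hc h1 => ?_⟩,
    h.E'S hS, h.SN' hS, fun _ => h.two hS, trh, mod, fun α hα => wr α ⟨f, h.E'N hf, hα⟩ ?_ ?_, orb⟩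
  · obtain ⟨g, -, h1⟩ := (h.syl hS).exists_cj_le he.two hA
    rw [← card_cj g A]
    have := h.card
    rcases h.rkS hS h1 (he.cj g) with h2 | h2 | h2
    · omega
    · exact card_le_of_le h2
    · exact ((card_le_of_le h2).trans h.card_E').trans this.ge
  · obtain ⟨g, hg, h2⟩ := (h.syl hS).exists_cj_le he.two hA
    have k : ∀ n ∈ L, n ∈ nor (cj g A) → n * (g * a * g⁻¹) = g * a * g⁻¹ * n := fun n hn h3 => by
      have := h1 _ (mul_mem (mul_mem (inv_mem hg) hn) hg) (mem_cj.1 (cj_normalizer g A ▸ h3))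
      calc _ = g * (g⁻¹ * n * g * a) * g⁻¹ := by group
        _ = _ := by rw [this]; group
    have h3 := conj_mem_cj (g := g) ha
    refine conj_eq_one_iff.1 (show g * a * g⁻¹ = 1 from ?_)
    rcases h.two hS h2 (he.cj g) (card_cj g A ▸ hc) with e | e <;> rw [e] at k h3
    · exact h.noFix hw h3 (k w hw.1.1 hw.1.2)
    · exact h.noFix hw (h.sq_mem (h.E'L h3) (mem_cen.2 fun e he =>
        k e (h.EL he) (h.SN' hS (h.ES hS he))) (h.el' _ h3)) (k w hw.1.1 hw')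
  · refine or_iff_not_imp_left.2 fun h1 => le_antisymm hA fun e he => ?_
    obtain ⟨a, ha, h2⟩ := (bot_or_exists_ne_one A).resolve_left h1
    by_cases h3 : e = 1
    · exact h3 ▸ one_mem _
    obtain ⟨n, h4, h5⟩ := h.std.one (hA ha) h2
    obtain ⟨m, h6, rfl⟩ := h.std.one he h3
    have := conj_mem_of_mem_normalizer (hn (mul_mem h6 (inv_mem h4))) ha
    convert this using 1
    rw [← h5]; group
  · refine (h.simp (commutator_le_of_le le_rfl le_rfl) (le_normalizer_commutator le_normalizer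
      le_normalizer)).resolve_left fun e => ?_
    obtain ⟨x, hx⟩ := h.std.rn (mem_LA (c := 4764) (by simp))
    obtain ⟨y, hy⟩ := h.std.rn (mem_LA (c := 4713) (by simp))
    have := e (commutator_mem_commutator (inv_mem hx.1) (inv_mem hy.1))
    exact absurd (rn_uniq (hx.mul hy) (rn_of_cen (hy.mul hx) (mul_mem hx.1 hy.1) (by
      convert this using 1; rw [commutatorElement_def]; group)) (m4_lt F _ _) (m4_lt F _ _))
      (by decide +kernel)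
  · exact h7 ▸ ⟨(F.v 7).2, mem_cen.2 fun s => h.S7 hS⟩
  · refine le_trans (cj_le_of_le (fun e he => ?_) hl.2) (h.E'S hS)
    obtain ⟨i, hi, rfl⟩ := h.fixE' hf f1 he.1 (mem_cen1.1 he.2).symm
    exact h.vU hi
  · have h2 := cj_le_iff.1 h1
    have h3 := he.cj l⁻¹
    have k : ∀ u ∈ E ⊓ E', u ∈ cj l⁻¹ A := fun u hu =>
      h2 ⟨hu.1, mem_cen1.2 (h.el'.comm hu.2 hf)⟩
    rcases h.two hS (fun a ha => (h.cU2 (cj_le_of_le_of_mem hA (inv_mem hl.1) ha)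
      (h3.comm ha (k _ ⟨(F.v 7).2, h.h7⟩)) (h3.comm ha (k _ ⟨(F.v 1).2, h.h1⟩)) (h3 a ha)).elim
      (h.ES hS ·) (h.E'S hS ·)) h3 (card_cj l⁻¹ A ▸ hc) with e | e
    · exact .inl ⟨l, hl.1, by rw [← e, cj_cj_inv]⟩
    · obtain rfl : A = E' := by rw [← cj_eq_self hl.2, ← e, cj_cj_inv]
      exact .inr ⟨h.E'S hS, hl.2⟩
  · rintro rfl
    exact fc (mem_cen.2 fun e he => (comm_of_cj (hα ⟨e, he⟩).symm).symm)
  · refine MulEquiv.ext fun e => Subtype.ext ?_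
    rw [MulAut.mul_apply, hα, hα, tt_conj (h.el' f hf)]
    rfl

end AF

end H77.Wr
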