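/- STD-H: the facts `P0` and `Facts` for a group of type `A₇`. -/
import Cfsg.Agent.H77.WrD
import Cfsg.Agent.H99.BenderB
import Cfsg.Agent.H82.Hub
import Cfsg.Agent.H49.CenCore
import Cfsg.Agent.H14.Quasi

set_option autoImplicit false
set_option linter.unusedSectionVars false

universe u

namespace H77.Wr

open Subgroup Cfsg H98 H1.Gold H99.Wr H81 H81.A7

variable {G : Type u} [Group G] [Finite G] {L E E' S : Subgroup G} {F : Fr E 4 15}

local notation "R" => RN (L ⊓ nor E) F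

/-- the subgroup generated by the elements of order 7 of `C_L(x)`. -/
def P7 (L : Subgroup G) (x : G) : Subgroup G := closure {d | d ∈ L ⊓ cen1 x ∧ orderOf d = 7}

theorem P7_le (L : Subgroup G) (x : G) : P7 L x ≤ L ⊓ cen1 x := (closure_le _).2 fun _ h => h.1

theorem nor_closure {C : Subgroup G} {s : Set G} (h : ∀ c ∈ C, ∀ d ∈ s, c * d * c⁻¹ ∈ s) :
    C ≤ nor (closure s) := fun c hc => mem_normalizer_of_cj_le (by
  rw [cj, MonoidHom.map_closure]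
  refine closure_mono ?_
  rintro _ ⟨d, hd, rfl⟩
  exact h c hc d hd)

theorem P7_nor (L : Subgroup G) (x : G) : L ⊓ cen1 x ≤ nor (P7 L x) :=
  nor_closure fun c hc d hd => ⟨mul_mem (mul_mem hc hd.1) (inv_mem hc),
    (MulEquiv.orderOf_eq (MulAut.conj c) d).trans hd.2⟩

theorem P7_le_of (o7 : ¬ 49 ∣ Nat.card L) {x d : G} {K : Subgroup G} (hK : K ≤ L ⊓ cen1 x)
    (hn : L ⊓ cen1 x ≤ nor K) (hd : d ∈ K) (h7 : orderOf d = 7) : P7 L x ≤ K := by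
  have : Fact (Nat.Prime 7) := ⟨by norm_num⟩
  have k : ∀ d : G, orderOf d = 7 → IsPGroup 7 (zpowers d) := fun d h =>
    IsPGroup.of_card (n := 1) (by rw [Nat.card_zpowers, h]; rfl)
  have hs : IsSyl 7 (zpowers d) (L ⊓ cen1 x) := syl_of_card (n := 1)
    (fun e => o7 (e.trans (card_dvd_of_le inf_le_left))) (k d h7) (zpowers_le.2 (hK hd))
    (by rw [Nat.card_zpowers, h7]; rfl)
  refine (closure_le _).2 fun e he => ?_
  obtain ⟨g, hg, h1⟩ := hs.exists_le_cj (k e he.2) (zpowers_le.2 he.1)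
  exact cj_le_of_le (zpowers_le.2 hd) (hn hg) (h1 (mem_zpowers e))

theorem exists_K {Y A : Subgroup G} (h : Y ≤ nor A) : ∃ K ≤ Y, Y ≤ nor K ∧
    (∀ r ∈ A, r ≠ 1 → Y ⊓ cen1 r ≤ K) ∧
      ∀ Γ : Subgroup G, (∀ r ∈ A, r ≠ 1 → Y ⊓ cen1 r ≤ Γ) → K ≤ Γ := by
  refine ⟨closure {y | ∃ r ∈ A, r ≠ 1 ∧ y ∈ Y ⊓ cen1 r}, (closure_le _).2 fun _ ⟨_, _, _, h⟩ => h.1,
    nor_closure fun c hc d ⟨r, h1, h2, h3⟩ => ⟨_, conj_mem_of_mem_normalizer (h hc) h1,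
      fun e => h2 (conj_eq_one_iff.1 e), Y.mul_mem (Y.mul_mem hc h3.1) (Y.inv_mem hc), ?_⟩,
    fun r h1 h2 y hy => subset_closure ⟨r, h1, h2, hy⟩,
    fun Γ hΓ => (closure_le _).2 fun _ ⟨r, h1, h2, h3⟩ => hΓ r h1 h2 h3⟩
  exact mem_cen1.2 (by rw [conj_mul, conj_mul, mem_cen1.1 h3.2])

theorem two_of_sq {a : G} (h : a * a = 1) (h1 : a ≠ 1) : orderOf a = 2 :=
  orderOf_eq_prime (by rwa [pow_two]) h1

theorem sq_of_two {a : G} (h : orderOf a = 2) : a * a = 1 := by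
  rw [← pow_two, ← h, pow_orderOf_eq_one]

namespace AF

variable (h : AF L E E' F)
include h

theorem seven {g : G} (hg : R g 4764) : ∃ p ∈ zpowers g, orderOf p = 7 ∧ R p 4764 := by
  have : Fact (Nat.Prime 7) := ⟨by norm_num⟩
  obtain ⟨b, n, hn, e⟩ := Nat.exists_eq_pow_mul_and_not_dvd (orderOf_pos g).ne' 7 (by norm_num)
  have hb : b ≤ 1 := by
    by_contra h1
    exact h.o7 (((pow_dvd_pow 7 (by omega : 2 ≤ b)).trans ⟨n, e⟩).trans (L.orderOf_dvd_natCard hg.1.1))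
  obtain ⟨m, hm⟩ := Nat.exists_mul_mod_eq_one_of_coprime
    ((Nat.Prime.coprime_iff_not_dvd (by norm_num)).2 hn).symm (by norm_num : 1 < 7)
  have h3 := hg.mul (hg.mul hg)
  have h7 := hg.mul (h3.mul h3)
  rw [show m4 4764 (m4 (m4 4764 (m4 4764 4764)) (m4 4764 (m4 4764 4764))) = 33825 by
    decide +kernel] at h7
  have h8 : g ^ 7 ∈ cen E := by
    simpa only [pow_succ, pow_zero, one_mul, mul_assoc] using rn_cen h7
  have h9 : R (g ^ (n * m)) 4764 := rn_of_cen hg (pow_mem hg.1 _) (by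
    rw [← Nat.mod_add_div (n * m) 7, hm.2, pow_add, pow_one, inv_mul_cancel_left, pow_mul]
    exact pow_mem h8 _)
  refine ⟨_, npow_mem_zpowers g _, orderOf_eq_prime ?_ fun e => ?_, h9⟩
  · rw [← pow_mul, ← orderOf_dvd_iff_pow_eq_one, e]
    exact (Nat.mul_dvd_mul_right (pow_dvd_pow 7 hb) n).trans ⟨m, by ring⟩
  · exact absurd (rn_uniq h9 (e ▸ rn_one) (by norm_num) (by norm_num)) (by norm_num)

theorem C7 {n : G} {c : ℕ} (hn : R n c) (hc : c ∈ 33825 :: LS) : n ∈ L ⊓ cen1 (F.v 7 : G) :=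
  ⟨hn.1.1, mem_cen1.2 ((rn_fix hn (by norm_num)).2 (fixS c hc))⟩

theorem exP : ∃ p, orderOf p = 7 ∧ R p 4764 := by
  obtain ⟨g, hg⟩ := h.std.rn (mem_LA (c := 4764) (by simp))
  obtain ⟨p, -, h1⟩ := h.seven hg
  exact ⟨p, h1⟩

theorem realP {c : ℕ} (hc : c ∈ 33825 :: LS) : ∃ p ∈ P7 L (F.v 7 : G), R p c := by
  let P : ℕ → Prop := fun c => ∃ p ∈ P7 L (F.v 7 : G), R p c
  have Pm : ∀ a b, P a → P b → P (m4 a b) := fun a b ⟨x, hx, h⟩ ⟨y, hy, h'⟩ =>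
    ⟨_, mul_mem hx hy, h.mul h'⟩
  obtain ⟨p, h1, h2⟩ := h.exP
  have hp : p ∈ P7 L (F.v 7 : G) := subset_closure ⟨h.C7 h2 (by decide +kernel), h1⟩
  obtain ⟨g, hg⟩ := h.std.rn (mem_LA' (c := 56196) (by simp))
  have Py : P 12262 := (by decide +kernel : m4 43848 (m4 (m4 56196 4764) 8667) = 12262) ▸
    ⟨_, mul_mem (inv_mem hp) (conj_mem_of_mem_normalizer (P7_nor _ _ (h.C7 hg (by decide +kernel))) hp),
      (rn_inv h2 (by decide +kernel)).mul ((hg.mul h2).mul (rn_inv hg (by decide +kernel)))⟩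
  have P1 : P 33825 := ⟨1, one_mem _, rn_one⟩
  rcases List.mem_cons.1 hc with rfl | hc
  · exact P1
  · exact ((bfs_sound (P := P) (fun c => Pm _ c ⟨p, hp, h2⟩) (fun c => Pm _ c Py) bfsS fun c hc =>
      bit_shift hc ▸ P1).1 c hc).1

theorem EP : E ≤ P7 L (F.v 7 : G) := by
  have k : ∀ c ∈ 33825 :: LS, ∀ i < 16, (F.v (i ^^^ ap 4 15 c i) : G) ∈ P7 L (F.v 7 : G) := by
    intro c hc i hi
    obtain ⟨p, hp, h1⟩ := h.realP hc
    have := mul_mem (conj_mem_of_mem_normalizer (P7_nor _ _ (show (F.v i : G) ∈ _ from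
      ⟨h.EL (F.v i).2, mem_cen1.2 (h.el.comm (F.v i).2 (F.v 7).2)⟩)) hp) (inv_mem hp)
    rw [inv_of_sq (h.el _ (F.v i).2)] at this
    rw [v_mul, ← h1.act hi]
    simpa only [mul_assoc] using this
  intro e he
  obtain ⟨j, hj, rfl⟩ := v_sur F he
  obtain ⟨a, ha, b, hb, rfl⟩ := spanE j hj
  rw [v_mul]
  exact mul_mem (k _ (by decide +kernel) a ha) (k _ (by decide +kernel) b hb)

theorem E'P : E' ≤ P7 L (F.v 7 : G) := fun f hf => by
  obtain ⟨c, hc, h1⟩ := h.codeE' hf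
  obtain ⟨p, hp, h2⟩ := h.realP (DS c (VD c hc))
  obtain ⟨e, he, h3⟩ := h.cenE _ (mul_mem (inv_mem h2.1.1) h1.1.1) (h1.cen h2)
  have h4 : p * e ∈ P7 L (F.v 7 : G) := mul_mem hp (h.EP he)
  have h5 := mem_cen.1 h3 _ (P7_le _ _ h4).1
  have e1 : f = p⁻¹ * f * e * (p * e) := by
    rw [← mul_assoc _ p e, ← mem_cen.1 h3 p h2.1.1, mul_assoc, mul_assoc, h.el e he]
    group
  rw [e1]
  exact zpowers_le.2 h4 (pow_mem_of_odd h.odd ⟨L.mul_mem (L.mul_mem (L.inv_mem h2.1.1) h1.1.1) (h.EL he), h3⟩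
    h5.symm (k := 1) (by rw [← e1, pow_one, pow_two, h.el' f hf]))

theorem perfP : ⁅P7 L (F.v 7 : G), P7 L (F.v 7 : G)⁆ = P7 L (F.v 7 : G) := by
  refine le_antisymm (commutator_le_of_le le_rfl le_rfl) ?_
  obtain ⟨a, ha, h1⟩ := h.realP (c := 12262) (by decide +kernel)
  obtain ⟨b, hb, h2⟩ := h.realP (c := 20437) (by decide +kernel)
  obtain ⟨p, h3, h4, -⟩ := h.seven (g := a * b * a⁻¹ * b⁻¹)
    ((by decide +kernel : m4 (m4 (m4 12262 20437) 14726) 14441 = 4764) ▸ ((h1.mul h2).mul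
      (rn_inv h1 (by decide +kernel))).mul (rn_inv h2 (by decide +kernel)))
  exact P7_le_of h.o7 (commutator_le_of_le (P7_le _ _) (P7_le _ _))
    (le_normalizer_commutator (P7_nor _ _) (P7_nor _ _))
    (zpowers_le.2 (commutator_mem_commutator ha hb) h3) h4

theorem cenP {c : G} (hc : c ∈ L) (h1 : c ∈ cen (P7 L (F.v 7 : G))) :
    c ∈ cen L ∨ c * F.v 7 ∈ cen L := by
  obtain ⟨e, he, h2⟩ := h.cenE c hc (centralizer_anti h.EP h1)
  obtain ⟨p, hp, h3⟩ := h.realP (c := 4764) (by decide +kernel)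
  have h4 := mul_mem (inv_mem h1) (centralizer_anti ((P7_le _ _).trans inf_le_left) h2)
  rw [inv_mul_cancel_left] at h4
  obtain ⟨i, hi, rfl⟩ := v_sur F he
  rcases fixX i hi ((rn_fix h3 hi).1 (mem_cen.1 h4 p hp)) with rfl | rfl
  · exact .inl (by simpa [v_zero] using h2)
  · exact .inr h2

theorem genP {Γ : Subgroup G} (hΓ : ∀ r ∈ P7 L (F.v 7 : G), orderOf r = 2 → L ⊓ cen1 r ≤ Γ) :
    L ≤ Γ := by
  obtain ⟨S, hS⟩ := h.exists_sy
  have z1 : (F.v 7 : G) ≠ 1 := v_ne (by norm_num) (by norm_num)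
  have hz := hΓ _ (h.EP (F.v 7).2) (two_of_sq (h.el _ (F.v 7).2) z1)
  have hS7 : S ≤ cen1 (F.v 7 : G) := fun s hs => mem_cen1.2 (h.S7 hS hs)
  have hN : L ⊓ nor E ≤ Γ := by
    obtain ⟨K, h1, h2, h3, h4⟩ := exists_K (inf_le_right : L ⊓ nor E ≤ nor E)
    refine ((h.simp h1 h2).resolve_left fun e => ?_).trans (sup_le (h4 Γ fun r hr r1 =>
      (inf_le_inf_right _ inf_le_left).trans (hΓ r (h.EP hr) (two_of_sq (h.el r hr) r1)))
      fun x hx => hz ⟨hx.1, mem_cen1.2 (mem_cen.1 hx.2 _ (F.v 7).2).symm⟩)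
    obtain ⟨f, hf, -, -, f1, -⟩ := h.exV
    exact f1 (h.sq_mem (h.E'L hf) (e (h3 _ (F.v 7).2 z1 ⟨h.E'N hf, hS7 (h.E'S hS hf)⟩)) (h.el' f hf))
  have hX : L ⊓ nor E' ≤ Γ := by
    obtain ⟨K, h1, h2, h3, h4⟩ := exists_K (inf_le_right : L ⊓ nor E' ≤ nor E')
    exact (h.gen hS h1 h2 ((le_inf (h.par hS).SX hS7).trans (h3 _ h.h7 z1))).trans (sup_le
      (h4 Γ fun r hr r1 => (inf_le_inf_right _ inf_le_left).trans
        (hΓ r (h.E'P hr) (two_of_sq (h.el' r hr) r1)))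
      fun x hx => hz ⟨hx.1, mem_cen1.2 (mem_cen.1 hx.2 _ (h.EL (F.v 7).2)).symm⟩)
  have hN' : L ⊓ nor E ≤ L ⊓ Γ := le_inf inf_le_left hN
  have hX' : L ⊓ nor E' ≤ L ⊓ Γ := le_inf inf_le_left hX
  have key : ∀ a ∈ L ⊓ Γ, orderOf a = 2 → ∃ p ∈ L ⊓ Γ, p * F.v 7 * p⁻¹ = a := fun a ha h2 => by
    have a1 : a ≠ 1 := by rintro rfl; simp at h2
    obtain ⟨g, hg, h1⟩ := ((h.syl hS).of_le ((h.SN hS).trans hN') inf_le_left).exists_cj_le
      (el_zpowers (sq_of_two h2)).two (zpowers_le.2 ha)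
    obtain ⟨q, hq, h3⟩ : ∃ q ∈ L ⊓ Γ, q * a * q⁻¹ ∈ E := by
      obtain ⟨c, hc, h3 | ⟨-, d, hd, h3⟩⟩ := h.chain (h.SN hS (h1 (conj_mem_cj (mem_zpowers a))))
        (by rw [conj_mul, sq_of_two h2, mul_one, mul_inv_cancel])
      · exact ⟨c * g, mul_mem (hN' hc) hg, by convert h3 using 1; group⟩
      · exact ⟨d * (c * g), mul_mem (hX' hd) (mul_mem (hN' hc) hg), by convert h3 using 1; group⟩
    obtain ⟨n, hn, h4⟩ := h.std.one h3 fun e => a1 (conj_eq_one_iff.1 e)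
    refine ⟨_, mul_mem (inv_mem hq) (hN' hn), ?_⟩
    calc _ = q⁻¹ * (n * F.v 7 * n⁻¹) * q := by group
      _ = _ := by rw [h4]; group
  by_contra hne
  have hs : IsStronglyEmbedded (Γ.subgroupOf L) := by
    refine ⟨fun e => hne (subgroupOf_eq_top.1 e), ?_, fun g hg => ?_⟩
    · exact even_iff_two_dvd.2 (two_of_sq (a := (⟨_, h.EL (F.v 7).2⟩ : L))
        (Subtype.ext (h.el _ (F.v 7).2)) (fun e => z1 (congrArg Subtype.val e)) ▸
          (Γ.subgroupOf L).orderOf_dvd_natCard (hN (h.EN (F.v 7).2)))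
    · refine H49.odd_card_of_no_involution fun a ha h2 => hg ?_
      obtain ⟨p, hp, h3⟩ := key a ⟨a.2, ha.1⟩ ((orderOf_coe a).trans h2)
      obtain ⟨q, hq, h4⟩ := key ((g : G)⁻¹ * a * g) ⟨(g⁻¹ * a * g).2, (mem_cj (G := L)).1 ha.2⟩ (by
        simpa using (MulEquiv.orderOf_eq (MulAut.conj (g : G)⁻¹) a).trans ((orderOf_coe a).trans h2))
      have := hz (x := p⁻¹ * g * q) ⟨L.mul_mem (L.mul_mem (L.inv_mem hp.1) g.2) hq.1, mem_cen1.2 (by
        calc _ = p⁻¹ * g * (q * F.v 7 * q⁻¹) * q := by group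
          _ = _ := by rw [h4, ← h3]; group)⟩
      simpa [mem_subgroupOf, mul_assoc] using Γ.mul_mem (Γ.mul_mem hp.2 this) (Γ.inv_mem hq.2)
  have hsol : Group.IsSolvable (Γ.subgroupOf L) := H99.se_isSolvable H82.hub hs
    ⟨⟨_, h.EL (F.v 7).2⟩, ⟨_, h.EL (F.v 1).2⟩, fun e => z1 (congrArg Subtype.val e),
      fun e => v_ne (F := F) (by norm_num : 1 < 16) (by norm_num) (congrArg Subtype.val e),
      fun e => absurd (v_eq (F := F) (by norm_num : 7 < 16) (by norm_num : 1 < 16)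
        (congrArg (Subtype.val : L → G) e)) (by norm_num),
      Subtype.ext (h.el _ (F.v 7).2), Subtype.ext (h.el _ (F.v 1).2),
      Subtype.ext (h.el.comm (F.v 7).2 (F.v 1).2)⟩
  have h2 := H14.eq_bot_of_perfect_of_le_solvable h.perfP (H := (Γ.subgroupOf L).map L.subtype)
    (fun x hx => ⟨⟨x, (P7_le _ _ hx).1⟩, hz (P7_le _ _ hx), rfl⟩)
    (Group.isSolvable_of_surjective (f := L.subtype.subgroupMap (Γ.subgroupOf L))
      (MonoidHom.subgroupMap_surjective _ _))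
  exact z1 (by simpa [h2] using h.EP (F.v 7).2)

end AF

theorem AT.frame0 (h : AT L E E') : ∃ F, AF L E E' F := by
  obtain ⟨a, ha, -, -, h1, -⟩ := h.exU
  exact (h.frame ha h1).imp fun _ h => h.1

theorem AT.frame' (h : AT L E E') {x : G} (hx : x ∈ L) (h2 : orderOf x = 2) :
    ∃ (A A' : Subgroup G) (F : Fr A 4 15), AF L A A' F ∧ (F.v 7 : G) = x := by
  obtain ⟨F, hF⟩ := h.frame0
  obtain ⟨S, hS⟩ := hF.exists_sy
  have x1 : x ≠ 1 := by rintro rfl; simp at h2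
  obtain ⟨l, hl, h3⟩ := hF.inv hS hx (sq_of_two h2)
  obtain ⟨n, hn, h4⟩ := hF.std.one h3 fun e => x1 (conj_eq_one_iff.1 e)
  obtain ⟨A, A', h5, h6⟩ := h.conj (mul_mem (inv_mem hn.1) hl) hx (by
    rw [show n⁻¹ * l * x * (n⁻¹ * l)⁻¹ = n⁻¹ * (l * x * l⁻¹) * n by group, ← h4,
      show n⁻¹ * (n * F.v 7 * n⁻¹) * n = F.v 7 by group]
    exact ⟨(F.v 7).2, hF.h7⟩)
  exact ⟨A, A', h5.frame h6 x1⟩

theorem AT.p0 (h : AT L E E') : P0 L (P7 L) where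
  le x _ _ := P7_le L x
  mem x hx h2 := by
    obtain ⟨A, A', F, h1, rfl⟩ := h.frame' hx h2
    exact h1.EP (F.v 7).2
  perf x hx h2 := by
    obtain ⟨A, A', F, h1, rfl⟩ := h.frame' hx h2
    exact h1.perfP
  cenP x hx h2 c := by
    obtain ⟨A, A', F, h1, rfl⟩ := h.frame' hx h2
    exact h1.cenP
  gen x hx h2 Γ := by
    obtain ⟨A, A', F, h1, rfl⟩ := h.frame' hx h2
    exact h1.genP
  prime y hy h2 := by
    have : Fact (Nat.Prime 7) := ⟨by norm_num⟩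
    obtain ⟨A, A', F, h1, rfl⟩ := h.frame' hy h2
    obtain ⟨p, h3, h4⟩ := h1.exP
    refine ⟨7, by norm_num, by norm_num, ⟨p, h1.C7 h4 (by decide +kernel), ⟨1, by
      rw [pow_one, ← h3, pow_orderOf_eq_one]⟩, fun e => absurd (rn_uniq h4 (rn_of_cen1 h4.1
        (centralizer_anti h1.EL e)) (by norm_num) (by norm_num)) (by norm_num)⟩,
      fun x _ _ K hK hn l hl ⟨k, hk⟩ l1 => P7_le_of h.o7 hK hn hl ?_⟩
    obtain ⟨j, -, hj⟩ := (Nat.dvd_prime_pow (by norm_num)).1 (orderOf_dvd_of_pow_eq_one hk)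
    have h5 := L.orderOf_dvd_natCard (hK hl).1
    rcases j with _ | _ | j
    · exact (l1 (orderOf_eq_one_iff.1 hj ▸ one_mem _)).elim
    · exact hj
    · exact (h.o7 (Dvd.dvd.trans ⟨7 ^ j, by rw [hj]; ring⟩ h5)).elim

theorem AT.facts (j : JobA7.{u}) (h : AT L E E') : Facts L := by
  obtain ⟨F, hF⟩ := h.frame0
  obtain ⟨S, hS⟩ := hF.exists_sy
  obtain ⟨f, hf⟩ := hF.dat hS j
  exact ⟨S, E, E', _, E', f, _, hf, h.p0, hF.par hS, .inl (hF.parAb hS)⟩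

end H77.Wr
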