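/- STD-H: the structure `AT` from explicit elements; passage to odd central extensions. -/
import Cfsg.Agent.H77.WrE
import Cfsg.Agent.H81.WrA7f
import Cfsg.Agent.H81.Pc
import Cfsg.Agent.H14.Quasi
import Cfsg.Agent.H2.PrimeCore

set_option autoImplicit false

universe u v

namespace H77.Wr

open Subgroup Cfsg H98 H1.Gold H99.Wr H81 H81.A7

variable {G : Type u} [Group G]

theorem el_closure {s : Set G} (h : ∀ x ∈ s, x * x = 1) (hc : ∀ x ∈ s, ∀ y ∈ s, x * y = y * x) :
    El (closure s) := by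
  have h1 : closure s ≤ cen (closure s) := by
    rw [closure_le]
    intro x hx
    exact mem_cen.2 fun y hy => mem_centralizer_singleton_iff.1
      ((closure_le (centralizer {x})).2 (fun z hz => mem_centralizer_singleton_iff.2 (hc z hz x hx)) hy)
  intro a ha
  induction ha using closure_induction with
  | mem x hx => exact h x hx
  | one => exact mul_one 1
  | mul x y hx hy h2 h3 => exact sq_mul h2 h3 (mem_cen.1 (h1 hy) x hx)
  | inv x _ h2 => rw [inv_of_sq h2, h2]

theorem cen_eq_one {L : Subgroup G} (hs : IsSimpleGroup L) (hn : ¬ L ≤ cen L) :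
    L ⊓ cen L = ⊥ := by
  rw [← H14.map_center_subtype]
  rcases (inferInstance : (center L).Normal).eq_bot_or_eq_top with h | h
  · rw [h, Subgroup.map_bot]
  · refine (hn fun x hx => mem_cen.2 fun y hy => ?_).elim
    exact congrArg Subtype.val (mem_center_iff.1 (h ▸ mem_top (⟨x, hx⟩ : L)) ⟨y, hy⟩)

theorem at_of {L E A : Subgroup G} [Finite L] (hs : IsSimpleGroup L) (o2 : ¬ 256 ∣ Nat.card L)
    (o7 : ¬ 49 ∣ Nat.card L) (EL : E ≤ L) (el : El E) (card : Nat.card E = 16) (AL : A ≤ L)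
    (AN : A ≤ nor E) (cA : Nat.card A = 2520) (AE : ∀ x ∈ A, x ∈ E → x = 1)
    (cenE : ∀ x ∈ L, x ∈ cen E → x ∈ E) {a b c d l : G} (ha : a ∈ E) (hb : b ∈ E) (hc : c ∈ A)
    (hd : d ∈ A) (hl : l ∈ L) (c1 : c ≠ 1) (d1 : d ≠ 1) (cd : c ≠ d) (cc : c * c = 1)
    (dd : d * d = 1) (ac : a * c = c * a) (ad : a * d = d * a) (bc : b * c = c * b)
    (bd : b * d = d * b) (cenU : ∀ x ∈ L, a * x = x * a → b * x = x * b → x ∈ nor E)
    (l1 : l * c = a * l) (l2 : l * d = b * l) (l3 : l * a = c * l ∨ l * a = d * l)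
    (l4 : l * b = c * l ∨ l * b = d * l) :
    L ⊓ cen L = ⊥ ∧ AT (⊤ : Subgroup L) (E.subgroupOf L) ((closure {a, b, c, d}).subgroupOf L) := by
  have k : ∀ {x y : G}, l * x = y * l → l * x * l⁻¹ = y := fun h => by rw [h, mul_inv_cancel_right]
  have cE : c ∉ E := fun h => c1 (AE c hc h)
  have z : L ⊓ cen L = ⊥ := cen_eq_one hs fun h =>
    cE (cenE c (AL hc) (centralizer_le EL (h (AL hc))))
  have hcd : c * d = d * c := by
    have := el.comm ha hb
    rw [← k l1, ← k l2, conj_mul, conj_mul, mul_left_inj, mul_right_inj] at this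
    exact this
  have m : ∀ x ∈ ({a, b, c, d} : Set G), x ∈ closure ({a, b, c, d} : Set G) :=
    fun x hx => subset_closure hx
  have ma := m a (by simp)
  have mb := m b (by simp)
  have mc := m c (by simp)
  have md := m d (by simp)
  have E'L : closure ({a, b, c, d} : Set G) ≤ L := (closure_le _).2 (by
    rintro x (rfl | rfl | rfl | rfl)
    exacts [EL ha, EL hb, AL hc, AL hd])
  have el' : El (closure ({a, b, c, d} : Set G)) := el_closure (by
    rintro x (rfl | rfl | rfl | rfl)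
    exacts [el _ ha, el _ hb, cc, dd]) (by
    have := el.comm ha hb
    rintro x (rfl | rfl | rfl | rfl) y (rfl | rfl | rfl | rfl) <;> first | rfl | assumption | (symm; assumption))
  have nE : ∀ x : L, (x : G) ∈ nor E → x ∈ nor (E.subgroupOf L) := fun x hx =>
    mem_normalizer_iff.2 fun y => mem_normalizer_iff.1 hx y
  have cE' : ∀ (B : Subgroup G), B ≤ L → ∀ x : L, x ∈ cen (B.subgroupOf L) → (x : G) ∈ cen B :=
    fun B hB x hx => mem_cen.2 fun y hy => congrArg Subtype.val (mem_cen.1 hx ⟨y, hB hy⟩ hy)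
  have cs : ∀ {B : Subgroup G}, B ≤ L → Nat.card (B.subgroupOf L) = Nat.card B := fun h =>
    Nat.card_congr (subgroupOfEquivOfLe h).toEquiv
  refine ⟨z, ?_, by rwa [card_top], by rwa [card_top], le_top, le_top,
    fun x hx => Subtype.ext (el _ hx), fun x hx => Subtype.ext (el' _ hx), (cs EL).trans card, ?_,
    fun x _ hx => ⟨x, cenE _ x.2 (cE' E EL x hx), ?_⟩, fun x _ hx => nE x (cenU x x.2 ?_ ?_),
    ⟨⟨a, EL ha⟩, ⟨ha, ma⟩, ⟨b, EL hb⟩, ⟨hb, mb⟩, fun e => c1 ?_, fun e => d1 ?_, fun e => cd ?_⟩,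
    ⟨⟨c, AL hc⟩, mc, ⟨d, AL hd⟩, md, cE, fun h => d1 (AE d hd h), fun h => cd ?_⟩,
    ⟨l, hl⟩, ⟨mem_top _, mem_normalizer_of_cj_le ?_⟩, ⟨c, AL hc⟩, mc, cE, ?_⟩
  · have : (⊤ ⊓ cen ⊤ : Subgroup L) = ⊥ := (eq_bot_iff_forall _).2 fun x hx => Subtype.ext
      (mem_bot.1 (z ▸ ⟨x.2, mem_cen.2 fun y hy =>
        congrArg Subtype.val (mem_cen.1 hx.2 ⟨y, hy⟩ (mem_top _))⟩ : (x : G) ∈ (⊥ : Subgroup G)))
    rw [this, card_bot]
    exact odd_one
  · have h1 : A.subgroupOf L ≤ nor (E.subgroupOf L) := fun x hx => nE x (AN hx)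
    have h2 : (cen (E.subgroupOf L)).relIndex (A.subgroupOf L) = 2520 := by
      rw [← inf_relIndex_right, (eq_bot_iff_forall (cen (E.subgroupOf L) ⊓ A.subgroupOf L)).2
        fun x hx => Subtype.ext (AE _ hx.2 (cenE _ x.2 (cE' E EL x hx.1))), relIndex_bot_left,
        cs AL, cA]
    rw [top_inf_eq, ← h2, ← relIndex_subgroupOf h1]
    have : ((cen (E.subgroupOf L)).subgroupOf (nor (E.subgroupOf L))).Normal :=
      normal_subgroupOf_centralizer_normalizer _
    exact relIndex_dvd_index_of_normal _ _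
  · rw [show x * x = 1 from Subtype.ext (el _ (cenE _ x.2 (cE' E EL x hx)))]
    exact one_mem _
  · exact congrArg Subtype.val (mem_cen.1 hx ⟨a, EL ha⟩ ⟨ha, ma⟩)
  · exact congrArg Subtype.val (mem_cen.1 hx ⟨b, EL hb⟩ ⟨hb, mb⟩)
  · exact conj_eq_one_iff.1 ((k l1).trans (congrArg Subtype.val e))
  · exact conj_eq_one_iff.1 ((k l2).trans (congrArg Subtype.val e))
  · have := (k l1).trans ((congrArg Subtype.val e).trans (k l2).symm)
    rwa [mul_left_inj, mul_right_inj] at this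
  · rw [← inv_of_sq dd]
    exact eq_inv_of_mul_eq_one_left (AE _ (A.mul_mem hc hd) h)
  · rintro _ ⟨x, hx, rfl⟩
    refine (closure_le (comap (MulAut.conj l).toMonoidHom _)).2 ?_ hx
    rintro x (rfl | rfl | rfl | rfl)
    · exact l3.elim (fun h => (k h).symm ▸ mc) fun h => (k h).symm ▸ md
    · exact l4.elim (fun h => (k h).symm ▸ mc) fun h => (k h).symm ▸ md
    · exact (k l1).symm ▸ ma
    · exact (k l2).symm ▸ mb
  · exact show l * c * l⁻¹ ∈ E from (k l1).symm ▸ ha

open scoped commutatorElement in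
theorem aut_eq {X : Type u} [Group X] (hp : commutator X = ⊤) (α : MulAut X) (l : X)
    (h : ∀ x, (l * x * l⁻¹)⁻¹ * α x ∈ center X) (x : X) : α x = l * x * l⁻¹ := by
  have : commutator X ≤ α.toMonoidHom.eqLocus (MulAut.conj l).toMonoidHom := by
    refine commutator_le.2 fun x _ y _ => ?_
    obtain ⟨z, hz, e⟩ : ∃ z ∈ center X, α x = MulAut.conj l x * z := ⟨_, h x, (mul_inv_cancel_left _ _).symm⟩
    obtain ⟨w, hw, f⟩ : ∃ z ∈ center X, α y = MulAut.conj l y * z := ⟨_, h y, (mul_inv_cancel_left _ _).symm⟩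
    change α ⁅x, y⁆ = MulAut.conj l ⁅x, y⁆
    rw [map_commutatorElement, map_commutatorElement, e, f]
    generalize MulAut.conj l x = u
    generalize MulAut.conj l y = v
    calc ⁅u * z, v * w⁆ = u * (z * (v * w)) * z⁻¹ * u⁻¹ * w⁻¹ * v⁻¹ := by
          rw [commutatorElement_def]; group
      _ = u * v * (w * u⁻¹) * w⁻¹ * v⁻¹ := by rw [← mem_center_iff.1 hz]; group
      _ = _ := by rw [← mem_center_iff.1 hw, commutatorElement_def]; group
  exact this (hp ▸ mem_top x)

theorem core_le {X : Type u} [Group X] [Finite X] (hX : IsQuasisimple X) {Y : Type v} [Group Y]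
    [Nontrivial Y] (e : X ⧸ oddCore X ≃* Y) : oddCore X ≤ center X :=
  (H14.quasi_normal hX _).resolve_left fun h => by
    have : Subsingleton (X ⧸ oddCore X) := h ▸ QuotientGroup.subsingleton_quotient_top
    exact not_subsingleton Y e.symm.injective.subsingleton

theorem facts_of [Finite G] {L : Subgroup G} (hL : IsQuasisimple L) {G' : Type v} [Group G']
    {L' : Subgroup G'} [Finite L'] (e : L ⧸ oddCore L ≃* L') {B B' : Subgroup L'}
    (H : L' ⊓ cen L' = ⊥ ∧ AT (⊤ : Subgroup L') B B') : Facts L := by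
  obtain ⟨z, H⟩ := H
  have : Nontrivial L' := by
    obtain ⟨a, -, -, -, h, -⟩ := H.exU
    exact ⟨a, 1, h⟩
  have hc := core_le hL e
  let π : L →* L' := e.toMonoidHom.comp (QuotientGroup.mk' _)
  have hk : ∀ x : L, π x ∈ cen (⊤ : Subgroup L') → x ∈ oddCore L := fun x hx => by
    have : ((π x : L') : G') ∈ L' ⊓ cen L' := ⟨(π x).2, mem_cen.2 fun y hy =>
      congrArg Subtype.val (mem_cen.1 hx ⟨y, hy⟩ (mem_top _))⟩
    rw [z, mem_bot, OneMemClass.coe_eq_one] at this
    exact (QuotientGroup.eq_one_iff x).1 (e.map_eq_one_iff.1 this)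
  have hs : Function.Surjective π := e.surjective.comp (QuotientGroup.mk'_surjective _)
  have ho := H2.odd_card_oddCore L
  have hn : Nat.card L = Nat.card (⊤ : Subgroup L') * Nat.card (oddCore L) := by
    rw [card_top, ← Nat.card_congr e.toEquiv, card_eq_card_quotient_mul_card_subgroup]
  obtain ⟨A, A', h, -⟩ := H.lift (π := π) (L := L) (by
      rw [← H14.map_center_subtype, card_map_of_injective L.subtype_injective]
      refine Odd.of_dvd_nat ho (card_dvd_of_le fun x hx => hk x (mem_cen.2 fun y _ => ?_))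
      obtain ⟨y, rfl⟩ := hs y
      rw [← map_mul, ← map_mul, mem_center_iff.1 hx y])
    (fun h => H.o2 (Nat.Coprime.dvd_of_dvd_mul_right (Nat.Coprime.pow_left 8
      (Nat.coprime_two_left.2 ho)) (hn ▸ h)))
    (fun h => H.o7 (Nat.Coprime.dvd_of_dvd_mul_right (Nat.Coprime.pow_left 2
      ((Nat.Prime.coprime_iff_not_dvd (by norm_num : Nat.Prime 7)).2 (by
        have := noStem_of_sq (G := L ⧸ oddCore L) (p := 7) (by norm_num) (by
          rw [Nat.card_congr e.toEquiv, ← card_top]; exact H.o7) L (QuotientGroup.mk' _)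
          ⟨QuotientGroup.mk'_surjective _, by rwa [QuotientGroup.ker_mk'], by
            rw [hL.1.commutator_eq_top]; exact le_top⟩
        rwa [QuotientGroup.ker_mk'] at this))) (hn ▸ h)))
    (MonoidHom.range_eq_top.2 hs) fun x hx => mem_cen.2 fun y hy =>
      congrArg Subtype.val (mem_center_iff.1 (hc (hk x hx)) ⟨y, hy⟩)
  exact h.facts jobA7

theorem inner_of [Finite G] {L : Subgroup G} (hL : IsQuasisimple L) {Y : Type v} [Group Y]
    [Nontrivial Y] (e : L ⧸ oddCore L ≃* Y) (hY : Nat.card (Out Y) = 1) :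
    ∀ g ∈ nor L, ∃ k ∈ cen L, ∃ l ∈ L, g = k * l := by
  intro g hg
  have hc := core_le hL e
  let α : MulAut L := normalizerMonoidHom L ⟨g, hg⟩
  have hα : (oddCore L).map α.toMonoidHom = oddCore L := characteristic_iff_map_eq.1 inferInstance α
  obtain ⟨b, hb⟩ : MulAut.congr e (QuotientGroup.congr _ _ α hα) ∈ Inn Y :=
    (index_eq_one.1 hY).symm ▸ mem_top _
  obtain ⟨l, hl⟩ := QuotientGroup.mk_surjective (e.symm b)
  have h1 : ∀ x : L, (l * x * l⁻¹)⁻¹ * α x ∈ center L := fun x => hc (QuotientGroup.eq.1 (by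
    have := DFunLike.congr_fun hb (e x)
    apply e.injective
    simp only [QuotientGroup.mk_mul, QuotientGroup.mk_inv, hl, map_mul, map_inv,
      MulEquiv.apply_symm_apply]
    exact this.trans (by simp; rfl)))
  refine ⟨g * (l : G)⁻¹, mem_cen.2 fun a ha => ?_, l, l.2, by group⟩
  have := congrArg Subtype.val (aut_eq hL.1.commutator_eq_top α l h1 (l⁻¹ * ⟨a, ha⟩ * l))
  change g * ((l : G)⁻¹ * a * l) * g⁻¹ = (l : G) * ((l : G)⁻¹ * a * l) * (l : G)⁻¹ at this
  calc a * (g * (l : G)⁻¹) = (l : G) * ((l : G)⁻¹ * a * l) * (l : G)⁻¹ * (g * (l : G)⁻¹) := by group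
    _ = _ := by rw [← this]; group

end H77.Wr
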