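/- STD-H: the facts for `McL`. -/
import Cfsg.Agent.H77.WrM23
import Cfsg.Agent.H77.Simple
import Cfsg.Agent.H79.Stab
import Cfsg.Agent.H79.Charac

set_option autoImplicit false

universe u

namespace H77.Wr

open Subgroup Cfsg H98 H1.Gold H99.Wr H72
open H79 (sgnC permC permHom monoC NN GC p4 oddSet)
open scoped Pointwise

/-- code of a lattice vector. -/
def cA : ℕ := nat_lit 0xc000800080008000800080008000800080008000800080008000800080008000800080008000c0008000800080008
/-- code of a lattice vector. -/
def cO : ℕ := nat_lit 0x600080008000800080008000600080008000600080008000800080008000800080008000600080006000600060006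

/-- a packed matrix. -/
noncomputable def lM : PM := ⟨nat_lit 0x200020002000000060000000000000000000000000000000000000000000000000000000000000000000000000002000000000006000000020000000000000000000000000000000000020000000000020000000000000000000000020000000000000000000000000002000000020000000000020002000200000002000200000000000000000000000200000000000000000000000000000002000000000000000000020002000000000000000000000002000200020002000200000000000000000000000000000002000200000000000200000002000200000002000000000000000000020002000000000000000000000000000000000000000200000000000000000000000200000002000200000002000200000002000200000000000000000000000200000002000000000000000000000000000000000002000000000002000000000000000000000000000600000000000000020000000000000000000000000000000000020000000000020000000000000000000000020000000000000000000000000002000200020002000000020000000200000000000000000002000000000002000000000000000000000000000200000002000200020002000000000002000200000002000000000002000200020000000200000000000000060000000000020000000000000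000000000000000000000020000000000020000000000000000000000020000000000000000000000000000000000020002000000000002000000000002000200000002000000020002000000000000000000000000000000000000000000020000000200020000000200000002000000000002000200020000000000000000000000000000000000000002000200020000000200000002000000000000000200000002000200000000000000000000000000000000000000000002000000000002000200000000000200000000000200000002000000020000000200000000000000000000000000000000000200000002000200020002000000000002000000000002000000000000000200000000000000000000000000000002000000020002000200000000000000000002000000000000000200000002000200000000000000000000000000000002000200000002000000020000000000000002000200000000000200020000000000000000000000000000000200000002000200020000000200020000000000000002000200000002000000020002000200000000000000000000000000020000000000000000000000000000000000020000000000020000000000000000000000020006000000000000000200000002000000000002000200020002000200000002000200000002000200000002000000000000000200020002000000000000000000000000000000000000000000000000000000060000000000000000000000000002000200020002000000000000000000000000000000000000000000060000000000000000000000000000000000000002000200020002000000000000000000000000000000000000000000000000000000000000000000000000000000060002,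
  nat_lit 0x20000000000020000000000000000000000020000000200020000000000000000000000000000000000000000000000000000000000000000000000000000000000000002000000000000000200000000000200000002000200000000000000000000000000000002000200020002000000000000000000000000000200000000000200020002000200000000000200000002000200000000000000000000000000000000000000000000000200000000000000020002000000020000000000000000000200000002000200000000000200000000000000000000000200000002000000020002000200020002000000000000000000000000000000020000000000000000000000000000000000000000000200020002000200020002000200000000000200000000000200020002000200000000000000020002000000000000000000000000000000000000000000000000000000000000000000000000000000000002000000000000000200000000000000000000000200000002000000000002000200000000000200020000000200000000000000000000000000000000000000000000000200020000000000000000000200000000000000000002000000000000000200000002000000000000000000000000000000000000000000000000000000000000000000000000000000000002000000000000000200000002000200000000000200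020000000200000000000000000000000200000000000200000000000000000000000200000002000200000002000000000002000000000000000200000000000000000002000200000000000000000000000200000000000000000002000000020000000200000002000000000000000000020002000200000000000000000000000200000000000200020000000000020002000000000002000000000000000200000002000000000000000000000000000200000002000000020000000000000000000200000000000200000000000200020002000000000000000000000000000200000000000200000000000000020002000200000000000200000002000000020000000000000000000000000000000200000000000000020000000200000002000200000000000000000002000000000002000200000000000000000000000000000000000000000002000000000002000200000000000000000000000200000000000000000000000200020002000000000000000000000000000000000000000000000000000000000000000000000000000000000000000000000000000000000000000200020000000000000000000000000000000000000000000000020000000200000000000000000000000000020000000000000000000000000000000000020000000000000000000000000000000000020000000000000000000000020000000000000000000000000000000000000000000000020000000000000000000000020000000000000000000000020000000000000000000000000000000000020000000000020000000000000000000000000000,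
  nat_lit 0xa000a00100010001000100010000a00100010000a00100010001000100010001000100010000a0010000a000a000a0⟩

theorem lM_ok : lM.ok = true := by decide +kernel

theorem coe_A : (vecOf cA : GolayPt → ℤ) = Pi.single (pt 23) 4 + Pi.single (pt 4) 4 := by
  rw [coe_vecOf (by decide +kernel)]
  decide +kernel

theorem coe_A' (p : GolayPt) :
    (vecOf cA : GolayPt → ℤ) p = if p = pt 23 ∨ p = pt 4 then 4 else 0 := by
  rw [coe_vecOf (by decide +kernel)]
  revert p
  decide +kernel

theorem coe_O (p : GolayPt) : (vecOf cO : GolayPt → ℤ) p = if p ∈ ofMask oct0 then -2 else 0 := by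
  rw [coe_vecOf (by decide +kernel)]
  revert p
  decide +kernel

/-- a model of `McL`. -/
abbrev LM : Subgroup Co0 := St2 (vecOf cA) (vecOf cO)

theorem equiv_LM : Nonempty (Spor.McL ≃* LM) := by
  obtain ⟨g, h1, h2⟩ := exists_UW (v := vecOf cA) (w := vecOf cO) (nm_vecOf (by decide +kernel))
    (nm_vecOf (by decide +kernel)) (dt_vecOf (by decide +kernel))
  exact ⟨mclEquiv.symm.trans ((MulEquiv.subgroupCongr St2_UW.symm).trans
    (H77.conjEquiv g fun k => by rw [LM, ← h1, ← h2]; exact conj_mem_St2 g vU vW k))⟩

theorem sgn_mem {c : Finset GolayPt} (hc : c ∈ GC) :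
    sgnC c hc ∈ LM ↔ Disjoint c (ofMask 8536127) := by
  have k : ∀ p, p ∈ ofMask 8536127 ↔ (p = pt 23 ∨ p = pt 4) ∨ p ∈ ofMask oct0 := by decide +kernel
  rw [mem_St2, Finset.disjoint_left]
  constructor
  · rintro ⟨h1, h2⟩ p hp h
    have a := H79.sgnC_apply c hc (vecOf cA) p
    have b := H79.sgnC_apply c hc (vecOf cO) p
    rw [h1, if_pos hp, coe_A'] at a
    rw [h2, if_pos hp, coe_O] at b
    rcases (k p).1 h with h | h
    · rw [if_pos h] at a; omega
    · rw [if_pos h] at b; omega
  · intro h
    constructor <;> refine Subtype.ext (funext fun p => ?_) <;> rw [H79.sgnC_apply] <;> split_ifs with hp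
    · rw [coe_A', if_neg fun e => h hp ((k p).2 (.inl e)), neg_zero]
    · rfl
    · rw [coe_O, if_neg fun e => h hp ((k p).2 (.inr e)), neg_zero]
    · rfl

/-- the sign changes in `LM`. -/
def EM : Subgroup Co0 where
  carrier := {g | g ∈ LM ∧ ∃ c hc, g = sgnC c hc}
  one_mem' := ⟨one_mem _, ∅, H79.empty_mem_GC, H79.sgnC_empty.symm⟩
  mul_mem' := by
    rintro _ _ ⟨h, c, hc, rfl⟩ ⟨k, d, hd, rfl⟩
    exact ⟨mul_mem h k, _, _, H79.sgnC_mul c d hc hd⟩
  inv_mem' := by
    rintro _ ⟨h, c, hc, rfl⟩
    exact ⟨inv_mem h, c, hc, inv_eq_of_mul_eq_one_right (H79.sgnC_mul_self c hc)⟩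

theorem sgnC_inj {c d : Finset GolayPt} {hc : c ∈ GC} {hd : d ∈ GC} (h : sgnC c hc = sgnC d hd) :
    c = d := by
  rw [← H79.monoC_one, ← H79.monoC_one] at h
  exact (H79.monoC_inj h).2

theorem card_EM : Nat.card EM = 16 := by
  have : Nat.card {c | c ∈ GC ∧ Disjoint c (ofMask 8536127)} = Nat.card EM := by
    refine Nat.card_eq_of_bijective (fun c => ⟨sgnC c c.2.1, (sgn_mem _).2 c.2.2, _, _, rfl⟩)
      ⟨fun c d e => Subtype.ext (sgnC_inj (Subtype.mk.inj e)), ?_⟩
    rintro ⟨_, h, c, hc, rfl⟩
    exact ⟨⟨c, hc, (sgn_mem _).1 h⟩, rfl⟩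
  rw [← this]
  refine (ncard_of_list (((List.range 4096).map H72.enc).filter fun m => Nat.beq (Nat.land m 8536127) 0)
    (codeL_nodup.filter _) (fun m hm => lt_of_isG (mem_codeL.1 (List.mem_filter.1 hm).1)) _
    fun s => ?_).trans (by decide +kernel)
  simp only [List.mem_filter, mem_codeL, Nat.beq_eq]
  constructor
  · rintro ⟨h1, h2⟩
    obtain ⟨m, hm, rfl⟩ := mem_cSets_iff.1 h1
    exact ⟨m, ⟨hm, (ofMask_disjoint_iff (lt_of_isG hm)).1 h2⟩, rfl⟩
  · rintro ⟨m, ⟨hm, h⟩, rfl⟩
    exact ⟨ofMask_mem_cSets hm, (ofMask_disjoint_iff (lt_of_isG hm)).2 h⟩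

theorem mono_conj (σ : M24) {c d : Finset GolayPt} (hc : c ∈ GC) (hd : d ∈ GC) :
    monoC σ c hc * sgnC d hd * (monoC σ c hc)⁻¹ = sgnC (σ • d) (H79.smul_mem_GC σ hd) := by
  have : sgnC c hc * sgnC (σ • d) (H79.smul_mem_GC σ hd) =
      sgnC (σ • d) (H79.smul_mem_GC σ hd) * sgnC c hc := by
    rw [H79.sgnC_mul, H79.sgnC_mul]
    exact H79.sgnC_congr _ (symmDiff_comm _ _)
  calc _ = sgnC c hc * (permC σ * sgnC d hd * (permC σ)⁻¹) * (sgnC c hc)⁻¹ := by
        rw [monoC]; group
    _ = _ := by rw [H79.permC_conj_sgnC σ d hd (H79.smul_mem_GC σ hd), this, mul_inv_cancel_right]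

theorem nor_EM {x : Co0} (hx : x ∈ LM) (h : x ∈ NN) : x ∈ nor EM := by
  refine mem_normalizer_of_cj_le ?_
  rintro _ ⟨_, ⟨he, d, hd, rfl⟩, rfl⟩
  refine ⟨LM.mul_mem (LM.mul_mem hx he) (LM.inv_mem hx), ?_⟩
  obtain ⟨σ, c, hc, rfl⟩ := (H79.mem_NN_iff_mono x).1 h
  exact ⟨_, _, mono_conj σ hc hd⟩

theorem eig {C : Finset GolayPt} {hC : C ∈ GC} {x : Co0} (h : sgnC C hC * x = x * sgnC C hC)
    {p i : GolayPt} (hi : ¬ (i ∈ C ↔ p ∈ C)) :
    ((x • H79.e8 p : leechLattice) : GolayPt → ℤ) i = 0 := by
  have := congrArg (fun g : Co0 => ((g • H79.e8 p : leechLattice) : GolayPt → ℤ) i) h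
  simp only [mul_smul, H79.sgnC_apply, H79.sgnC_e8] at this
  split_ifs at this with h1 h2 h2
  · exact (hi (iff_of_true h1 h2)).elim
  · omega
  · rw [H79.co0_neg, AddSubgroup.coe_neg, Pi.neg_apply] at this; omega
  · exact (hi (iff_of_false h1 h2)).elim

theorem g1 : ofMask 3704512 ∈ GC := ofMask_mem_cSets (by decide +kernel)
theorem g2 : ofMask 2890176 ∈ GC := ofMask_mem_cSets (by decide +kernel)

theorem mem_NN_of_comm {x : Co0} (hx : x ∈ LM) (h1 : sgnC _ g1 * x = x * sgnC _ g1)
    (h2 : sgnC _ g2 * x = x * sgnC _ g2) : x ∈ NN := by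
  have e0 : p4 (pt 6) (pt 23) 4 4 (.inl rfl) (.inl rfl) + p4 (pt 6) (pt 23) 4 4 (.inl rfl) (.inl rfl) =
      H79.e8 (pt 6) + H79.e8 (pt 23) := Subtype.ext (by
    simp only [AddSubgroup.coe_add, H79.p4_coe, H79.e8_coe]
    decide +kernel)
  have e1 := congrArg (x • ·) e0
  simp only [H79.co0_add] at e1
  have n1 := (H79.co0_sqNorm x _).trans
    (H79.sqNorm_p4 (i := pt 6) (j := pt 23) (by decide +kernel) 4 4 (.inl rfl) (.inl rfl))
  have n2 := (H79.co0_sqNorm x _).trans (H79.sqNorm_e8 (pt 6))
  have n3 := H79.co0_dot x (p4 (pt 6) (pt 23) 4 4 (.inl rfl) (.inl rfl)) (vecOf cA)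
  rw [(mem_St2.1 hx).1, coe_A, H79.dot_pair, H79.dot_pair, H79.p4_coe,
    show 4 * (Pi.single (pt 6) 4 + Pi.single (pt 23) 4 : GolayPt → ℤ) (pt 23) +
      4 * (Pi.single (pt 6) 4 + Pi.single (pt 23) 4 : GolayPt → ℤ) (pt 4) = 16 by
        decide +kernel] at n3
  have hy : ∀ i, i ∉ ofMask 2621632 → ((x • H79.e8 (pt 6) : leechLattice) : GolayPt → ℤ) i = 0 :=
    fun i hi => (show ¬ (i ∈ ofMask 3704512 ↔ pt 6 ∈ ofMask 3704512) ∨
      ¬ (i ∈ ofMask 2890176 ↔ pt 6 ∈ ofMask 2890176) by revert i; decide +kernel).elim (eig h1) (eig h2)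
  have hz : ∀ i, i ∈ ofMask 2621632 ∨ i = pt 9 →
      ((x • H79.e8 (pt 23) : leechLattice) : GolayPt → ℤ) i = 0 :=
    fun i hi => eig h1 (by revert i; decide +kernel)
  suffices ∃ q, x • H79.e8 (pt 6) = H79.e8 q ∨ x • H79.e8 (pt 6) = -H79.e8 q from
    this.elim fun _ => H79.mem_NN_of_one
  generalize x • p4 (pt 6) (pt 23) 4 4 (.inl rfl) (.inl rfl) = m at e1 n1 n3
  generalize x • H79.e8 (pt 6) = y at e1 n2 hy
  generalize x • H79.e8 (pt 23) = z at e1 hz
  have e2 : ∀ i, (m : GolayPt → ℤ) i + (m : GolayPt → ℤ) i =
      (y : GolayPt → ℤ) i + (z : GolayPt → ℤ) i := fun i => congrFun (congrArg Subtype.val e1) i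
  obtain ⟨w, hw⟩ : ∃ w : GolayPt → ℤ, ∀ j, (m : GolayPt → ℤ) j = 2 * w j :=
    ⟨fun j => (m : GolayPt → ℤ) j / 2, fun j => by
      have := H79.leech_parity m.2 j (pt 9)
      have := e2 (pt 9)
      rw [hy _ (by decide +kernel), hz _ (.inr rfl)] at this
      beta_reduce
      omega⟩
  have h3 := (H79.oddSet_mem_GC_iff _).2 (H79.red2_mem_of_two m.2 hw).1
  have h4 := H79.card_oddSet_le w
  have h5 := H79.sqNorm_eq_of m w 0 fun j => by rw [zero_add, hw]
  have e3 : ∀ i ∈ ofMask 2621632, (y : GolayPt → ℤ) i = 4 * w i := fun i hi => by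
    have := e2 i
    rw [hz i (.inl hi), hw] at this
    omega
  rw [n1] at h5
  rw [hw, hw] at n3
  by_cases h0 : (oddSet w).card = 0
  · obtain ⟨q, hq⟩ : ∃ q, (y : GolayPt → ℤ) q ≠ 0 := by
      by_contra! h
      simp [sqNorm, h] at n2
    have a1 := e3 q (by_contra fun h => hq (hy q h))
    have a2 : q ∉ oddSet w := by rw [Finset.card_eq_zero.1 h0]; simp
    rw [H79.mem_oddSet, not_not] at a2
    obtain ⟨k, a2⟩ := a2
    have a3 := H79.sq_le_sqNorm y q
    have a4 : (y : GolayPt → ℤ) q = 8 ∨ (y : GolayPt → ℤ) q = -8 := by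
      rw [n2, a1, a2] at a3
      have : k ≤ 1 := by nlinarith
      have : -1 ≤ k := by nlinarith
      omega
    have a5 : dt y (H79.e8 q) = 8 * (y : GolayPt → ℤ) q := H79.dot_e8 _ q
    have a6 : nm (H79.e8 q) = 64 := H79.sqNorm_e8 q
    have a7 : nm y = 64 := n2
    refine ⟨q, a4.imp (fun h => eq_of_nm_sub ?_) fun h => eq_of_nm_sub ?_⟩
    · rw [nm_sub]; omega
    · rw [nm_sub, nm_neg, dt_neg_right]; omega
  exfalso
  have h8 : (oddSet w).card = 8 := by have := H79.GC_card h3; omega
  have b1 : ∀ i, (if i ∈ oddSet w then 1 else 0 : ℤ) = w i ^ 2 := fun i =>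
    (Finset.sum_eq_sum_iff_of_le (s := Finset.univ)
      (f := fun i => (if i ∈ oddSet w then 1 else 0 : ℤ)) (g := fun i => w i ^ 2) fun i _ => by
      split_ifs with h
      · rw [H79.mem_oddSet] at h
        exact (one_le_sq_iff_one_le_abs _).2 (Int.one_le_abs fun e => h (e ▸ dvd_zero _))
      · exact sq_nonneg _).1 (by
        rw [Finset.sum_ite_mem, Finset.univ_inter, Finset.sum_const, h8]
        simp only [nsmul_eq_mul]
        omega) i (Finset.mem_univ i)
  have b2 : ∀ i, w i ^ 2 ≤ 1 := fun i => by rw [← b1]; split_ifs <;> norm_num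
  have b3 : ∀ i, w i ^ 2 = 1 → i ∈ oddSet w := fun i h => by
    by_contra hn
    have := b1 i
    rw [if_neg hn] at this
    omega
  have b4 : w (pt 23) = 1 ∧ w (pt 4) = 1 := by
    have : w (pt 23) ≤ 1 := by nlinarith [b2 (pt 23)]
    have : w (pt 4) ≤ 1 := by nlinarith [b2 (pt 4)]
    omega
  have b5 : ∑ i ∈ ofMask 2621632, w i ^ 2 = ∑ _i ∈ ofMask 2621632, (1 : ℤ) := by
    rw [sqNorm, ← Finset.sum_subset (Finset.subset_univ (ofMask 2621632))
      (fun i _ hi => by rw [hy i hi]; norm_num),
      Finset.sum_congr rfl (g := fun i => 16 * w i ^ 2) (fun i hi => by rw [e3 i hi]; ring),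
      ← Finset.mul_sum] at n2
    rw [Finset.sum_const, card_ofMask, show pop 2621632 = 4 by decide +kernel]
    simp only [nsmul_eq_mul]
    omega
  have b6 := octad_unique (s := insert (pt 4) (ofMask 2621632)) (mem_octads.2 ⟨h3, h8⟩)
    (ofMask_mem_octads (m := 6889680) (by decide +kernel)) (by decide +kernel)
    (Finset.insert_subset (b3 _ (by rw [b4.2]; norm_num)) fun i hi =>
      b3 i ((Finset.sum_eq_sum_iff_of_le fun i _ => b2 i).1 b5 i hi)) (by decide +kernel)
  exact absurd (b6 ▸ b3 (pt 23) (by rw [b4.1]; norm_num)) (by decide +kernel)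

theorem sgn_mem_EM {m : ℕ} (h : isG m = true) (h' : Nat.land m 8536127 = 0) :
    sgnC (ofMask m) (ofMask_mem_cSets h) ∈ EM :=
  ⟨(sgn_mem _).2 ((ofMask_disjoint_iff (lt_of_isG h)).2 h'), _, _, rfl⟩

theorem cen_EM {x : Co0} (hx : x ∈ LM) (hc : x ∈ cen EM) : x ∈ EM := by
  obtain ⟨σ, c, hc', rfl⟩ := (H79.mem_NN_iff_mono x).1 (mem_NN_of_comm hx
    (mem_cen.1 hc _ (sgn_mem_EM (by decide +kernel) (by decide +kernel)))
    (mem_cen.1 hc _ (sgn_mem_EM (by decide +kernel) (by decide +kernel))))
  have k : ∀ m, isG m = true → Nat.land m 8536127 = 0 → ∀ p, (σ : P24) p ∈ ofMask m ↔ p ∈ ofMask m :=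
    fun m h h' => apply_mem_iff (sgnC_inj ((mono_conj σ hc' (ofMask_mem_cSets h)).symm.trans (by
      rw [← mem_cen.1 hc _ (sgn_mem_EM h h'), mul_inv_cancel_right])))
  obtain rfl : σ = 1 := Subtype.ext (eq_one_of_sepAll σ.2 (F := 8241088)
    [10170384, 6053905, 4845570, 13938692, 7221256] (by decide +kernel) fun p hp =>
      (show ∀ p ∈ ofMask 8241088, ∀ q, (∀ m ∈ [337856, 1161408, 2702848, 4819776],
        q ∈ ofMask m ↔ p ∈ ofMask m) → q = p by decide +kernel) p hp _ fun m hm =>
        k m (by revert m; decide +kernel) (by revert m; decide +kernel) p)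
  exact ⟨hx, c, hc', H79.monoC_one c hc'⟩

theorem pm_e8 {l : PM} (hl : l.ok = true) (q p : GolayPt) :
    ((l.el • H79.e8 q : leechLattice) : GolayPt → ℤ) p = ent l.P l.M p q := by
  have := gM_spec (P := l.P) (M := l.M) (K := l.K) hl (H79.e8 q) p
  simp only [H79.e8_coe, Pi.single_apply, mul_ite, mul_zero, Finset.sum_ite_eq', Finset.mem_univ,
    if_true] at this
  change ((gM l.P l.M l.K • H79.e8 q : leechLattice) : GolayPt → ℤ) p = _
  omega

theorem rel1 {l : PM} (hl : l.ok = true) {g m : ℕ} (hg : inM24 g = true) (hm : isG m = true)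
    (h : ∀ q p, ent l.P l.M p (fnP g q) =
      if p ∈ ofMask m then -ent l.P l.M p q else ent l.P l.M p q) :
    l.el * permHom ⟨_, (inM24_spec hg).2⟩ = sgnC _ (ofMask_mem_cSets hm) * l.el :=
  H79.co0_ext_e8 fun q => Subtype.ext (funext fun p => by
    rw [mul_smul, mul_smul, H79.permHom_apply, H79.permC_e8, H79.sgnC_apply, pm_e8 hl, pm_e8 hl, ← h]
    exact congrArg _ (toPerm_apply (inM24_spec hg).1 q))

theorem rel2 {l : PM} (hl : l.ok = true) {g m : ℕ} (hg : inM24 g = true) (hm : isG m = true)
    (h : ∀ q p, ent l.P l.M p q =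
      if q ∈ ofMask m then -ent l.P l.M (fnP g p) q else ent l.P l.M (fnP g p) q) :
    l.el * sgnC _ (ofMask_mem_cSets hm) = permHom ⟨_, (inM24_spec hg).2⟩ * l.el :=
  H79.co0_ext_e8 fun q => Subtype.ext (funext fun p => by
    obtain ⟨p, rfl⟩ := (toPerm g).surjective p
    rw [mul_smul, mul_smul, H79.permHom_apply, H79.permC_apply' ⟨_, (inM24_spec hg).2⟩,
      H79.sgnC_e8, pm_e8 hl, h, toPerm_apply (inM24_spec hg).1]
    split_ifs
    · rw [H79.co0_neg, AddSubgroup.coe_neg, Pi.neg_apply, pm_e8 hl]; rfl
    · exact pm_e8 hl _ _)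

theorem rel3 {g m : ℕ} (hg : inM24 g = true) (hm : isG m = true) (h : actM g m = m) :
    sgnC _ (ofMask_mem_cSets hm) * permHom ⟨_, (inM24_spec hg).2⟩ =
      permHom ⟨_, (inM24_spec hg).2⟩ * sgnC _ (ofMask_mem_cSets hm) := by
  have e : (⟨_, (inM24_spec hg).2⟩ : M24) • ofMask m = ofMask m := smul_ofMask_eq (inM24_spec hg).1 h
  have := H79.permC_conj_sgnC ⟨_, (inM24_spec hg).2⟩ _ (ofMask_mem_cSets hm)
    (e.symm ▸ ofMask_mem_cSets hm)
  rw [H79.sgnC_congr _ e, mul_inv_eq_iff_eq_mul] at this
  exact this.symm

theorem at_McL : ∃ B B', LM ⊓ cen LM = ⊥ ∧ AT (⊤ : Subgroup LM) B B' := by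
  obtain ⟨e⟩ := equiv_LM
  have hn : Nat.card LM = 898128000 := (Nat.card_congr e.toEquiv).symm.trans card_McL
  have := simple_McL
  have hc : inM24 cP = true := by decide +kernel
  have hd : inM24 dP = true := by decide +kernel
  have AL : (A7.subgroupOf M24).map permHom ≤ LM := by
    rintro _ ⟨σ, h, rfl⟩
    obtain ⟨⟨-, h1⟩, h2, h3⟩ := mem_A7.1 h
    refine ⟨perm_smul_eq fun i => ?_, perm_smul_eq fun i => ?_⟩
    · have k : ∀ p, (σ : P24) p = p → ((σ : P24) i = p ↔ i = p) := fun p hp => by
        conv_lhs => rw [← hp]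
        exact (σ : P24).injective.eq_iff
      simp only [coe_A', k _ h2, k _ h3]
    · simp only [coe_O, apply_mem_iff (g := σ) h1]
  have ne : ∀ {σ τ : M24}, (σ : P24) ≠ τ → permHom σ ≠ permHom τ := fun h e =>
    h (congrArg _ (permHom_injective e))
  refine ⟨_, _, at_of (E := EM) (A := (A7.subgroupOf M24).map permHom) (a := sgnC _ g1)
    (b := sgnC _ g2) (c := permHom ⟨_, (inM24_spec hc).2⟩) (d := permHom ⟨_, (inM24_spec hd).2⟩)
    (l := lM.el) e.symm.isSimpleGroup (by rw [hn]; norm_num) (by rw [hn]; norm_num)
    (fun _ h => h.1) ?_ card_EM AL (fun x hx => nor_EM (AL hx) ?_) ?_ ?_ (fun _ => cen_EM)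
    (sgn_mem_EM (by decide +kernel) (by decide +kernel))
    (sgn_mem_EM (by decide +kernel) (by decide +kernel)) ⟨_, c_mem, rfl⟩ ⟨_, d_mem, rfl⟩
    ⟨PM.mem_stab lM_ok (by decide +kernel) (by decide +kernel),
      PM.mem_stab lM_ok (by decide +kernel) (by decide +kernel)⟩
    (map_one permHom ▸ ne c_ne) (map_one permHom ▸ ne d_ne) (ne cd_ne)
    (by rw [← map_mul, ← map_one permHom]; exact congrArg _ (Subtype.ext c_sq))
    (by rw [← map_mul, ← map_one permHom]; exact congrArg _ (Subtype.ext d_sq))
    (rel3 hc (by decide +kernel) (by decide +kernel)) (rel3 hd (by decide +kernel) (by decide +kernel))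
    (rel3 hc (by decide +kernel) (by decide +kernel)) (rel3 hd (by decide +kernel) (by decide +kernel))
    (fun x hx h1 h2 => nor_EM hx (mem_NN_of_comm hx h1 h2))
    (rel1 lM_ok hc (by decide +kernel) (by decide +kernel))
    (rel1 lM_ok hd (by decide +kernel) (by decide +kernel))
    (.inr (rel2 lM_ok hd (by decide +kernel) (by decide +kernel)))
    (.inl (rel2 lM_ok hc (by decide +kernel) (by decide +kernel)))⟩
  · rintro _ ⟨-, c, hc, rfl⟩
    exact H79.sgnC_mul_self c hc
  · obtain ⟨σ, -, rfl⟩ := hx
    exact H79.permC_mem_NN σ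
  · rw [card_map_of_injective permHom_injective,
      Nat.card_congr (subgroupOfEquivOfLe fun x hx => (mem_A7.1 hx).1.1).toEquiv, card_A7]
  · rintro _ ⟨σ, -, rfl⟩ ⟨-, c, hc, h⟩
    rw [H79.permHom_apply, ← H79.monoC_empty, ← H79.monoC_one] at h
    rw [(H79.monoC_inj h).1, map_one]

theorem jobMcL : JobMcL.{u} := by
  intro G _ _ L hL ⟨e⟩
  obtain ⟨B, B', h⟩ := at_McL
  obtain ⟨e'⟩ := equiv_LM
  exact facts_of hL (e.trans e') h

end H77.Wr
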